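import Groth.Agent.EtDl.K556.Game1
import Groth.Agent.S0558

/-!
# Divisors of monomials are locally monomials; certificates for completely split polynomials
-/

set_option autoImplicit false
universe u

open Polynomial

namespace K556.Mono

open K556.CertDef K556.SncAlg K556.SncPoly K556.CertBasic K556.Tor K556.Univ K556.Game2 K556.Game1

theorem dvd_prod {A : Type u} [CommRing A] [IsDomain A] {ι : Type} (z : ι → A) (hz : ∀ i, Prime (z i) ∨ IsUnit (z i))
    (s : Multiset ι) : ∀ (f g : A) (_ : f * g = (s.map z).prod), ∃ t : Multiset ι, Associated f (t.map z).prod := by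
  induction s using Multiset.induction_on with
  | empty =>
    intro f g hfg
    refine ⟨0, ?_⟩
    rw [Multiset.map_zero, Multiset.prod_zero] at hfg ⊢
    exact associated_one_iff_isUnit.2 (IsUnit.of_mul_eq_one _ hfg)
  | cons i s ih =>
    intro f g hfg
    rw [Multiset.map_cons, Multiset.prod_cons] at hfg
    rcases hz i with hi | hi
    · rcases hi.dvd_or_dvd (⟨_, hfg⟩ : z i ∣ f * g) with ⟨f₁, rfl⟩ | ⟨g₁, rfl⟩
      · rw [mul_assoc] at hfg
        obtain ⟨t, ht⟩ := ih f₁ g (mul_left_cancel₀ hi.ne_zero hfg)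
        refine ⟨i ::ₘ t, ?_⟩
        rw [Multiset.map_cons, Multiset.prod_cons]
        exact (Associated.refl _).mul_mul ht
      · rw [mul_left_comm] at hfg
        exact ih f g₁ (mul_left_cancel₀ hi.ne_zero hfg)
    · obtain ⟨v, hv⟩ := hi
      refine ih f (g * ((v⁻¹ : Aˣ) : A)) ?_
      rw [← mul_assoc, hfg, ← hv, mul_comm (v : A), mul_assoc, Units.mul_inv, mul_one]

theorem dvd_prod_pow {A : Type u} [CommRing A] [IsDomain A] {ι : Type} [Fintype ι] (z : ι → A)
    (hz : ∀ i, Prime (z i) ∨ IsUnit (z i)) (f : A) (N : ℕ) (hf : f ∣ (∏ i, z i) ^ N) :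
    ∃ (a : ι → ℕ) (v : A), IsUnit v ∧ f = v * ∏ i, z i ^ a i := by
  classical
  obtain ⟨g, hg⟩ := hf
  have h1 : (∏ i, z i) ^ N = ((N • (Finset.univ : Finset ι).val).map z).prod := by
    rw [Multiset.map_nsmul, Multiset.prod_nsmul]
    rfl
  obtain ⟨t, ht⟩ := dvd_prod z hz _ f g (hg.symm.trans h1)
  obtain ⟨v, hv⟩ := ht.symm
  refine ⟨fun i => t.count i, v, v.isUnit, ?_⟩
  rw [← hv, Finset.prod_multiset_map_count, mul_comm]
  congr 1
  refine Finset.prod_subset (Finset.subset_univ _) fun i _ hi => ?_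
  rw [Multiset.count_eq_zero_of_notMem (fun h => hi (Multiset.mem_toFinset.2 h)), pow_zero]

/-- The local rings. -/
theorem prime_or_unit {R : Type u} [CommRing R] {ι : Type} {z : ι → R} (h : SNC R z) (p : PrimeSpectrum R) (i : ι) :
    Prime (algebraMap R (Localization.AtPrime p.asIdeal) (z i)) ∨
      IsUnit (algebraMap R (Localization.AtPrime p.asIdeal) (z i)) := by
  by_cases hi : z i ∈ p.asIdeal
  · left
    have h1 := SNC.localization h p.asIdeal.primeCompl (R' := Localization.AtPrime p.asIdeal)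
    have := noeth h
    have hreg := h1.reg {i}
    rw [Set.image_singleton] at hreg
    set x := algebraMap R (Localization.AtPrime p.asIdeal) (z i) with hx
    have hxm : x ∈ IsLocalRing.maximalIdeal (Localization.AtPrime p.asIdeal) :=
      (IsLocalization.AtPrime.to_map_mem_maximal_iff (Localization.AtPrime p.asIdeal) p.asIdeal (z i)).2 hi
    have hle : Ideal.span {x} ≤ IsLocalRing.maximalIdeal (Localization.AtPrime p.asIdeal) := by
      rwa [Ideal.span_singleton_le_iff_mem]
    have hnt : Nontrivial (Localization.AtPrime p.asIdeal ⧸ Ideal.span {x}) :=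
      Ideal.Quotient.nontrivial_iff.2 (fun h => (IsLocalRing.maximalIdeal.isMaximal _).ne_top (top_le_iff.1 (h ▸ hle)))
    have hloc : IsLocalRing (Localization.AtPrime p.asIdeal ⧸ Ideal.span {x}) :=
      IsLocalRing.of_surjective' (Ideal.Quotient.mk _) Ideal.Quotient.mk_surjective
    have hreg' : IsRegularLocalRing (Localization.AtPrime p.asIdeal ⧸ Ideal.span {x}) :=
      IsRegularLocalRing.of_isRegularRing_of_isLocalRing _
    have hdom : IsDomain (Localization.AtPrime p.asIdeal ⧸ Ideal.span {x}) := Groth.Agent.S0558.result _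
    have hx0 : x ≠ 0 := fun h0 => by
      have h2 := h1.inj ∅ i (Set.notMem_empty i) 1 (by
        change x * 1 ∈ _
        rw [h0, zero_mul]; exact Ideal.zero_mem _)
      rw [Set.image_empty, Ideal.span_empty, Ideal.mem_bot] at h2
      exact one_ne_zero h2
    rw [← Ideal.span_singleton_prime hx0]
    exact (Ideal.Quotient.isDomain_iff_prime _).1 hdom
  · right
    exact IsLocalization.map_units (Localization.AtPrime p.asIdeal) (⟨z i, hi⟩ : p.asIdeal.primeCompl)

/-- Divisors of monomials are locally monomials. -/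
theorem exists_away {R : Type u} [CommRing R] {ι : Type} [Fintype ι] {z : ι → R} (h : SNC R z)
    (p : PrimeSpectrum R) (f : R) (N : ℕ) (hf : f ∣ (∏ i, z i) ^ N) :
    ∃ (a : ι → ℕ) (s : R), s ∉ p.asIdeal ∧ ∀ t : R, s ∣ t → ∀ (R' : Type u) [CommRing R'] [Algebra R R']
      [IsLocalization.Away t R'], ∃ v : R', IsUnit v ∧ algebraMap R R' f = v * ∏ i, algebraMap R R' (z i) ^ a i := by
  have hreg := SNC.isRegularRing h
  have := hreg.isRegularLocalRing_localization p.asIdeal
  have hdom : IsDomain (Localization.AtPrime p.asIdeal) := Groth.Agent.S0558.result _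
  have hf' : algebraMap R (Localization.AtPrime p.asIdeal) f ∣
      (∏ i, algebraMap R (Localization.AtPrime p.asIdeal) (z i)) ^ N := by
    rw [← map_prod, ← map_pow]
    exact map_dvd _ hf
  obtain ⟨a, v, hv, hfv⟩ := dvd_prod_pow _ (prime_or_unit h p) _ N hf'
  refine ⟨a, ?_⟩
  -- `v = x / y`
  obtain ⟨⟨x, y⟩, hxy⟩ := IsLocalization.surj p.asIdeal.primeCompl v
  simp only at hxy
  have hx : x ∉ p.asIdeal := by
    intro hx
    have h1 : IsUnit (algebraMap R (Localization.AtPrime p.asIdeal) x) := by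
      rw [← hxy]
      exact hv.mul (IsLocalization.map_units _ y)
    exact (IsLocalization.AtPrime.isUnit_to_map_iff (Localization.AtPrime p.asIdeal) p.asIdeal x).1 h1 hx
  have h1 : algebraMap R (Localization.AtPrime p.asIdeal) (y * f) =
      algebraMap R (Localization.AtPrime p.asIdeal) (x * ∏ i, z i ^ a i) := by
    rw [map_mul, map_mul, hfv, ← hxy, map_prod]
    simp only [map_pow]
    ring
  obtain ⟨c, hc⟩ := (IsLocalization.eq_iff_exists p.asIdeal.primeCompl _).1 h1
  refine ⟨c * x * y, ?_, ?_⟩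
  · intro hmem
    rcases p.2.mem_or_mem hmem with hmem | hmem
    · rcases p.2.mem_or_mem hmem with hmem | hmem
      · exact c.2 hmem
      · exact hx hmem
    · exact y.2 hmem
  · rintro _ ⟨t, rfl⟩ R' _ _ _
    have hu : IsUnit (algebraMap R R' (c * x * y * t)) := IsLocalization.Away.algebraMap_isUnit _
    rw [map_mul, map_mul, map_mul] at hu
    have huc := isUnit_of_mul_isUnit_left (isUnit_of_mul_isUnit_left (isUnit_of_mul_isUnit_left hu))
    have hux := isUnit_of_mul_isUnit_right (isUnit_of_mul_isUnit_left (isUnit_of_mul_isUnit_left hu))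
    have huy := isUnit_of_mul_isUnit_right (isUnit_of_mul_isUnit_left hu)
    obtain ⟨y', hy'⟩ := huy
    have h2 := congrArg (algebraMap R R') hc
    rw [map_mul (algebraMap R R') (c : R) (y * f), map_mul (algebraMap R R') (c : R) (x * ∏ i, z i ^ a i)] at h2
    have h3 := huc.mul_left_cancel h2
    rw [map_mul, map_mul, map_prod] at h3
    refine ⟨((y'⁻¹ : R'ˣ) : R') * algebraMap R R' x, (Units.isUnit _).mul hux, ?_⟩
    simp only [map_pow] at h3
    rw [mul_assoc, ← h3, ← hy', ← mul_assoc, Units.inv_mul, one_mul]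

/-- Completely split polynomials. -/
theorem res_split {R : Type u} [CommRing R] {ι κ : Type} [Fintype ι] [Fintype κ] {z : ι → R} (h : SNC R z)
    (σ : κ → R) (N : ℕ) (hσ : ∀ i j, i ≠ j → σ i - σ j ∣ (∏ i, z i) ^ N)
    (of_poly : ∀ {f : R[X]} (_ : ∀ p : PrimeSpectrum R, ∃ s : R, s ∉ p.asIdeal ∧
      Res (Localization.Away s)[X] (f.map (algebraMap R _))), Res R[X] f) : Res R[X] (fn z σ) := by
  classical
  refine of_poly fun p => ?_
  have key : ∀ ij : κ × κ, ∃ (a : ι → ℕ) (s : R), s ∉ p.asIdeal ∧ (ij.1 ≠ ij.2 → ∀ t : R, s ∣ t →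
      ∀ (R' : Type u) [CommRing R'] [Algebra R R'] [IsLocalization.Away t R'], ∃ v : R', IsUnit v ∧
        algebraMap R R' (σ ij.1 - σ ij.2) = v * ∏ i, algebraMap R R' (z i) ^ a i) := by
    intro ij
    by_cases hij : ij.1 = ij.2
    · exact ⟨0, 1, fun h => p.2.ne_top ((Ideal.eq_top_iff_one _).2 h), fun h => absurd hij h⟩
    · obtain ⟨a, s, hs, H⟩ := exists_away h p _ N (hσ ij.1 ij.2 hij)
      exact ⟨a, s, hs, fun _ => H⟩
  choose a s hs H using key
  refine ⟨∏ ij, s ij, ?_, ?_⟩
  · rw [Ideal.IsPrime.prod_mem_iff]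
    rintro ⟨ij, -, hij⟩
    exact hs ij hij
  · have hsec : Sec (Localization.Away (∏ ij, s ij)) (fun i => algebraMap R (Localization.Away (∏ ij, s ij)) (z i))
        (fun k => algebraMap R _ (σ k)) (fun i j => a (i, j)) := by
      refine ⟨SNC.localization h (Submonoid.powers (∏ ij, s ij)), fun i j hij => ?_⟩
      rw [← map_sub]
      exact H (i, j) hij _ (Finset.dvd_prod_of_mem s (Finset.mem_univ (i, j))) _
    have h1 := game1 hsec
    have e : (fn z σ).map (algebraMap R (Localization.Away (∏ ij, s ij))) =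
        fn (fun i => algebraMap R (Localization.Away (∏ ij, s ij)) (z i)) (fun k => algebraMap R _ (σ k)) := by
      unfold fn
      rw [Polynomial.map_mul, Polynomial.map_prod, Polynomial.map_C, map_prod]
      simp
    rw [e]
    exact h1

end K556.Mono
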