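import Groth.Agent.EtDl.K556.CertBasic

/-!
# Certificates for the toric surfaces `T S = z^a` over a ring with strict normal crossings
-/

set_option autoImplicit false
universe u

open Polynomial

namespace K556.Tor

open K556.CertDef K556.SncAlg K556.SncPoly K556.CertBasic

/-- `Q = R[T, S] / (T S - m)`. -/
structure IsTor (R : Type u) [CommRing R] (Q : Type u) [CommRing Q] [Algebra R Q] (m : R) (T S : Q) : Prop where
  eq : T * S = algebraMap R Q m
  lift : ∀ (B : Type u) [CommRing B] [Algebra R B] (t s : B), t * s = algebraMap R B m →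
    ∃ φ : Q →ₐ[R] B, φ T = t ∧ φ S = s
  ext : ∀ (B : Type u) [CommRing B] [Algebra R B] (φ ψ : Q →ₐ[R] B), φ T = ψ T → φ S = ψ S → φ = ψ

variable {R : Type u} [CommRing R]

theorem IsTor.exists_equiv {m : R} {Q Q' : Type u} [CommRing Q] [CommRing Q'] [Algebra R Q] [Algebra R Q']
    {T S : Q} {T' S' : Q'} (h : IsTor R Q m T S) (h' : IsTor R Q' m T' S') :
    ∃ e : Q ≃ₐ[R] Q', e T = T' ∧ e S = S' := by
  obtain ⟨φ, h1, h2⟩ := h.lift Q' T' S' h'.eq
  obtain ⟨ψ, h3, h4⟩ := h'.lift Q T S h.eq
  refine ⟨AlgEquiv.ofAlgHom φ ψ (h'.ext _ _ _ ?_ ?_) (h.ext _ _ _ ?_ ?_), h1, h2⟩ <;> simp [h1, h2, h3, h4]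

/-- The model. -/
theorem isTor_model (m : R) : IsTor R (R[X][X] ⧸ Ideal.span {(C X * X - C (C m) : R[X][X])}) m
    (Ideal.Quotient.mk _ (C X)) (Ideal.Quotient.mk _ X) := by
  refine ⟨?_, ?_, ?_⟩
  · rw [← map_mul]
    exact (Ideal.Quotient.mk_eq_mk_iff_sub_mem _ _).2 (Ideal.mem_span_singleton_self _)
  · intro B _ _ t s hts
    let f : R[X][X] →ₐ[R] B := Polynomial.aevalAeval t s
    refine ⟨Ideal.Quotient.liftₐ _ f ?_, ?_, ?_⟩
    · intro a ha
      rw [Ideal.mem_span_singleton] at ha
      obtain ⟨b, rfl⟩ := ha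
      rw [map_mul]
      have : f (C X * X - C (C m)) = 0 := by simp [f, mul_comm s t, hts]
      rw [this, zero_mul]
    · change f (C X) = t
      simp [f]
    · change f X = s
      simp [f]
  · intro B _ _ φ ψ h1 h2
    apply Ideal.Quotient.algHom_ext
    have h1' : (φ.comp (Ideal.Quotient.mkₐ R _)).comp Polynomial.CAlgHom =
        (ψ.comp (Ideal.Quotient.mkₐ R (Ideal.span {(C X * X - C (C m) : R[X][X])}))).comp Polynomial.CAlgHom :=
      Polynomial.algHom_ext h1
    exact Polynomial.algHom_ext' h1' h2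

theorem isTor_model' (m : R) (N : R[X][X]) (hN : N = C X * X - C (C m)) : IsTor R (R[X][X] ⧸ Ideal.span {N}) m
    (Ideal.Quotient.mk _ (C X)) (Ideal.Quotient.mk _ X) := by
  subst hN
  exact isTor_model m

/-- The first chart of the modification. -/
theorem isTor_T0 {m m' w : R} (hm : m = w * m') {Q : Type u} [CommRing Q] [Algebra R Q] {T S : Q}
    (h : IsTor R Q m T S) : IsTor R (K852.PMod.T0 T (algebraMap R Q w) (algebraMap R Q m') S) m'
      (Ideal.Quotient.mk _ X) (algebraMap Q _ S) := by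
  set Q' := K852.PMod.T0 T (algebraMap R Q w) (algebraMap R Q m') S with hQ'
  let π : Q[X] →+* Q' := Ideal.Quotient.mk _
  have e1 : algebraMap Q Q' T = algebraMap R Q' w * π X := by
    have : π (C T - C (algebraMap R Q w) * X) = 0 :=
      Ideal.Quotient.eq_zero_iff_mem.2 (Ideal.subset_span (Set.mem_insert _ _))
    rw [map_sub, map_mul, sub_eq_zero] at this
    exact this
  have e2 : algebraMap R Q' m' = algebraMap Q Q' S * π X := by
    have : π (C (algebraMap R Q m') - C S * X) = 0 :=
      Ideal.Quotient.eq_zero_iff_mem.2 (Ideal.subset_span (Set.mem_insert_of_mem _ rfl))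
    rw [map_sub, map_mul, sub_eq_zero] at this
    exact this
  refine ⟨?_, ?_, ?_⟩
  · rw [e2, mul_comm]
  · intro B _ _ t s hts
    obtain ⟨φ, h1, h2⟩ := h.lift B (algebraMap R B w * t) s (by rw [hm, map_mul, mul_assoc, hts])
    let _ : Algebra Q B := φ.toRingHom.toAlgebra
    have : IsScalarTower R Q B := IsScalarTower.of_algebraMap_eq fun r => (φ.commutes r).symm
    let f : Q[X] →ₐ[R] B := (Polynomial.aeval t : Q[X] →ₐ[Q] B).restrictScalars R
    have hf : ∀ q : Q, f (C q) = φ q := fun q => by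
      change (Polynomial.aeval t) (C q) = _
      rw [aeval_C]; rfl
    have hfX : f X = t := aeval_X _
    refine ⟨Ideal.Quotient.liftₐ _ f ?_, hfX, ?_⟩
    · have : Ideal.span {C T - C (algebraMap R Q w) * X, C (algebraMap R Q m') - C S * X} ≤
          RingHom.ker f.toRingHom := by
        rw [Ideal.span_le]
        rintro _ (rfl | rfl)
        · change f _ = 0
          rw [map_sub, map_mul, hf, hf, hfX, h1, φ.commutes, sub_self]
        · change f _ = 0
          rw [map_sub, map_mul, hf, hf, hfX, h2, φ.commutes, mul_comm s t, hts, sub_self]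
      exact fun a ha => this ha
    · exact (hf S).trans h2
  · intro B _ _ φ ψ h1 h2
    apply Ideal.Quotient.algHom_ext
    have h1' : (φ.comp (IsScalarTower.toAlgHom R Q Q')) = (ψ.comp (IsScalarTower.toAlgHom R Q Q')) := by
      refine h.ext _ _ _ ?_ h2
      change φ (algebraMap Q Q' T) = ψ (algebraMap Q Q' T)
      rw [e1, map_mul, map_mul, φ.commutes, ψ.commutes]
      exact congrArg _ h1
    have h3 : (φ.comp (Ideal.Quotient.mkₐ R _)).comp Polynomial.CAlgHom =
        (ψ.comp (Ideal.Quotient.mkₐ R _)).comp Polynomial.CAlgHom := h1'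
    exact Polynomial.algHom_ext' h3 h1

/-- The second chart of the modification. -/
theorem isTor_T1 {m m' w : R} (hm : m = w * m') {Q : Type u} [CommRing Q] [Algebra R Q] {T S : Q}
    (h : IsTor R Q m T S) : IsTor R (K852.PMod.T1 T (algebraMap R Q w) (algebraMap R Q m') S) w
      (algebraMap Q _ T) (Ideal.Quotient.mk _ X) := by
  set Q' := K852.PMod.T1 T (algebraMap R Q w) (algebraMap R Q m') S with hQ'
  let π : Q[X] →+* Q' := Ideal.Quotient.mk _
  have e1 : algebraMap Q Q' T * π X = algebraMap R Q' w := by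
    have : π (C T * X - C (algebraMap R Q w)) = 0 :=
      Ideal.Quotient.eq_zero_iff_mem.2 (Ideal.subset_span (Set.mem_insert _ _))
    rw [map_sub, map_mul, sub_eq_zero] at this
    exact this
  have e2 : algebraMap R Q' m' * π X = algebraMap Q Q' S := by
    have : π (C (algebraMap R Q m') * X - C S) = 0 :=
      Ideal.Quotient.eq_zero_iff_mem.2 (Ideal.subset_span (Set.mem_insert_of_mem _ rfl))
    rw [map_sub, map_mul, sub_eq_zero] at this
    exact this
  refine ⟨e1, ?_, ?_⟩
  · intro B _ _ t s hts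
    obtain ⟨φ, h1, h2⟩ := h.lift B t (algebraMap R B m' * s) (by rw [hm, map_mul, ← hts]; ring)
    let _ : Algebra Q B := φ.toRingHom.toAlgebra
    have : IsScalarTower R Q B := IsScalarTower.of_algebraMap_eq fun r => (φ.commutes r).symm
    let f : Q[X] →ₐ[R] B := (Polynomial.aeval s : Q[X] →ₐ[Q] B).restrictScalars R
    have hf : ∀ q : Q, f (C q) = φ q := fun q => by
      change (Polynomial.aeval s) (C q) = _
      rw [aeval_C]; rfl
    have hfX : f X = s := aeval_X _
    refine ⟨Ideal.Quotient.liftₐ _ f ?_, ?_, hfX⟩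
    · have : Ideal.span {C T * X - C (algebraMap R Q w), C (algebraMap R Q m') * X - C S} ≤
          RingHom.ker f.toRingHom := by
        rw [Ideal.span_le]
        rintro _ (rfl | rfl)
        · change f _ = 0
          rw [map_sub, map_mul, hf, hf, hfX, h1, φ.commutes, hts, sub_self]
        · change f _ = 0
          rw [map_sub, map_mul, hf, hf, hfX, h2, φ.commutes, sub_self]
      exact fun a ha => this ha
    · exact (hf T).trans h1
  · intro B _ _ φ ψ h1 h2
    apply Ideal.Quotient.algHom_ext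
    have h1' : (φ.comp (IsScalarTower.toAlgHom R Q Q')) = (ψ.comp (IsScalarTower.toAlgHom R Q Q')) := by
      refine h.ext _ _ _ h1 ?_
      change φ (algebraMap Q Q' S) = ψ (algebraMap Q Q' S)
      rw [← e2, map_mul, map_mul, φ.commutes, ψ.commutes]
      exact congrArg _ h2
    have h3 : (φ.comp (Ideal.Quotient.mkₐ R _)).comp Polynomial.CAlgHom =
        (ψ.comp (Ideal.Quotient.mkₐ R _)).comp Polynomial.CAlgHom := h1'
    exact Polynomial.algHom_ext' h3 h2

/-- The case `m = 1`. -/
theorem res_one {ι : Type} [Fintype ι] {z : ι → R} (h : SNC R z) {Q : Type u} [CommRing Q] [Algebra R Q]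
    {T S : Q} (hQ : IsTor R Q 1 T S) : Res Q (T * algebraMap R Q (∏ i, z i)) := by
  classical
  obtain ⟨e, h1, h2⟩ := hQ.exists_equiv (isTor_model' (1 : R) (C X * X - 1) (by rw [C_1, C_1]))
  have hp := Res.leaf (SNC.polynomial h 0)
  have hloc : IsLocalization.Away (X : R[X]) (AdjoinRoot (C X * X - 1 : R[X][X])) :=
    IsLocalization.adjoin_inv (X : R[X])
  have hr := Res.localizationAway hp X (AdjoinRoot (C X * X - 1 : R[X][X]))
  refine Res.of_ringEquiv e.toRingEquiv ?_
  have e3 : e (T * algebraMap R Q (∏ i, z i)) =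
      algebraMap R[X] (AdjoinRoot (C X * X - 1 : R[X][X])) (X * C (∏ i, z i)) := by
    rw [map_mul, map_mul, h1, e.commutes]
    rfl
  have e4 : ∏ o : Option ι, (o.elim (X - C 0) (fun i => C (z i)) : R[X]) = X * C (∏ i, z i) := by
    rw [Fintype.prod_option]
    simp
  rw [e4, ← e3] at hr
  exact hr

theorem prod_update_mem {ι : Type} [Fintype ι] [DecidableEq ι] {A : Type u} [CommRing A] (𝔭 : Ideal A)
    [h𝔭 : 𝔭.IsPrime] (y : Option ι → A) (j : ι) (x : A) (hx : y none * x = y (some j))
    (h : y none * ∏ i, y (some i) ∈ 𝔭) : ∏ o, Function.update y (some j) x o ∈ 𝔭 := by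
  have h0 : y none ∈ 𝔭 → ∏ o, Function.update y (some j) x o ∈ 𝔭 := fun h => by
    rw [Ideal.IsPrime.prod_mem_iff]
    exact ⟨none, Finset.mem_univ _, by rwa [Function.update_of_ne (Option.some_ne_none j).symm]⟩
  rcases h𝔭.mem_or_mem h with h | h
  · exact h0 h
  · obtain ⟨k, -, hk⟩ := (Ideal.IsPrime.prod_mem_iff).1 h
    by_cases hkj : k = j
    · rw [hkj, ← hx] at hk
      rcases h𝔭.mem_or_mem hk with hk | hk
      · exact h0 hk
      · rw [Ideal.IsPrime.prod_mem_iff]
        exact ⟨some j, Finset.mem_univ _, by rwa [Function.update_self]⟩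
    · rw [Ideal.IsPrime.prod_mem_iff]
      exact ⟨some k, Finset.mem_univ _, by rwa [Function.update_of_ne (fun h => hkj (Option.some_injective _ h))]⟩

/-- The case `m = z_j`. -/
theorem res_coord {ι : Type} [Fintype ι] {z : ι → R} (h : SNC R z) (j : ι) {Q : Type u} [CommRing Q]
    [Algebra R Q] {T S : Q} (hQ : IsTor R Q (z j) T S) : Res Q (T * algebraMap R Q (∏ i, z i)) := by
  classical
  have hs := SNC.blowup (SNC.polynomial h 0) none (some j) (Option.some_ne_none j).symm
  have hN : (C (X - C 0) * X - C (C (z j)) : R[X][X]) = C X * X - C (C (z j)) := by rw [C_0, sub_zero]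
  obtain ⟨e, h1, h2⟩ := hQ.exists_equiv (isTor_model' (z j) _ hN)
  refine Res.of_ringEquiv e.toRingEquiv ?_
  refine Res.mono (Res.leaf hs) fun p hp => ?_
  have hp' : e (T * algebraMap R Q (∏ i, z i)) ∈ p.asIdeal := hp
  refine prod_update_mem (p.asIdeal) _ j _ ?_ ?_
  · have h3 := (isTor_model' (z j) _ hN).eq
    refine Eq.trans ?_ h3
    congr 2
    change C (X - C 0) = _
    rw [C_0, sub_zero]
  · rw [map_mul, h1, e.commutes, map_prod] at hp'
    have hX0 : (X - C 0 : R[X]) = X := by rw [C_0, sub_zero]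
    have e5 : (Ideal.Quotient.mk (Ideal.span {(C (X - C 0) * X - C (C (z j)) : R[X][X])})) (C X) =
        (Ideal.Quotient.mk (Ideal.span {(C (X - C 0) * X - C (C (z j)) : R[X][X])})) (C (X - C 0)) :=
      congrArg (fun t : R[X] =>
        Ideal.Quotient.mk (Ideal.span {(C (X - C 0) * X - C (C (z j)) : R[X][X])}) (C t)) hX0.symm
    rw [e5] at hp'
    exact hp'

theorem T0_T {Q : Type u} [CommRing Q] (T w m S : Q) :
    algebraMap Q (K852.PMod.T0 T w m S) T = algebraMap Q (K852.PMod.T0 T w m S) w * Ideal.Quotient.mk _ X := by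
  have : (Ideal.Quotient.mk (Ideal.span {C T - C w * X, C m - C S * X})) (C T - C w * X) = 0 :=
    Ideal.Quotient.eq_zero_iff_mem.2 (Ideal.subset_span (Set.mem_insert _ _))
  rw [map_sub, map_mul, sub_eq_zero] at this
  exact this

theorem mono_T0 {Q : Type u} [CommRing Q] [Algebra R Q] (T m S : Q) (w f : R) (hw : w ∣ f)
    (p : PrimeSpectrum (K852.PMod.T0 T (algebraMap R Q w) m S))
    (hp : algebraMap Q (K852.PMod.T0 T (algebraMap R Q w) m S) (T * algebraMap R Q f) ∈ p.asIdeal) :
    (Ideal.Quotient.mk _ X : K852.PMod.T0 T (algebraMap R Q w) m S) * algebraMap R _ f ∈ p.asIdeal := by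
  rw [map_mul, T0_T, ← IsScalarTower.algebraMap_apply, ← IsScalarTower.algebraMap_apply] at hp
  rcases p.2.mem_or_mem hp with hp | hp
  · rcases p.2.mem_or_mem hp with hp | hp
    · exact Ideal.mul_mem_left _ _ (Ideal.mem_of_dvd _ (map_dvd _ hw) hp)
    · exact Ideal.mul_mem_right _ _ hp
  · exact Ideal.mul_mem_left _ _ hp

/-- The toric surface `T S = ∏ z^a`. -/
theorem res_monomial {ι : Type} [Fintype ι] {z : ι → R} (h : SNC R z) (n : ℕ) : ∀ (a : ι → ℕ) (_ : ∑ i, a i = n)
    {Q : Type u} [CommRing Q] [Algebra R Q] {T S : Q} (_ : IsTor R Q (∏ i, z i ^ a i) T S),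
    Res Q (T * algebraMap R Q (∏ i, z i)) := by
  classical
  induction n with
  | zero =>
    intro a ha Q _ _ T S hQ
    have h0 : ∀ i, a i = 0 := fun i => by
      have := (Finset.sum_eq_zero_iff.1 ha) i (Finset.mem_univ i)
      exact this
    have h1 : ∏ i, z i ^ a i = 1 := Finset.prod_eq_one fun i _ => by rw [h0, pow_zero]
    rw [h1] at hQ
    exact res_one h hQ
  | succ n ih =>
    intro a ha Q _ _ T S hQ
    obtain ⟨j, hj⟩ : ∃ j, a j ≠ 0 := by
      by_contra hcon
      push Not at hcon
      rw [Finset.sum_eq_zero fun i _ => hcon i] at ha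
      omega
    let a' := Function.update a j (a j - 1)
    have e1 : ∏ i, z i ^ a i = z j * ∏ i, z i ^ a' i := by
      rw [← Finset.mul_prod_erase Finset.univ (fun i => z i ^ a i) (Finset.mem_univ j),
        ← Finset.mul_prod_erase Finset.univ (fun i => z i ^ a' i) (Finset.mem_univ j), ← mul_assoc, ← pow_succ']
      congr 1
      · simp only [a', Function.update_self]
        congr 1
        omega
      · refine Finset.prod_congr rfl fun i hi => ?_
        simp only [a', Function.update_of_ne (Finset.ne_of_mem_erase hi)]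
    have e2 : ∑ i, a' i = n := by
      rw [← Finset.add_sum_erase Finset.univ a (Finset.mem_univ j)] at ha
      rw [← Finset.add_sum_erase Finset.univ a' (Finset.mem_univ j)]
      have e3 : ∑ i ∈ Finset.univ.erase j, a' i = ∑ i ∈ Finset.univ.erase j, a i :=
        Finset.sum_congr rfl fun i hi => by simp only [a', Function.update_of_ne (Finset.ne_of_mem_erase hi)]
      rw [e3]
      simp only [a', Function.update_self]
      omega
    refine Res.pmod T (algebraMap R Q (z j)) (algebraMap R Q (∏ i, z i ^ a' i)) S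
      (by rw [hQ.eq, e1, map_mul]) ?_ ?_
    · refine Res.mono (ih a' e2 (isTor_T0 e1 hQ)) fun p hp => ?_
      exact mono_T0 _ _ _ _ _ (Finset.dvd_prod_of_mem _ (Finset.mem_univ j)) p hp
    · refine Res.mono (res_coord h j (isTor_T1 e1 hQ)) fun p hp => ?_
      rw [map_mul, ← IsScalarTower.algebraMap_apply] at hp
      exact hp

end K556.Tor
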