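import Groth.Agent.EtDl.K556.SncAlg
import Groth.Agent.Flat2G.SmoothRegNorm
import Mathlib.RingTheory.Etale.StandardEtale

/-!
# Strict normal crossings families: polynomial rings, charts of blowing ups, Kummer extensions
-/

set_option autoImplicit false
universe u

open IsLocalRing TensorProduct Polynomial

namespace K556.SncPoly

open K556.CertDef K556.SncAlg

variable {ι κ : Type} {R : Type u} [CommRing R]

/-- Reindexing along an equivalence. -/
theorem SNC.reindex {z : ι → R} (h : SNC R z) (e : κ ≃ ι) : SNC R (fun k => z (e k)) :=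
  SNC.comp h e e.injective

theorem noeth {z : ι → R} (h : SNC R z) : IsNoetherianRing R := by
  have := SNC.isRegularRing h
  infer_instance

/-- Smooth algebras. -/
theorem SNC.smooth {z : ι → R} (h : SNC R z) (R' : Type u) [CommRing R'] [Algebra R R'] [Algebra.Smooth R R'] :
    SNC R' (fun i => algebraMap R R' (z i)) := by
  have := noeth h
  have h1 : IsNoetherianRing R' := Algebra.FiniteType.isNoetherianRing R R'
  exact SNC.map h (Groth.Agent.Flat2G.SmoothRegNorm.isRegularHom_of_smooth R R')

/-- Localization. -/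
theorem SNC.localization {z : ι → R} (h : SNC R z) (S : Submonoid R) {R' : Type u} [CommRing R'] [Algebra R R']
    [IsLocalization S R'] : SNC R' (fun i => algebraMap R R' (z i)) := by
  have := noeth h
  have h1 : IsNoetherianRing R' := IsLocalization.isNoetherianRing S R' this
  exact SNC.map h (Groth.Agent.CalgB.RegHom7.isRegularHom_of_isLocalization R' S)

/-- The quotient by a subfamily. -/
theorem SNC.quotientSet {z : ι → R} (h : SNC R z) (J₀ : Set ι) {R' : Type u} [CommRing R'] (φ : R →+* R')
    (hφ : Function.Surjective φ) (hker : RingHom.ker φ = Ideal.span (z '' J₀)) :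
    SNC R' (fun i : {i : ι // i ∉ J₀} => φ (z i)) := by
  have key : ∀ J : Set {i : ι // i ∉ J₀}, (Ideal.span ((fun i : {i : ι // i ∉ J₀} => φ (z i)) '' J)).comap φ =
      Ideal.span (z '' (J₀ ∪ (Subtype.val '' J))) := by
    intro J
    have h1 : Ideal.span ((fun i : {i : ι // i ∉ J₀} => φ (z i)) '' J) = (Ideal.span (z '' (Subtype.val '' J))).map φ := by
      rw [Ideal.map_span, ← Set.image_comp, ← Set.image_comp]; rfl
    rw [h1, Ideal.comap_map_of_surjective _ hφ, ← RingHom.ker_eq_comap_bot, hker, Set.image_union,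
      Ideal.span_union, sup_comm]
  refine ⟨fun J => ?_, fun J i hi a ha => ?_⟩
  · have h1 := h.reg (J₀ ∪ (Subtype.val '' J))
    rw [← key] at h1
    have h2 : RingHom.ker ((Ideal.Quotient.mk (Ideal.span ((fun i : {i : ι // i ∉ J₀} => φ (z i)) '' J))).comp φ) =
        (Ideal.span ((fun i : {i : ι // i ∉ J₀} => φ (z i)) '' J)).comap φ := by
      rw [← RingHom.comap_ker, Ideal.mk_ker]
    exact IsRegularRing.of_ringEquiv ((Ideal.quotEquivOfEq h2.symm).trans
      (RingHom.quotientKerEquivOfSurjective (Ideal.Quotient.mk_surjective.comp hφ)))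
  · obtain ⟨b, rfl⟩ := hφ a
    rw [← map_mul, ← Ideal.mem_comap, key] at ha
    rw [← Ideal.mem_comap, key]
    refine h.inj _ i ?_ b ha
    rintro (h1 | ⟨j, hj, hji⟩)
    · exact i.2 h1
    · exact hi ((Subtype.ext hji : j = i) ▸ hj)

/-- The inductive construction, indexed version. -/
theorem SNC.step' [IsNoetherianRing R] (z : ι → R) (i : ι)
    {R₀ : Type u} [CommRing R₀] (φ : R →+* R₀) (hφ : Function.Surjective φ) (hker : RingHom.ker φ = Ideal.span {z i})
    (h0 : SNC R₀ (fun k : {k : ι // k ≠ i} => φ (z k)))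
    {R₁ : Type u} [CommRing R₁] [Algebra R R₁] [IsLocalization.Away (z i) R₁]
    (h1 : SNC R₁ (fun k : {k : ι // k ≠ i} => algebraMap R R₁ (z k)))
    (ht : ∀ (J : Set ι) (a : R), i ∉ J → z i * a ∈ Ideal.span (z '' J) → a ∈ Ideal.span (z '' J)) :
    SNC R z := by
  classical
  have h2 := SNC.step (z i) (fun k : {k : ι // k ≠ i} => z k) φ hφ hker h0 h1 (fun J a ha => ?_)
  · refine SNC.congr (SNC.reindex h2 (Equiv.optionSubtypeNe i).symm) fun k => ?_
    by_cases hk : k = i
    · subst hk
      simp
    · rw [Equiv.optionSubtypeNe_symm_of_ne hk]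
      rfl
  · have e : (fun k : {k : ι // k ≠ i} => z k) '' J = z '' (Subtype.val '' J) := by
      rw [← Set.image_comp]; rfl
    rw [e] at ha ⊢
    refine ht _ a ?_ ha
    rintro ⟨k, hk, hki⟩
    exact k.2 hki

/-- Monic polynomials are regular modulo extended ideals. -/
theorem monic_mul_mem_map {I : Ideal R} {p : R[X]} (hp : p.Monic) {a : R[X]}
    (ha : p * a ∈ I.map (C : R →+* R[X])) : a ∈ I.map (C : R →+* R[X]) := by
  have hk : I.map (C : R →+* R[X]) = RingHom.ker (mapRingHom (Ideal.Quotient.mk I)) := by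
    rw [Polynomial.ker_mapRingHom, Ideal.mk_ker]
  rw [hk, RingHom.mem_ker, coe_mapRingHom] at ha ⊢
  rw [Polynomial.map_mul] at ha
  rwa [(hp.map (Ideal.Quotient.mk I)).mul_right_eq_zero_iff] at ha

/-- Polynomial rings: the additional coordinate `X - σ`. -/
theorem SNC.polynomial {z : ι → R} (h : SNC R z) (σ : R) :
    SNC R[X] (fun o : Option ι => o.elim (X - C σ) (fun i => C (z i))) := by
  have := noeth h
  have hs : Algebra.Smooth R R[X] := ⟨inferInstance, inferInstance⟩
  refine SNC.step (X - C σ) (fun i => C (z i)) (evalRingHom σ) (fun r => ⟨C r, by simp⟩)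
    (Polynomial.ker_evalRingHom σ) (by simpa using h) (R₁ := Localization.Away (X - C σ : R[X])) ?_ ?_
  · exact SNC.localization (SNC.smooth h R[X]) (Submonoid.powers (X - C σ : R[X]))
  · intro J a ha
    have e : Ideal.span ((fun i => C (z i)) '' J) = (Ideal.span (z '' J)).map (C : R →+* R[X]) := by
      rw [Ideal.map_span, ← Set.image_comp]; rfl
    rw [e] at ha ⊢
    exact monic_mul_mem_map (monic_X_sub_C σ) ha

/-- Quotients by an ideal which is trivial. -/
theorem SNC.quotient_single {z : ι → R} (h : SNC R z) (i : ι) {R' : Type u} [CommRing R'] (φ : R →+* R')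
    (hφ : Function.Surjective φ) (hker : RingHom.ker φ = Ideal.span {z i}) :
    SNC R' (fun k : {k : ι // k ≠ i} => φ (z k)) :=
  SNC.quotientSet h {i} φ hφ (by rw [Set.image_singleton]; exact hker)

/-- A criterion for being the localization of an intermediate ring. -/
theorem isLocalization_away_of (w : R) {R' R₁ : Type*} [CommRing R'] [CommRing R₁] [Algebra R R'] [Algebra R R₁]
    [Algebra R' R₁] [IsScalarTower R R' R₁] [IsLocalization.Away w R₁]
    (h : ∀ x : R', ∃ (n : ℕ) (r : R), algebraMap R R' w ^ n * x = algebraMap R R' r) :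
    IsLocalization.Away (algebraMap R R' w) R₁ := by
  refine ⟨?_, ?_, ?_⟩
  · rintro ⟨_, n, rfl⟩
    rw [map_pow, ← IsScalarTower.algebraMap_apply]
    exact (IsLocalization.Away.algebraMap_isUnit w).pow n
  · intro x
    obtain ⟨⟨a, ⟨_, n, rfl⟩⟩, ha⟩ := IsLocalization.surj (Submonoid.powers w) x
    refine ⟨⟨algebraMap R R' a, ⟨algebraMap R R' w ^ n, n, rfl⟩⟩, ?_⟩
    change x * algebraMap R' R₁ (algebraMap R R' w ^ n) = algebraMap R' R₁ (algebraMap R R' a)
    rw [← map_pow, ← IsScalarTower.algebraMap_apply, ← IsScalarTower.algebraMap_apply]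
    exact ha
  · intro x y hxy
    obtain ⟨n, r, hr⟩ := h (x - y)
    have h1 : algebraMap R R₁ r = 0 := by
      rw [IsScalarTower.algebraMap_apply R R' R₁, ← hr, map_mul, map_sub, hxy, sub_self, mul_zero]
    obtain ⟨⟨_, m, rfl⟩, hm⟩ := (IsLocalization.map_eq_zero_iff (Submonoid.powers w) R₁ r).1 h1
    refine ⟨⟨algebraMap R R' w ^ (m + n), m + n, rfl⟩, ?_⟩
    change algebraMap R R' w ^ (m + n) * x = algebraMap R R' w ^ (m + n) * y
    rw [← sub_eq_zero, ← mul_sub, pow_add, mul_assoc, hr, ← map_pow, ← map_mul]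
    change algebraMap R R' (w ^ m * r) = 0
    rw [show w ^ m * r = 0 from hm, map_zero]

/-- The chart of the blowing up of `(z_i, z_j)` where `z_j = z_i X`. -/
theorem SNC.blowup [DecidableEq ι] {z : ι → R} (h : SNC R z) (i j : ι) (hij : i ≠ j) :
    SNC (R[X] ⧸ Ideal.span {C (z i) * X - C (z j)})
      (Function.update (fun k => Ideal.Quotient.mk (Ideal.span {C (z i) * X - C (z j)}) (C (z k))) j
        (Ideal.Quotient.mk (Ideal.span {C (z i) * X - C (z j)}) X)) := by
  have := noeth h
  set N : R[X] := C (z i) * X - C (z j) with hN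
  set R' := R[X] ⧸ Ideal.span {N} with hR'
  let π : R[X] →+* R' := Ideal.Quotient.mk (Ideal.span {N})
  have hπ : Function.Surjective π := Ideal.Quotient.mk_surjective
  have hπN : π (C (z i)) * π X = π (C (z j)) := by
    rw [← map_mul, ← sub_eq_zero, ← map_sub]
    exact Ideal.Quotient.eq_zero_iff_mem.2 (Ideal.mem_span_singleton_self N)
  let y : ι → R[X] := Function.update (fun k => C (z k)) j X
  have hyi : y i = C (z i) := Function.update_of_ne hij _ _
  have hyj : y j = X := Function.update_self _ _ _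
  have hyk : ∀ k, k ≠ j → y k = C (z k) := fun k hk => Function.update_of_ne hk _ _
  have hz' : (Function.update (fun k => π (C (z k))) j (π X)) = fun k => π (y k) := by
    funext k
    by_cases hk : k = j
    · subst hk
      rw [Function.update_self, hyj]
    · rw [Function.update_of_ne hk, hyk k hk]
  change SNC R' (Function.update (fun k => π (C (z k))) j (π X))
  rw [hz']
  -- the quotient
  let J₀ : Ideal R := Ideal.span {z i, z j}
  have hJ₀ : J₀ = Ideal.span (z '' {i, j}) := by rw [Set.image_pair]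
  have hmi : Ideal.Quotient.mk J₀ (z i) = 0 :=
    Ideal.Quotient.eq_zero_iff_mem.2 (Ideal.subset_span (Set.mem_insert _ _))
  have hmj : Ideal.Quotient.mk J₀ (z j) = 0 :=
    Ideal.Quotient.eq_zero_iff_mem.2 (Ideal.subset_span (Set.mem_insert_of_mem _ rfl))
  let φ : R' →+* (R ⧸ J₀)[X] := Ideal.Quotient.lift (Ideal.span {N}) (mapRingHom (Ideal.Quotient.mk J₀)) (by
    intro a ha
    rw [Ideal.mem_span_singleton] at ha
    obtain ⟨b, rfl⟩ := ha
    rw [hN, coe_mapRingHom, Polynomial.map_mul, Polynomial.map_sub, Polynomial.map_mul, Polynomial.map_C,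
      Polynomial.map_C, hmi, hmj, C_0, zero_mul, sub_zero, zero_mul])
  have hφπ : ∀ f : R[X], φ (π f) = f.map (Ideal.Quotient.mk J₀) := fun f => rfl
  have hφ : Function.Surjective φ := by
    intro x
    obtain ⟨f, rfl⟩ := Polynomial.map_surjective _ (Ideal.Quotient.mk_surjective (I := J₀)) x
    exact ⟨π f, rfl⟩
  have hker : RingHom.ker φ = Ideal.span {π (y i)} := by
    apply le_antisymm
    · intro x hx
      obtain ⟨f, rfl⟩ := hπ x
      rw [RingHom.mem_ker, hφπ, ← coe_mapRingHom, ← RingHom.mem_ker, Polynomial.ker_mapRingHom, Ideal.mk_ker,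
        Ideal.map_span, Set.image_pair] at hx
      have h1 := Ideal.mem_map_of_mem π hx
      rw [Ideal.map_span, Set.image_pair] at h1
      refine (Ideal.span_le.2 ?_ : Ideal.span {π (C (z i)), π (C (z j))} ≤ _) h1
      rintro _ (rfl | rfl)
      · rw [hyi]; exact Ideal.mem_span_singleton_self _
      · rw [hyi, ← hπN]; exact Ideal.mul_mem_right _ _ (Ideal.mem_span_singleton_self _)
    · rw [Ideal.span_singleton_le_iff_mem, RingHom.mem_ker, hφπ, hyi, Polynomial.map_C,
        Ideal.Quotient.eq_zero_iff_mem.2 (Ideal.subset_span (Set.mem_insert _ _)), map_zero]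
  have h0 : SNC (R ⧸ J₀)[X] (fun k : {k : ι // k ≠ i} => φ (π (y k))) := by
    have h1 := SNC.quotientSet h {i, j} (Ideal.Quotient.mk J₀) Ideal.Quotient.mk_surjective
      (by rw [Ideal.mk_ker, hJ₀])
    have h2 := SNC.polynomial h1 0
    let f : {k : ι // k ≠ i} → Option {k : ι // k ∉ ({i, j} : Set ι)} := fun k =>
      if hk : (k : ι) = j then none else some ⟨k, by
        rintro (h | h)
        · exact k.2 h
        · exact hk h⟩
    have hf : Function.Injective f := by
      intro a b hab
      by_cases ha : (a : ι) = j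
      · by_cases hb : (b : ι) = j
        · exact Subtype.ext (ha.trans hb.symm)
        · simp [f, ha, hb] at hab
      · by_cases hb : (b : ι) = j
        · simp [f, ha, hb] at hab
        · simp only [f, ha, hb, dif_neg, not_false_eq_true, Option.some.injEq, Subtype.mk.injEq] at hab
          exact Subtype.ext hab
    refine SNC.congr (SNC.comp h2 f hf) fun k => ?_
    by_cases hk : (k : ι) = j
    · simp [f, hk, hφπ, hyj]
    · simp [f, hk, hφπ, hyk]
  -- the localization
  let R₁ := Localization.Away (z i)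
  let q : R₁ := IsLocalization.Away.invSelf (z i) * algebraMap R R₁ (z j)
  have hq : algebraMap R R₁ (z i) * q = algebraMap R R₁ (z j) := by
    change _ * (_ * _) = _
    rw [← mul_assoc, IsLocalization.Away.mul_invSelf, one_mul]
  let ψ : R' →+* R₁ := Ideal.Quotient.lift (Ideal.span {N}) (eval₂RingHom (algebraMap R R₁) q) (by
    intro a ha
    rw [Ideal.mem_span_singleton] at ha
    obtain ⟨b, rfl⟩ := ha
    rw [map_mul, hN, map_sub, map_mul, coe_eval₂RingHom, eval₂_C, eval₂_C, eval₂_X, hq, sub_self, zero_mul])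
  let _ : Algebra R' R₁ := ψ.toAlgebra
  have hst : IsScalarTower R R' R₁ := IsScalarTower.of_algebraMap_eq fun r => by
    change _ = ψ (π (C r))
    exact (eval₂_C _ _).symm
  have hloc : IsLocalization.Away (π (y i)) R₁ := by
    rw [hyi]
    refine isLocalization_away_of (R := R) (R' := R') (z i) ?_
    intro x
    obtain ⟨f, rfl⟩ := hπ x
    change ∃ (n : ℕ) (r : R), π (C (z i)) ^ n * π f = π (C r)
    induction f using Polynomial.induction_on' with
    | add p q hp hq =>
      obtain ⟨n, r, hr⟩ := hp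
      obtain ⟨m, s, hs⟩ := hq
      refine ⟨n + m, z i ^ m * r + z i ^ n * s, ?_⟩
      rw [map_add, pow_add, map_add, map_add, map_mul, map_mul, map_mul, map_mul, ← hr, ← hs, map_pow, map_pow,
        map_pow, map_pow]
      ring
    | monomial n a =>
      refine ⟨n, a * z j ^ n, ?_⟩
      rw [← C_mul_X_pow_eq_monomial, map_mul, map_pow, map_mul, map_pow, map_mul, map_pow, ← hπN]
      ring
  have h1 : SNC R₁ (fun k : {k : ι // k ≠ i} => algebraMap R' R₁ (π (y k))) := by
    have h1 := SNC.comp (SNC.localization h (Submonoid.powers (z i)) (R' := R₁))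
      (Subtype.val : {k : ι // k ≠ i} → ι) Subtype.val_injective
    refine SNC.units h1 fun k => ?_
    change Associated (algebraMap R R₁ (z k)) (ψ (π (y k)))
    by_cases hk : (k : ι) = j
    · rw [hk, hyj]
      have e : ψ (π X) = q := eval₂_X _ _
      rw [e, ← hq, mul_comm]
      exact (associated_mul_unit_left q _ (IsLocalization.Away.algebraMap_isUnit (z i)))
    · rw [hyk _ hk]
      have e : ψ (π (C (z k))) = algebraMap R R₁ (z k) := eval₂_C _ _
      rw [e]
  -- regularity of the sequence
  refine SNC.step' (fun k => π (y k)) i φ hφ hker h0 (R₁ := R₁) h1 ?_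
  intro J a hiJ ha
  obtain ⟨f, rfl⟩ := hπ a
  -- the ideal
  have hcomap : ∀ g : R[X], π g ∈ Ideal.span ((fun k => π (y k)) '' J) ↔ g ∈ Ideal.span {N} ⊔ Ideal.span (y '' J) := by
    intro g
    have e1 : Ideal.span ((fun k => π (y k)) '' J) = (Ideal.span (y '' J)).map π := by
      rw [Ideal.map_span, ← Set.image_comp]; rfl
    rw [e1, ← Ideal.mem_comap, Ideal.comap_map_of_surjective _ hπ, ← RingHom.ker_eq_comap_bot, Ideal.mk_ker,
      sup_comm]
  rw [← map_mul, hcomap, hyi] at ha
  rw [hcomap]
  let 𝔞 : Ideal R := Ideal.span (z '' J)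
  by_cases hjJ : j ∈ J
  · -- the ideal is generated by `X` and `𝔞`
    have hspan : Ideal.span {N} ⊔ Ideal.span (y '' J) = Ideal.span {X} ⊔ 𝔞.map (C : R →+* R[X]) := by
      have hX : X ∈ Ideal.span {N} ⊔ Ideal.span (y '' J) :=
        Ideal.mem_sup_right (Ideal.subset_span ⟨j, hjJ, hyj⟩)
      apply le_antisymm
      · rw [sup_le_iff, Ideal.span_singleton_le_iff_mem, Ideal.span_le]
        constructor
        · rw [hN]
          refine Ideal.sub_mem _ (Ideal.mul_mem_left _ _ (Ideal.mem_sup_left (Ideal.mem_span_singleton_self _)))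
            (Ideal.mem_sup_right (Ideal.mem_map_of_mem _ (Ideal.subset_span ⟨j, hjJ, rfl⟩)))
        · rintro _ ⟨k, hk, rfl⟩
          by_cases hkj : k = j
          · rw [hkj, hyj]
            exact Ideal.mem_sup_left (Ideal.mem_span_singleton_self _)
          · rw [hyk k hkj]
            exact Ideal.mem_sup_right (Ideal.mem_map_of_mem _ (Ideal.subset_span ⟨k, hk, rfl⟩))
      · rw [sup_le_iff, Ideal.span_singleton_le_iff_mem, Ideal.map_span, Ideal.span_le]
        refine ⟨hX, ?_⟩
        rintro _ ⟨_, ⟨k, hk, rfl⟩, rfl⟩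
        by_cases hkj : k = j
        · rw [hkj]
          have e : C (z j) = C (z i) * X - N := by rw [hN]; ring
          rw [e]
          exact Ideal.sub_mem _ (Ideal.mul_mem_left _ _ hX)
            (Ideal.mem_sup_left (Ideal.mem_span_singleton_self _))
        · rw [← hyk k hkj]
          exact Ideal.mem_sup_right (Ideal.subset_span ⟨k, hk, rfl⟩)
    rw [hspan] at ha ⊢
    have key : ∀ g : R[X], g ∈ Ideal.span {X} ⊔ 𝔞.map (C : R →+* R[X]) ↔ g.coeff 0 ∈ 𝔞 := by
      intro g
      constructor
      · intro hg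
        obtain ⟨u, hu, v, hv, rfl⟩ := Submodule.mem_sup.1 hg
        rw [Ideal.mem_span_singleton] at hu
        obtain ⟨u, rfl⟩ := hu
        rw [coeff_add, mul_coeff_zero, coeff_X_zero, zero_mul, zero_add]
        exact (Ideal.mem_map_C_iff.1 hv) 0
      · intro hg
        have e : g = X * g.divX + C (g.coeff 0) := (X_mul_divX_add g).symm
        rw [e]
        exact Ideal.add_mem _ (Ideal.mem_sup_left (Ideal.mul_mem_right _ _ (Ideal.mem_span_singleton_self _)))
          (Ideal.mem_sup_right (Ideal.mem_map_of_mem _ hg))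
    rw [key, mul_coeff_zero, coeff_C_zero] at ha
    rw [key]
    exact h.inj J i hiJ _ ha
  · have hspan : Ideal.span (y '' J) = 𝔞.map (C : R →+* R[X]) := by
      rw [Ideal.map_span, ← Set.image_comp]
      congr 1
      refine Set.image_congr fun k hk => ?_
      exact hyk k (fun hkj => hjJ (hkj ▸ hk))
    rw [hspan] at ha ⊢
    obtain ⟨u, hu, v, hv, huv⟩ := Submodule.mem_sup.1 ha
    rw [Ideal.mem_span_singleton] at hu
    obtain ⟨g, rfl⟩ := hu
    -- `z_j g ∈ (z_i) + 𝔞`
    have h2 : ∀ n, g.coeff n ∈ Ideal.span (z '' (insert i J)) := by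
      intro n
      refine h.inj (insert i J) j ?_ _ ?_
      · rintro (h | h)
        · exact hij h.symm
        · exact hjJ h
      have e : C (z j) * g = C (z i) * (X * g - f) + v := by
        rw [hN] at huv
        linear_combination -huv
      have e2 : z j * g.coeff n = z i * (X * g - f).coeff n + v.coeff n := by
        rw [← coeff_C_mul, e, coeff_add, coeff_C_mul]
      rw [e2]
      refine Ideal.add_mem _ (Ideal.mul_mem_right _ _ (Ideal.subset_span ⟨i, Set.mem_insert _ _, rfl⟩)) ?_
      exact Ideal.span_mono (Set.image_mono (Set.subset_insert _ _)) (Ideal.mem_map_C_iff.1 hv n)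
    have h3 : g ∈ Ideal.span {C (z i)} ⊔ 𝔞.map (C : R →+* R[X]) := by
      have h3 : g ∈ (Ideal.span (z '' (insert i J))).map (C : R →+* R[X]) := Ideal.mem_map_C_iff.2 h2
      rwa [Set.image_insert_eq, Set.insert_eq, Ideal.span_union, Ideal.map_sup, Ideal.map_span,
        Set.image_singleton] at h3
    obtain ⟨a, ha', b, hb, rfl⟩ := Submodule.mem_sup.1 h3
    rw [Ideal.mem_span_singleton] at ha'
    obtain ⟨a, rfl⟩ := ha'
    have h4 : C (z i) * (f - N * a) ∈ 𝔞.map (C : R →+* R[X]) := by
      have e : C (z i) * (f - N * a) = v + N * b := by linear_combination -huv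
      rw [e]
      exact Ideal.add_mem _ hv (Ideal.mul_mem_left _ _ hb)
    have h5 : f - N * a ∈ 𝔞.map (C : R →+* R[X]) := by
      rw [Ideal.mem_map_C_iff] at h4 ⊢
      intro n
      have := h4 n
      rw [coeff_C_mul] at this
      exact h.inj J i hiJ _ this
    have e : f = N * a + (f - N * a) := by ring
    rw [e]
    exact Ideal.add_mem _ (Ideal.mem_sup_left (Ideal.mul_mem_right _ _ (Ideal.mem_span_singleton_self _)))
      (Ideal.mem_sup_right h5)

/-- The standard étale pair of a Kummer extension. -/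
noncomputable def kummerPair (w : R) (n : ℕ) (hn : n ≠ 0) (hu : IsUnit (n : R)) : StandardEtalePair R where
  f := X ^ n - C w
  monic_f := monic_X_pow_sub_C w hn
  g := X
  cond := by
    refine ⟨C ((hu.unit⁻¹ : Rˣ) : R), 0, n - 1, ?_⟩
    rw [mul_zero, add_zero, derivative_sub, derivative_C, sub_zero, derivative_X_pow, mul_right_comm, ← C_mul,
      IsUnit.mul_val_inv, C_1, one_mul]

theorem etale_kummer (w : R) (n : ℕ) (hn : n ≠ 0) (hu : IsUnit (n : R)) :
    Algebra.Etale R (Localization.Away (AdjoinRoot.root (X ^ n - C w : R[X]))) :=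
  Algebra.Etale.of_equiv (kummerPair w n hn hu).equivAwayAdjoinRoot

/-- Kummer extensions. -/
theorem SNC.kummer [DecidableEq ι] {z : ι → R} (h : SNC R z) (i : ι) (n : ℕ) (hn : n ≠ 0) (hu : IsUnit (n : R)) :
    SNC (AdjoinRoot (X ^ n - C (z i) : R[X]))
      (Function.update (fun k => AdjoinRoot.of (X ^ n - C (z i)) (z k)) i (AdjoinRoot.root (X ^ n - C (z i)))) := by
  have := noeth h
  set N : R[X] := X ^ n - C (z i) with hN
  have hNm : N.Monic := monic_X_pow_sub_C _ hn
  let y : ι → R[X] := Function.update (fun k => C (z k)) i X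
  have hyi : y i = X := Function.update_self _ _ _
  have hyk : ∀ k, k ≠ i → y k = C (z k) := fun k hk => Function.update_of_ne hk _ _
  let π : R[X] →+* AdjoinRoot N := AdjoinRoot.mk N
  have hπ : Function.Surjective π := AdjoinRoot.mk_surjective
  have hz' : (Function.update (fun k => AdjoinRoot.of N (z k)) i (AdjoinRoot.root N)) = fun k => π (y k) := by
    funext k
    by_cases hk : k = i
    · subst hk
      rw [Function.update_self, hyi]; rfl
    · rw [Function.update_of_ne hk, hyk k hk]; rfl
  rw [hz']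
  have hmi : Ideal.Quotient.mk (Ideal.span {z i}) (z i) = 0 :=
    Ideal.Quotient.eq_zero_iff_mem.2 (Ideal.mem_span_singleton_self _)
  let φ : AdjoinRoot N →+* R ⧸ Ideal.span {z i} := AdjoinRoot.lift (Ideal.Quotient.mk (Ideal.span {z i})) 0 (by
    rw [hN, eval₂_sub, eval₂_X_pow, eval₂_C, hmi, zero_pow hn, sub_zero])
  have hφπ : ∀ f : R[X], φ (π f) = Ideal.Quotient.mk _ (f.coeff 0) := by
    intro f
    change AdjoinRoot.lift _ _ _ (AdjoinRoot.mk N f) = _
    rw [AdjoinRoot.lift_mk]
    exact (eval₂_eq_eval_map _).trans (by rw [← coeff_zero_eq_eval_zero, coeff_map])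
  have hφ : Function.Surjective φ := by
    intro x
    obtain ⟨r, rfl⟩ := Ideal.Quotient.mk_surjective x
    exact ⟨π (C r), by rw [hφπ, coeff_C_zero]⟩
  have hπzi : π (C (z i)) = π X ^ n := by
    rw [← map_pow, eq_comm, ← sub_eq_zero, ← map_sub]
    exact AdjoinRoot.mk_self
  have hker : RingHom.ker φ = Ideal.span {π (y i)} := by
    rw [hyi]
    apply le_antisymm
    · intro x hx
      obtain ⟨f, rfl⟩ := hπ x
      rw [RingHom.mem_ker, hφπ, Ideal.Quotient.eq_zero_iff_mem, Ideal.mem_span_singleton] at hx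
      obtain ⟨b, hb⟩ := hx
      have e : f = X * f.divX + C (f.coeff 0) := (X_mul_divX_add f).symm
      rw [e, hb, map_add, map_mul, C_mul, map_mul, hπzi, Ideal.mem_span_singleton]
      exact dvd_add (dvd_mul_right _ _) ((dvd_pow_self _ hn).mul_right _)
    · rw [Ideal.span_singleton_le_iff_mem, RingHom.mem_ker, hφπ, coeff_X_zero, map_zero]
  have h0 : SNC (R ⧸ Ideal.span {z i}) (fun k : {k : ι // k ≠ i} => φ (π (y k))) := by
    refine SNC.congr (SNC.quotient_single h i (Ideal.Quotient.mk _) Ideal.Quotient.mk_surjective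
      (by rw [Ideal.mk_ker])) fun k => ?_
    rw [hφπ, hyk _ k.2, coeff_C_zero]
  let R₁ := Localization.Away (AdjoinRoot.root N)
  have het : Algebra.Etale R R₁ := etale_kummer (z i) n hn hu
  have hsm : Algebra.Smooth R R₁ := inferInstance
  have hloc : IsLocalization.Away (π (y i)) R₁ := by
    rw [hyi]
    exact (inferInstance : IsLocalization.Away (AdjoinRoot.root N) R₁)
  have h1 : SNC R₁ (fun k : {k : ι // k ≠ i} => algebraMap (AdjoinRoot N) R₁ (π (y k))) := by
    refine SNC.congr (SNC.comp (SNC.smooth h R₁) (Subtype.val : {k : ι // k ≠ i} → ι) Subtype.val_injective)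
      fun k => ?_
    rw [hyk _ k.2]
    exact IsScalarTower.algebraMap_apply R (AdjoinRoot N) R₁ (z k)
  refine SNC.step' (fun k => π (y k)) i φ hφ hker h0 (R₁ := R₁) h1 ?_
  intro J a hiJ ha
  obtain ⟨f, rfl⟩ := hπ a
  let 𝔞 : Ideal R := Ideal.span (z '' J)
  have hspan : Ideal.span (y '' J) = 𝔞.map (C : R →+* R[X]) := by
    rw [Ideal.map_span, ← Set.image_comp]
    congr 1
    refine Set.image_congr fun k hk => ?_
    exact hyk k (fun hkj => hiJ (hkj ▸ hk))
  have hcomap : ∀ g : R[X], π g ∈ Ideal.span ((fun k => π (y k)) '' J) ↔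
      g ∈ Ideal.span {N} ⊔ 𝔞.map (C : R →+* R[X]) := by
    intro g
    have e1 : Ideal.span ((fun k => π (y k)) '' J) = (Ideal.span (y '' J)).map π := by
      rw [Ideal.map_span, ← Set.image_comp]; rfl
    rw [e1, ← Ideal.mem_comap, Ideal.comap_map_of_surjective _ hπ, ← RingHom.ker_eq_comap_bot, hspan, sup_comm]
    have e2 : RingHom.ker π = Ideal.span {N} := Ideal.mk_ker
    rw [e2]
  rw [← map_mul, hcomap, hyi] at ha
  rw [hcomap]
  obtain ⟨u, hu', v, hv, huv⟩ := Submodule.mem_sup.1 ha
  rw [Ideal.mem_span_singleton] at hu'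
  obtain ⟨g, rfl⟩ := hu'
  have h2 : g.coeff 0 ∈ 𝔞 := by
    refine h.inj J i hiJ _ ?_
    have e1 := congrArg (fun p : R[X] => p.coeff 0) huv
    simp only [coeff_add, mul_coeff_zero, coeff_X_zero, zero_mul] at e1
    have e2 : N.coeff 0 = - z i := by
      rw [hN, coeff_sub, coeff_C_zero, coeff_X_pow, if_neg (Ne.symm hn), zero_sub]
    rw [e2] at e1
    have e3 : z i * g.coeff 0 = v.coeff 0 := by linear_combination -e1
    rw [e3]
    exact Ideal.mem_map_C_iff.1 hv 0
  have h3 : X * (f - N * g.divX) ∈ 𝔞.map (C : R →+* R[X]) := by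
    have e : X * (f - N * g.divX) = v + N * C (g.coeff 0) := by
      have e1 : g = X * g.divX + C (g.coeff 0) := (X_mul_divX_add g).symm
      linear_combination -huv + N * e1
    rw [e]
    exact Ideal.add_mem _ hv (Ideal.mul_mem_left _ _ (Ideal.mem_map_of_mem _ h2))
  have h5 := monic_mul_mem_map monic_X h3
  have e : f = N * g.divX + (f - N * g.divX) := by ring
  rw [e]
  exact Ideal.add_mem _ (Ideal.mem_sup_left (Ideal.mul_mem_right _ _ (Ideal.mem_span_singleton_self _)))
    (Ideal.mem_sup_right h5)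

end K556.SncPoly
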