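import Mathlib.AlgebraicGeometry.Morphisms.Etale
import Mathlib.AlgebraicGeometry.Morphisms.Proper
import Mathlib.RingTheory.RegularLocalRing.Defs

/-!
# Certificates: resolution by étale covers and proper morphisms

`SNC R z`: `R` is a regular Noetherian ring and the divisor `∏ z_i = 0` has strict normal crossings with the
`V(z_i)` as components (possibly empty): all the quotients by subfamilies are regular and the remaining `z_i` are
nonzerodivisors on them.

`Cert X V` (`V` an open subset of `X`): there is a finite tree of étale covers and of families of proper morphisms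
which are jointly surjective over `V`, whose leaves are spectra of rings `R` with a family `z` such that `SNC R z`
and such that `V` contains the complement of `∏ z_i = 0`.
-/

set_option autoImplicit false
universe u

open CategoryTheory AlgebraicGeometry

namespace K556.CertDef

/-- A regular ring with a strict normal crossings family. -/
structure SNC {ι : Type} (R : Type u) [CommRing R] (z : ι → R) : Prop where
  reg : ∀ J : Set ι, IsRegularRing (R ⧸ Ideal.span (z '' J))
  inj : ∀ (J : Set ι) (i : ι), i ∉ J → ∀ a : R, z i * a ∈ Ideal.span (z '' J) → a ∈ Ideal.span (z '' J)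

/-- Certificates. -/
inductive Cert : ∀ (X : Scheme.{u}), X.Opens → Prop
  | leaf (R : Type u) [CommRing R] {ι : Type} [Finite ι] (z : ι → R) (h : SNC R z)
      (V : (Spec (CommRingCat.of R)).Opens)
      (hV : ∀ p : Spec (CommRingCat.of R), (∀ i, z i ∉ p.asIdeal) → p ∈ V) :
      Cert (Spec (CommRingCat.of R)) V
  | etale {X : Scheme.{u}} (V : X.Opens) {k : ℕ} (Y : Fin k → Scheme.{u}) (f : ∀ a, Y a ⟶ X)
      (h1 : ∀ a, Etale (f a)) (h2 : ∀ a, QuasiCompact (f a)) (h3 : ∀ x : X, ∃ a, x ∈ Set.range (f a))
      (h : ∀ a, Cert (Y a) ((f a) ⁻¹ᵁ V)) : Cert X V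
  | proper {X : Scheme.{u}} (V : X.Opens) {k : ℕ} (Y : Fin k → Scheme.{u}) (f : ∀ a, Y a ⟶ X)
      (h1 : ∀ a, IsProper (f a)) (h3 : ∀ x ∈ V, ∃ a, x ∈ Set.range (f a))
      (h : ∀ a, Cert (Y a) ((f a) ⁻¹ᵁ V)) : Cert X V

end K556.CertDef
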