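import Groth.Agent.EtDl.K556.Split

/-!
# The Weierstrass step: certificates for the complement of a finite divisor of the affine line
-/

set_option autoImplicit false
universe u

open Polynomial CategoryTheory CategoryTheory.Limits AlgebraicGeometry TensorProduct

namespace K556.Weier

open K556.CertDef K556.SncAlg K556.SncPoly K556.CertBasic K556.Tor K556.Univ K556.Game2 K556.Game1 K556.Mono
  K556.Split

/-- The leaves. -/
theorem leaf (hAbh : AbhHyp.{u}) (hKum : KumHyp.{u}) {A : Type u} [CommRing A] [Algebra ℚ A] {w : A[X]} {δ : A}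
    (hw : w.Monic) (hδ : C δ ∈ Ideal.span {w, derivative w}) {R : Type u} [CommRing R] {ι : Type} [Finite ι]
    {z : ι → R} (h : SNC R z) (V : (Spec (CommRingCat.of R)).Opens)
    (hV : ∀ p : Spec (CommRingCat.of R), (∀ i, z i ∉ p.asIdeal) → p ∈ V) (φ : A →+* R)
    (hδV : ∀ p : Spec (CommRingCat.of R), p ∈ V → φ δ ∉ p.asIdeal) (W : (Spec (CommRingCat.of R[X])).Opens)
    (hW : ∀ P : PrimeSpectrum R[X], (P.comap C : Spec (CommRingCat.of R)) ∈ V → w.map φ ∉ P.asIdeal →
      (P : Spec (CommRingCat.of R[X])) ∈ W) : Cert (Spec (CommRingCat.of R[X])) W := by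
  classical
  have := Fintype.ofFinite ι
  have hQ : ∀ n : ℕ, 0 < n → IsUnit (n : R) := fun n hn => by
    have h1 : IsUnit ((n : ℚ)) := (Nat.cast_ne_zero.2 hn.ne').isUnit
    have h2 := h1.map (φ.comp (algebraMap ℚ A))
    rwa [map_natCast] at h2
  have hrad : ∏ i, z i ∈ (Ideal.span {φ δ}).radical := by
    rw [Ideal.radical_eq_sInf, Submodule.mem_sInf]
    rintro q ⟨hq1, hq2⟩
    by_contra hcon
    refine hδV ⟨q, hq2⟩ (hV ⟨q, hq2⟩ fun i hi => hcon ?_) (hq1 (Ideal.mem_span_singleton_self _))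
    exact Ideal.mem_of_dvd _ (Finset.dvd_prod_of_mem z (Finset.mem_univ i)) hi
  obtain ⟨N, hN⟩ := hrad
  obtain ⟨r, hr⟩ := Ideal.mem_span_singleton.1 hN
  obtain ⟨u, v, huv⟩ := Ideal.mem_span_pair.1 hδ
  have hsep : Sep z (w.map φ * ∏ i : Fin 0, (X - C ((Fin.elim0 i : R)))) := by
    refine ⟨N, v.map φ * C r, u.map φ * C r, ?_⟩
    have e1 := congrArg (Polynomial.map φ) huv
    rw [Polynomial.map_add, Polynomial.map_mul, Polynomial.map_mul, map_C] at e1
    rw [Finset.univ_eq_empty, Finset.prod_empty, mul_one, derivative_map, hr, C_mul, ← e1]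
    ring
  have key := res_sep hAbh hKum (w.map φ).natDegree hQ h (fun i : Fin 0 => (Fin.elim0 i : R)) (w.map φ) (hw.map φ)
    rfl hsep
  refine key W fun P hP => ?_
  have hP1 : w.map φ ∉ P.asIdeal := fun h => hP (Ideal.mul_mem_right _ _ h)
  have hP2 : ∀ i, C (z i) ∉ P.asIdeal := fun i hi => hP (Ideal.mul_mem_left _ _ (by
    have : RingHom.id _ (fn z (fun i : Fin 0 => (Fin.elim0 i : R))) ∈ P.asIdeal := by
      rw [fn_mem]
      exact Or.inr ⟨i, hi⟩
    exact this))
  exact hW P (hV _ fun i hi => hP2 i hi) hP1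

/-- The general step. -/
theorem step (hAbh : AbhHyp.{u}) (hKum : KumHyp.{u}) {A : Type u} [CommRing A] [Algebra ℚ A] {w : A[X]} {δ : A}
    (hw : w.Monic) (hδ : C δ ∈ Ideal.span {w, derivative w}) {X : Scheme.{u}} {V : X.Opens} (h : Cert X V) :
    ∀ (f : X ⟶ Spec (CommRingCat.of A)) (_ : ∀ x ∈ V, δ ∉ (f x).asIdeal) (P : Scheme.{u}) (a : P ⟶ X)
      (b : P ⟶ Spec (CommRingCat.of A[X]))
      (_ : IsPullback a b f (Spec.map (CommRingCat.ofHom (C : A →+* A[X])))),
      Cert P (a ⁻¹ᵁ V ⊓ b ⁻¹ᵁ (PrimeSpectrum.basicOpen w : (Spec (CommRingCat.of A[X])).Opens)) := by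
  induction h with
  | leaf R z h V hV =>
    intro f hf P a b hP
    obtain ⟨φ, rfl⟩ := Spec.map_surjective f
    have hpb := (isPullback_poly φ.hom).flip
    let e := IsPullback.isoIsPullback _ _ hpb hP
    have e1 : e.hom ≫ a = _ := IsPullback.isoIsPullback_hom_fst _ _ hpb hP
    have e2 : e.hom ≫ b = _ := IsPullback.isoIsPullback_hom_snd _ _ hpb hP
    refine Cert.of_iso e.hom _ ?_
    refine leaf hAbh hKum hw hδ h V hV φ.hom hf _ fun Q hQ1 hQ2 => ?_
    rw [Scheme.Hom.preimage_inf, ← Scheme.Hom.comp_preimage, ← Scheme.Hom.comp_preimage, e1, e2]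
    exact ⟨hQ1, hQ2⟩
  | @etale X V k Y g h1 h2 h3 h ih =>
    intro f hf P a b hP
    have h1' := h1
    have h2' := h2
    refine Cert.etale _ (fun c => pullback a (g c)) (fun c => pullback.fst a (g c)) (fun c => inferInstance)
      (fun c => inferInstance) (fun x => ?_) (fun c => ?_)
    · obtain ⟨c, y, hy⟩ := h3 (a x)
      obtain ⟨w, hw1, hw2⟩ := Scheme.Pullback.exists_preimage_pullback x y hy.symm
      exact ⟨c, w, hw1⟩
    · have hpb : IsPullback (pullback.snd a (g c)) (pullback.fst a (g c) ≫ b) (g c ≫ f)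
          (Spec.map (CommRingCat.ofHom (C : A →+* A[X]))) :=
        ((IsPullback.of_hasPullback a (g c)).paste_horiz hP.flip).flip
      have := ih c (g c ≫ f) (fun x hx => by
        rw [Scheme.Hom.comp_apply]
        exact hf _ hx) _ _ _ hpb
      rw [Scheme.Hom.preimage_inf, ← Scheme.Hom.comp_preimage, ← Scheme.Hom.comp_preimage, pullback.condition,
        Scheme.Hom.comp_preimage]
      exact this
  | @proper X V k Y g h1 h3 h ih =>
    intro f hf P a b hP
    have h1' := h1
    refine Cert.proper _ (fun c => pullback a (g c)) (fun c => pullback.fst a (g c)) (fun c => inferInstance)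
      (fun x hx => ?_) (fun c => ?_)
    · obtain ⟨c, y, hy⟩ := h3 (a x) hx.1
      obtain ⟨w, hw1, hw2⟩ := Scheme.Pullback.exists_preimage_pullback x y hy.symm
      exact ⟨c, w, hw1⟩
    · have hpb : IsPullback (pullback.snd a (g c)) (pullback.fst a (g c) ≫ b) (g c ≫ f)
          (Spec.map (CommRingCat.ofHom (C : A →+* A[X]))) :=
        ((IsPullback.of_hasPullback a (g c)).paste_horiz hP.flip).flip
      have := ih c (g c ≫ f) (fun x hx => by
        rw [Scheme.Hom.comp_apply]
        exact hf _ hx) _ _ _ hpb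
      rw [Scheme.Hom.preimage_inf, ← Scheme.Hom.comp_preimage, ← Scheme.Hom.comp_preimage, pullback.condition,
        Scheme.Hom.comp_preimage]
      exact this

/-- **The Weierstrass step.** -/
theorem weier_step (hAbh : AbhHyp.{u}) (hKum : KumHyp.{u}) (A : Type u) [CommRing A] [Algebra ℚ A] (w : A[X]) (δ : A)
    (V : (Spec (CommRingCat.of A)).Opens) (hw : w.Monic) (hδ : C δ ∈ Ideal.span {w, derivative w})
    (hV : ∀ p ∈ V, δ ∉ p.asIdeal) (h : Cert (Spec (CommRingCat.of A)) V) :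
    Cert (Spec (CommRingCat.of A[X])) ((Spec.map (CommRingCat.ofHom (C : A →+* A[X])) ⁻¹ᵁ V) ⊓
      (PrimeSpectrum.basicOpen w : (Spec (CommRingCat.of A[X])).Opens)) := by
  have h1 := step hAbh hKum hw hδ h (𝟙 _) (fun x hx => hV x hx) (Spec (CommRingCat.of A[X]))
    (Spec.map (CommRingCat.ofHom (C : A →+* A[X]))) (𝟙 _) (IsPullback.of_horiz_isIso ⟨by simp⟩).flip
  exact h1

end K556.Weier
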