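import Groth.Agent.Sga4h.ConsWO
import Groth.Agent.EtDl.K556.CertDef
import Groth.Prelude.Def_EGA4b

/-!
# Interface for the constructibility of direct images over excellent `ℚ`-schemes (S8601)

* `ExcQ S`: Noetherian excellent scheme over `ℚ`;
* `FinUpTo q`: constructibility of `R^p f_*`, `p < q`, over such schemes;
* `Good q X V`: constructibility of `R^q j_*` of constant sheaves for `j : V ⟶ X` open.
-/

set_option autoImplicit false
universe u

open CategoryTheory CategoryTheory.Limits AlgebraicGeometry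

namespace K556.GoodDef

open Groth.Agent.Sga4h.ConsWO

/-- A Noetherian scheme over `ℚ` whose affine opens are excellent. -/
structure ExcQ (S : Scheme.{u}) : Prop where
  noeth : IsNoetherian S
  rat : Nonempty (S ⟶ Spec (CommRingCat.of (ULift.{u} ℚ)))
  exc : ∀ V : S.affineOpens, EGA4.IsExcellent Γ(S, V.1)

/-- Constructibility of `R^p f_* F` for `p < q`, `f` of finite type over an excellent Noetherian `ℚ`-scheme. -/
def FinUpTo (q : ℕ) : Prop :=
  ∀ p : ℕ, p < q → ∀ ⦃X S : Scheme.{u}⦄, ExcQ S → ∀ (f : X ⟶ S) [LocallyOfFiniteType f] [QuasiCompact f]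
    (n : ℕ), 0 < n → ∀ F : EtCoh.Ab X, Cn n X F → Cn n S ((EtCoh.Rpush f p).obj F)

/-- Constructibility of `R^q j_* M` for `j : V ⟶ X` and all finite abelian groups `M`. -/
def Good (q : ℕ) (X : Scheme.{u}) (V : X.Opens) : Prop :=
  ∀ (n : ℕ), 0 < n → ∀ (M : Type) [AddCommGroup M] [Finite M], (∀ m : M, n • m = 0) →
    Cn n X ((EtCoh.Rpush V.ι q).obj (EtCoh.const (V : Scheme.{u}) M))

end K556.GoodDef
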