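import Groth.Agent.Sga7.H874.RegParam
import Groth.Agent.CalgB.RegHom8
import Groth.Agent.CalgB.GRing2
import Groth.Agent.Ega4B.GRingLoc
import Groth.Agent.Etdl.H437.RegPar
import Groth.Agent.Flat2D.DimFlat
import Mathlib.RingTheory.RegularLocalRing.Polynomial

/-!
# The map to affine space given by equations of a regular subscheme is a regular homomorphism
-/

set_option autoImplicit false
universe u

open IsLocalRing MvPolynomial

namespace K556.RegMap

variable (k : Type u) [Field k] [CharZero k]

section origin

variable (c : ℕ)

/-- the origin -/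
noncomputable abbrev org : Ideal (MvPolynomial (Fin c) k) := Ideal.span (Set.range X)

omit [CharZero k] in
theorem isMaximal_org : (org k c).IsMaximal := by
  have h1 : RingHom.ker (MvPolynomial.aeval (0 : Fin c → k) : MvPolynomial (Fin c) k →ₐ[k] k).toRingHom = org k c := by
    apply le_antisymm
    · intro p hp
      have h2 : p - C (constantCoeff p) ∈ org k c := by
        have h3 : (Ideal.Quotient.mkₐ k (org k c) : MvPolynomial (Fin c) k →ₐ[k] _) =
            (Algebra.ofId k _).comp (MvPolynomial.aeval (0 : Fin c → k)) := by
          ext i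
          simp only [Ideal.Quotient.mkₐ_eq_mk, AlgHom.comp_apply, aeval_X, Pi.zero_apply, map_zero]
          exact Ideal.Quotient.eq_zero_iff_mem.mpr (Ideal.subset_span ⟨i, rfl⟩)
        have h4 := DFunLike.congr_fun h3 p
        rw [← Ideal.Quotient.eq]
        have h5 : (MvPolynomial.aeval (0 : Fin c → k) p : k) = constantCoeff p := by
          rw [← MvPolynomial.eval_zero]; simp [MvPolynomial.aeval_def, MvPolynomial.eval₂_eq_eval_map]
        have h6 : Ideal.Quotient.mk (org k c) p =
            algebraMap k (MvPolynomial (Fin c) k ⧸ org k c) (constantCoeff p) := by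
          rw [← h5]; exact h4
        exact h6
      have h7 : constantCoeff p = 0 := by
        have : (MvPolynomial.aeval (0 : Fin c → k) p : k) = 0 := hp
        rw [← this, ← MvPolynomial.eval_zero]; simp [MvPolynomial.aeval_def, MvPolynomial.eval₂_eq_eval_map]
      simpa [h7] using h2
    · rw [org, Ideal.span_le]
      rintro _ ⟨i, rfl⟩
      change (MvPolynomial.aeval (0 : Fin c → k) : MvPolynomial (Fin c) k →ₐ[k] k) (X i) = 0
      simp
  rw [← h1]
  exact RingHom.ker_isMaximal_of_surjective _ (fun a => ⟨C a, by simp⟩)

end origin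

/-- Equations of a regular subscheme define a regular homomorphism. -/
theorem isRegularHom_of_equations {c : ℕ} (B : Type u) [CommRing B] [IsNoetherianRing B]
    (φ : MvPolynomial (Fin c) k →+* B)
    (hmax : ∀ (m : Ideal B) [m.IsMaximal] (i : Fin c), φ (X i) ∈ m)
    (hreg : ∀ (m : Ideal B) [m.IsMaximal], IsRegularLocalRing (Localization.AtPrime m) ∧
      ∃ d : ℕ, ringKrullDim (Localization.AtPrime m) = (c + d : ℕ) ∧ ∃ s : Fin d → Localization.AtPrime m,
        Ideal.span (Set.range (fun i => algebraMap B (Localization.AtPrime m) (φ (X i))) ∪ Set.range s) =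
          maximalIdeal (Localization.AtPrime m)) :
    @CAlg.IsRegularHom (MvPolynomial (Fin c) k) _ B _ φ.toAlgebra := by
  let _ := φ.toAlgebra
  apply Groth.Agent.CalgB.RegHom8.isRegularHom_of_atPrime
  intro q _ p _ hqp _ hL
  obtain ⟨h1, d, hd, s, hs⟩ := hreg q
  have hp : p = org k c := by
    refine ((isMaximal_org k c).eq_of_le (Ideal.IsPrime.ne_top inferInstance) ?_).symm
    rw [org, Ideal.span_le]
    rintro _ ⟨i, rfl⟩
    rw [SetLike.mem_coe, hqp.over, Ideal.under_def, Ideal.mem_comap]
    exact hmax q i
  have hcomm : ∀ x, algebraMap (Localization.AtPrime p) (Localization.AtPrime q)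
      (algebraMap (MvPolynomial (Fin c) k) _ x) = algebraMap B (Localization.AtPrime q) (φ x) := by
    intro x
    rw [← IsScalarTower.algebraMap_apply, IsScalarTower.algebraMap_apply _ B]
    rfl
  have hloc : IsLocalHom (algebraMap (Localization.AtPrime p) (Localization.AtPrime q)) := by
    rw [Localization.AtPrime.IsLiesOverAlgebra.algebraMap_eq]
    infer_instance
  let _ : Algebra ℚ (Localization.AtPrime p) :=
    ((algebraMap (MvPolynomial (Fin c) k) (Localization.AtPrime p)).comp
      (C.comp (algebraMap ℚ k))).toAlgebra
  have hG : CAlg.IsGRing (Localization.AtPrime p) :=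
    Groth.Agent.Ega4B.GRingLoc.isGRing_of_isLocalization (MvPolynomial (Fin c) k) _ p.primeCompl
      (Groth.Agent.S0599.result k (Groth.Agent.Etdl.H437.RegPar.isGRing_field k) _)
  refine Groth.Agent.Sga7.H874.RegParam.isRegularHom_of_parameters (Localization.AtPrime p)
    (Localization.AtPrime q) hG c d
    (fun i => algebraMap (MvPolynomial (Fin c) k) (Localization.AtPrime p) (X i)) s ?_ ?_ ?_ hd
  · have hp2 := congrArg (Ideal.map (algebraMap (MvPolynomial (Fin c) k) (Localization.AtPrime p))) hp
    rw [← Localization.AtPrime.map_eq_maximalIdeal, hp2, org, Ideal.map_span, ← Set.range_comp]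
    rfl
  · rw [IsLocalization.AtPrime.ringKrullDim_eq_height p]
    have : p.IsMaximal := hp ▸ isMaximal_org k c
    rw [Groth.Agent.Ega4B.DimFT.height_eq_of_isMaximal_mvPolynomial_fin k c p]
    rfl
  · rw [← hs]
    congr 3
    funext i
    exact hcomm _

section zar

variable {B : Type u} [CommRing B] (I : Ideal B)

/-- The submonoid `1 + I`. -/
def onePlus : Submonoid B where
  carrier := {b | b - 1 ∈ I}
  one_mem' := by simp
  mul_mem' {a b} ha hb := by
    have : a * b - 1 = a * (b - 1) + (a - 1) := by ring
    change a * b - 1 ∈ I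
    rw [this]
    exact I.add_mem (I.mul_mem_left _ hb) ha

theorem mem_onePlus {b : B} : b ∈ onePlus I ↔ b - 1 ∈ I := Iff.rfl

/-- Every maximal ideal of the localization at `1 + I` contains `I`. -/
theorem mem_of_isMaximal (m : Ideal (Localization (onePlus I))) [hm : m.IsMaximal] (x : B) (hx : x ∈ I) :
    algebraMap B (Localization (onePlus I)) x ∈ m := by
  by_contra hcon
  obtain ⟨y, a, ha, h1⟩ := hm.exists_inv hcon
  obtain ⟨⟨b, t⟩, hb⟩ := IsLocalization.surj (onePlus I) y
  have hb' : y * algebraMap B (Localization (onePlus I)) t.1 = algebraMap B _ b := hb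
  have h2 : a * algebraMap B (Localization (onePlus I)) t.1 = algebraMap B _ (t.1 - b * x) := by
    rw [map_sub, map_mul, ← hb']
    linear_combination (algebraMap B (Localization (onePlus I)) t.1) * h1
  have h3 : t.1 - b * x ∈ onePlus I := by
    rw [mem_onePlus]
    have : t.1 - b * x - 1 = (t.1 - 1) - b * x := by ring
    rw [this]
    exact I.sub_mem t.2 (I.mul_mem_left _ hx)
  have h4 : IsUnit (a * algebraMap B (Localization (onePlus I)) t.1) := by
    rw [h2]
    exact IsLocalization.map_units _ (⟨_, h3⟩ : onePlus I)
  exact hm.ne_top (Ideal.eq_top_of_isUnit_mem _ (m.mul_mem_right _ ha) h4)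

/-- The quotient map factors through the localization at `1 + I`. -/
noncomputable def toQuot : Localization (onePlus I) →+* B ⧸ I :=
  IsLocalization.lift (M := onePlus I) (g := Ideal.Quotient.mk I) (fun y => by
    have : Ideal.Quotient.mk I y.1 = 1 := by
      rw [← map_one (Ideal.Quotient.mk I)]
      exact Ideal.Quotient.eq.mpr y.2
    rw [this]; exact isUnit_one)

theorem toQuot_algebraMap (b : B) : toQuot I (algebraMap B _ b) = Ideal.Quotient.mk I b :=
  IsLocalization.lift_eq _ _

end zar

/-- Local data at the primes containing the equations. -/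
def RegAt {B : Type u} [CommRing B] {c : ℕ} (x : Fin c → B) : Prop :=
  ∀ (m : Ideal B) [m.IsPrime], (∀ i, x i ∈ m) → IsRegularLocalRing (Localization.AtPrime m) ∧
      ∃ d : ℕ, ringKrullDim (Localization.AtPrime m) = (c + d : ℕ) ∧ ∃ s : Fin d → Localization.AtPrime m,
        Ideal.span (Set.range (fun i => algebraMap B (Localization.AtPrime m) (x i)) ∪ Set.range s) =
          maximalIdeal (Localization.AtPrime m)

/-- Localization at `1 + (x)` is regular over affine space. -/
theorem isRegularHom_onePlus {c : ℕ} (B : Type u) [CommRing B] [IsNoetherianRing B]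
    (φ : MvPolynomial (Fin c) k →+* B) (h : RegAt (fun i => φ (X i))) :
    @CAlg.IsRegularHom (MvPolynomial (Fin c) k) _
      (Localization (onePlus (Ideal.span (Set.range fun i => φ (X i))))) _
      ((algebraMap B _).comp φ).toAlgebra := by
  set I := Ideal.span (Set.range fun i => φ (X i)) with hI
  have hN : IsNoetherianRing (Localization (onePlus I)) :=
    IsLocalization.isNoetherianRing (onePlus I) _ inferInstance
  apply isRegularHom_of_equations
  · intro m _ i
    exact mem_of_isMaximal I m _ (Ideal.subset_span ⟨i, rfl⟩)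
  · intro m hm
    let q : Ideal B := m.comap (algebraMap B (Localization (onePlus I)))
    have hq : ∀ i, φ (X i) ∈ q := fun i => mem_of_isMaximal I m _ (Ideal.subset_span ⟨i, rfl⟩)
    obtain ⟨h1, d, h2, s, h3⟩ := h q hq
    let e : Localization.AtPrime q ≃ₐ[B] Localization.AtPrime m :=
      IsLocalization.localizationLocalizationAtPrimeIsoLocalization (onePlus I) m
    have e1 : IsRegularLocalRing (Localization.AtPrime m) := IsRegularLocalRing.of_ringEquiv e.toRingEquiv
    refine ⟨e1, d, by rw [← h2]; exact (ringKrullDim_eq_of_ringEquiv e.toRingEquiv).symm,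
      fun i => e (s i), ?_⟩
    have h4 : (maximalIdeal (Localization.AtPrime q)).map e.toRingEquiv =
      maximalIdeal (Localization.AtPrime m) := by
      have := Ideal.map_isMaximal_of_equiv (p := maximalIdeal (Localization.AtPrime q)) e.toRingEquiv
      exact IsLocalRing.eq_maximalIdeal this
    rw [← h4, ← h3, Ideal.map_span, Set.image_union, ← Set.range_comp, ← Set.range_comp]
    congr 3
    funext i
    have h5 : algebraMap B (Localization.AtPrime m) (φ (X i)) =
        algebraMap (Localization (onePlus I)) (Localization.AtPrime m)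
          (algebraMap B (Localization (onePlus I)) (φ (X i))) := IsScalarTower.algebraMap_apply _ _ _ _
    exact h5.symm.trans (e.commutes _).symm

end K556.RegMap
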