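import Groth.Agent.Sga4h.DivChart
import Groth.Agent.CycA.DiagReg
import Groth.Agent.EtDl.K556.RegMap

/-!
# Local equations of regular closed subschemes of regular schemes
-/

set_option autoImplicit false
universe u

open CategoryTheory CategoryTheory.Limits AlgebraicGeometry Opposite IsLocalRing

namespace K556.ChartC

open Groth.Agent.Sga4h Groth.Agent.Sga4h.DivEq Groth.Agent.Sga4h.DivChart Groth.Agent.Etbase

theorem exists_dim (R : Type u) [CommRing R] [IsRegularLocalRing R] : ∃ d : ℕ, ringKrullDim R = d :=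
  ⟨_, (IsRegularLocalRing.spanFinrank_maximalIdeal (R := R)).symm⟩

theorem exists_generators (R : Type u) [CommRing R] [IsRegularLocalRing R] (I : Ideal R)
    [hI : IsRegularLocalRing (R ⧸ I)] (c : ℕ) (h : ringKrullDim R = ringKrullDim (R ⧸ I) + c) :
    ∃ x : Fin c → R, I = Ideal.span (Set.range x) := by
  obtain ⟨c', g, h1, -, h3⟩ := Groth.Agent.CycA.DiagReg.exists_regular_generators I hI
  obtain ⟨d, hd⟩ := exists_dim (R ⧸ I)
  have : c' = c := by
    rw [h, hd] at h3
    have h4 : d + c' = d + c := by exact_mod_cast h3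
    omega
  subst this
  exact ⟨g, h1⟩

/-- Spreading out generators of a localized ideal. -/
theorem exists_spread (A : Type u) [CommRing A] [IsNoetherianRing A] (J : Ideal A) (q : Ideal A) [q.IsPrime]
    {c : ℕ} (x : Fin c → Localization.AtPrime q)
    (hx : J.map (algebraMap A (Localization.AtPrime q)) = Ideal.span (Set.range x)) :
    ∃ f : Fin c → A, (∀ i, f i ∈ J) ∧ ∃ s ∉ q, ∀ y ∈ J, s * y ∈ Ideal.span (Set.range f) := by
  have h1 : ∀ i, ∃ (f : J) (t : q.primeCompl), x i * algebraMap A (Localization.AtPrime q) t.1 =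
      algebraMap A (Localization.AtPrime q) f.1 := by
    intro i
    have h1 : x i ∈ J.map (algebraMap A (Localization.AtPrime q)) := by
      rw [hx]; exact Ideal.subset_span ⟨i, rfl⟩
    rw [IsLocalization.mem_map_algebraMap_iff q.primeCompl] at h1
    obtain ⟨⟨f, t⟩, ht⟩ := h1
    exact ⟨f, t, ht⟩
  choose f t ht using h1
  have hspan : J.map (algebraMap A (Localization.AtPrime q)) =
      (Ideal.span (Set.range fun i => (f i : A))).map (algebraMap A (Localization.AtPrime q)) := by
    apply le_antisymm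
    · rw [hx, Ideal.span_le]
      rintro _ ⟨i, rfl⟩
      have hu : IsUnit (algebraMap A (Localization.AtPrime q) (t i).1) :=
        IsLocalization.map_units _ (t i)
      have : x i * algebraMap A (Localization.AtPrime q) (t i).1 ∈
          (Ideal.span (Set.range fun i => (f i : A))).map (algebraMap A (Localization.AtPrime q)) := by
        rw [ht]
        exact Ideal.mem_map_of_mem _ (Ideal.subset_span ⟨i, rfl⟩)
      exact (Ideal.mul_unit_mem_iff_mem _ hu).1 this
    · refine Ideal.map_mono ?_
      rw [Ideal.span_le]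
      rintro _ ⟨i, rfl⟩
      exact (f i).2
  have key : ∀ y ∈ J, ∃ s ∉ q, s * y ∈ Ideal.span (Set.range fun i => (f i : A)) := by
    intro y hy
    have h2 : algebraMap A (Localization.AtPrime q) y ∈
        (Ideal.span (Set.range fun i => (f i : A))).map (algebraMap A (Localization.AtPrime q)) := by
      rw [← hspan]; exact Ideal.mem_map_of_mem _ hy
    rw [IsLocalization.mem_map_algebraMap_iff q.primeCompl] at h2
    obtain ⟨⟨b, r⟩, hr⟩ := h2
    have hr' : algebraMap A (Localization.AtPrime q) (y * r.1) = algebraMap A _ b.1 := by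
      rw [map_mul]; exact hr
    obtain ⟨d, hd⟩ := (IsLocalization.eq_iff_exists q.primeCompl _).1 hr'
    refine ⟨d.1 * r.1, (d * r).2, ?_⟩
    have : d.1 * r.1 * y = d.1 * (y * r.1) := by ring
    rw [this, hd]
    exact Ideal.mul_mem_left _ _ b.2
  obtain ⟨T, hT⟩ : J.FG := IsNoetherian.noetherian J
  have key2 : ∀ T' : Finset A, (∀ y ∈ T', y ∈ J) → ∃ s ∉ q, ∀ y ∈ T',
      s * y ∈ Ideal.span (Set.range fun i => (f i : A)) := by
    classical
    intro T'
    induction T' using Finset.induction_on with
    | empty => exact fun _ => ⟨1, (Ideal.ne_top_iff_one q).1 Ideal.IsPrime.ne_top', fun y hy => by simp at hy⟩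
    | insert a T' ha ih =>
      intro h
      obtain ⟨s, hs, h1⟩ := ih (fun y hy => h y (Finset.mem_insert_of_mem hy))
      obtain ⟨s', hs', h2⟩ := key a (h a (Finset.mem_insert_self _ _))
      refine ⟨s * s', fun h0 => (Ideal.IsPrime.mem_or_mem inferInstance h0).elim hs hs', ?_⟩
      intro y hy
      rcases Finset.mem_insert.1 hy with rfl | hy
      · rw [mul_assoc]
        exact Ideal.mul_mem_left _ _ h2
      · rw [mul_comm s, mul_assoc]
        exact Ideal.mul_mem_left _ _ (h1 y hy)
  obtain ⟨s, hs, h1⟩ := key2 T (fun y hy => hT ▸ Ideal.subset_span hy)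
  refine ⟨fun i => f i, fun i => (f i).2, s, hs, ?_⟩
  intro y hy
  rw [← hT] at hy
  induction hy using Submodule.span_induction with
  | mem y hy => exact h1 y hy
  | zero => rw [mul_zero]; exact Ideal.zero_mem _
  | add y z _ _ hy hz => rw [mul_add]; exact Ideal.add_mem _ hy hz
  | smul a y _ hy =>
    rw [smul_eq_mul, ← mul_assoc, mul_comm s, mul_assoc]
    exact Ideal.mul_mem_left _ _ hy

/-- Parameters of a regular quotient. -/
theorem exists_params (A : Type u) [CommRing A] [IsRegularLocalRing A] {c : ℕ} (x : Fin c → A)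
    [IsRegularLocalRing (A ⧸ Ideal.span (Set.range x))]
    (h : ringKrullDim A = ringKrullDim (A ⧸ Ideal.span (Set.range x)) + c) :
    ∃ d : ℕ, ringKrullDim A = (c + d : ℕ) ∧ ∃ s : Fin d → A,
      Ideal.span (Set.range x ∪ Set.range s) = maximalIdeal A := by
  obtain ⟨d, hd⟩ := exists_dim (A ⧸ Ideal.span (Set.range x))
  refine ⟨d, by rw [h, hd]; push_cast; rw [add_comm], ?_⟩
  have h1 : (maximalIdeal (A ⧸ Ideal.span (Set.range x))).spanFinrank = d := by
    have := IsRegularLocalRing.spanFinrank_maximalIdeal (R := A ⧸ Ideal.span (Set.range x))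
    rw [hd] at this
    exact_mod_cast this
  obtain ⟨T, hT1, hT2⟩ := Submodule.FG.exists_span_finset_card_eq_spanFinrank
    (IsNoetherian.noetherian (maximalIdeal (A ⧸ Ideal.span (Set.range x))))
  rw [h1] at hT1
  let e : Fin d ≃ T := (finCongr hT1.symm).trans T.equivFin.symm
  choose s hs using fun i : Fin d => Ideal.Quotient.mk_surjective (e i : A ⧸ Ideal.span (Set.range x))
  refine ⟨s, ?_⟩
  have hloc : IsLocalHom (Ideal.Quotient.mk (Ideal.span (Set.range x))) :=
    Function.Surjective.isLocalHom _ Ideal.Quotient.mk_surjective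
  have h2 : Ideal.span (Set.range fun i => Ideal.Quotient.mk (Ideal.span (Set.range x)) (s i)) =
      maximalIdeal (A ⧸ Ideal.span (Set.range x)) := by
    rw [← hT2]
    change Ideal.span _ = Ideal.span _
    congr 1
    ext y
    constructor
    · rintro ⟨i, rfl⟩
      simp only [hs]
      exact (e i).2
    · intro hy
      exact ⟨e.symm ⟨y, hy⟩, by simp only [hs, Equiv.apply_symm_apply]⟩
  have h3 : (maximalIdeal (A ⧸ Ideal.span (Set.range x))).comap (Ideal.Quotient.mk _) = maximalIdeal A :=
    IsLocalRing.maximalIdeal_comap _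
  rw [← h3, ← h2]
  have h4 : (Set.range fun i => Ideal.Quotient.mk (Ideal.span (Set.range x)) (s i)) =
      (Ideal.Quotient.mk (Ideal.span (Set.range x))) '' Set.range s := by
    rw [← Set.range_comp]; rfl
  rw [h4, ← Ideal.map_span, Ideal.comap_map_of_surjective' _ Ideal.Quotient.mk_surjective, Ideal.mk_ker,
    Ideal.span_union, sup_comm]

section Scheme

variable {X Y : Scheme.{u}} (i : Y ⟶ X) [IsClosedImmersion i] [IsLocallyNoetherian X]

theorem regAt_of_chart (hXreg : ∀ x : X, IsRegularLocalRing (X.presheaf.stalk x))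
    (hYreg : ∀ y : Y, IsRegularLocalRing (Y.presheaf.stalk y)) (c : ℕ)
    (hcodim : ∀ y : Y, ringKrullDim (X.presheaf.stalk (i y)) = ringKrullDim (Y.presheaf.stalk y) + c)
    {B : Type u} [CommRing B] (x : Fin c → B) (g : Spec (CommRingCat.of B) ⟶ X) [Etale g]
    (h : Spec (CommRingCat.of (B ⧸ Ideal.span (Set.range x))) ⟶ Y) [Etale h]
    (hh : h ≫ i = Spec.map (CommRingCat.ofHom (Ideal.Quotient.mk _)) ≫ g) :
    K556.RegMap.RegAt x := by
  have hN := isNoetherianRing_chart B g
  have hYN : IsLocallyNoetherian Y := LocallyOfFiniteType.isLocallyNoetherian i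
  intro m hm hxm
  have hle : Ideal.span (Set.range x) ≤ m := by
    rw [Ideal.span_le]; rintro _ ⟨a, rfl⟩; exact hxm a
  let p : Ideal (B ⧸ Ideal.span (Set.range x)) := m.map (Ideal.Quotient.mk _)
  have hp : p.IsPrime := Ideal.map_isPrime_of_surjective Ideal.Quotient.mk_surjective (by rwa [Ideal.mk_ker])
  have hpq : p.comap (Ideal.Quotient.mk _) = m := by
    rw [Ideal.comap_map_of_surjective' _ Ideal.Quotient.mk_surjective, Ideal.mk_ker, sup_eq_left.2 hle]
  let p' : Spec (CommRingCat.of (B ⧸ Ideal.span (Set.range x))) := ⟨p, hp⟩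
  let q' : Spec (CommRingCat.of B) := Spec.map (CommRingCat.ofHom (Ideal.Quotient.mk _)) p'
  have hq' : q' = (⟨m, hm⟩ : PrimeSpectrum B) := PrimeSpectrum.ext hpq
  have r1 : IsRegularLocalRing (Localization.AtPrime m) := by
    have h1 := (Groth.Agent.Etbase.EtaleStalk.isRegularLocalRing_stalk_iff g (⟨m, hm⟩ : PrimeSpectrum B)).2 (hXreg _)
    exact (isRegularLocalRing_stalk_iff B ⟨m, hm⟩).1 h1
  have r2 : IsRegularLocalRing (Localization.AtPrime p) := by
    have h1 := (Groth.Agent.Etbase.EtaleStalk.isRegularLocalRing_stalk_iff h p').2 (hYreg _)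
    exact (isRegularLocalRing_stalk_iff _ p').1 h1
  have e1 := ringKrullDim_stalk (B ⧸ Ideal.span (Set.range x)) p'
  have e2 := ringKrullDim_stalk B q'
  have e3 := Groth.Agent.Etbase.EtaleStalk.ringKrullDim_stalk h p'
  have e4 := Groth.Agent.Etbase.EtaleStalk.ringKrullDim_stalk g q'
  have e5 : g q' = i (h p') :=
    congrArg (fun k : Spec (CommRingCat.of (B ⧸ Ideal.span (Set.range x))) ⟶ X => k p') hh.symm
  rw [e5, hcodim, ← e3, e1, e2] at e4
  obtain ⟨e⟩ := nonempty_quotient_equiv B (Ideal.span (Set.range x)) p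
  have e6 : ringKrullDim (Localization.AtPrime (p.comap (Ideal.Quotient.mk (Ideal.span (Set.range x))))) =
    ringKrullDim (Localization.AtPrime p) + c := e4
  have hspan : ∀ (m' : Ideal B) [m'.IsPrime], (Ideal.span (Set.range x)).map
      (algebraMap B (Localization.AtPrime m')) =
      Ideal.span (Set.range fun a => algebraMap B (Localization.AtPrime m') (x a)) := by
    intro m' _
    rw [Ideal.map_span, ← Set.range_comp]; rfl
  have r3 : IsRegularLocalRing (Localization.AtPrime
      (p.comap (Ideal.Quotient.mk (Ideal.span (Set.range x)))) ⧸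
        Ideal.span (Set.range fun a => algebraMap B (Localization.AtPrime
      (p.comap (Ideal.Quotient.mk (Ideal.span (Set.range x))))) (x a))) := by
    rw [← hspan]
    exact IsRegularLocalRing.of_ringEquiv e
  have r4 : ringKrullDim (Localization.AtPrime p) = ringKrullDim (Localization.AtPrime
      (p.comap (Ideal.Quotient.mk (Ideal.span (Set.range x)))) ⧸
        Ideal.span (Set.range fun a => algebraMap B (Localization.AtPrime
      (p.comap (Ideal.Quotient.mk (Ideal.span (Set.range x))))) (x a))) := by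
    rw [← hspan]
    exact ringKrullDim_eq_of_ringEquiv e
  have key : ∀ (m' : Ideal B) (_ : m'.IsPrime), m' = m →
      IsRegularLocalRing (Localization.AtPrime m' ⧸
        Ideal.span (Set.range fun a => algebraMap B (Localization.AtPrime m') (x a))) →
      ringKrullDim (Localization.AtPrime m') = ringKrullDim (Localization.AtPrime m' ⧸
        Ideal.span (Set.range fun a => algebraMap B (Localization.AtPrime m') (x a))) + c →
      IsRegularLocalRing (Localization.AtPrime m ⧸
        Ideal.span (Set.range fun a => algebraMap B (Localization.AtPrime m) (x a))) ∧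
      ringKrullDim (Localization.AtPrime m) = ringKrullDim (Localization.AtPrime m ⧸
        Ideal.span (Set.range fun a => algebraMap B (Localization.AtPrime m) (x a))) + c := by
    rintro m' hm' rfl h1 h2
    exact ⟨h1, h2⟩
  obtain ⟨k1, k2⟩ := key _ inferInstance hpq r3 (by rw [e6, r4])
  exact ⟨r1, exists_params (Localization.AtPrime m) _ k2⟩

theorem exists_chart (hXreg : ∀ x : X, IsRegularLocalRing (X.presheaf.stalk x))
    (hYreg : ∀ y : Y, IsRegularLocalRing (Y.presheaf.stalk y)) (c : ℕ)
    (hcodim : ∀ y : Y, ringKrullDim (X.presheaf.stalk (i y)) = ringKrullDim (Y.presheaf.stalk y) + c)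
    (y : Y) :
    ∃ (B : Type u) (_ : CommRing B) (_ : IsNoetherianRing B) (x : Fin c → B)
      (g : Spec (CommRingCat.of B) ⟶ X) (_ : IsOpenImmersion g)
      (h : Spec (CommRingCat.of (B ⧸ Ideal.span (Set.range x))) ⟶ Y) (_ : Etale h),
      h ≫ i = Spec.map (CommRingCat.ofHom (Ideal.Quotient.mk _)) ≫ g ∧ y ∈ Set.range h ∧
      (∀ q : Spec (CommRingCat.of B), g q ∈ Set.range i ↔ ∀ a, x a ∈ q.asIdeal) ∧
      K556.RegMap.RegAt x := by
  have hYN : IsLocallyNoetherian Y := LocallyOfFiniteType.isLocallyNoetherian i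
  obtain ⟨A, j, hj, hyj⟩ : ∃ (R : CommRingCat.{u}) (j : Spec R ⟶ X), IsOpenImmersion j ∧ i y ∈ Set.range j :=
    ⟨_, X.affineCover.f (X.affineCover.idx (i y)), X.affineCover.map_prop _, X.affineCover.covers (i y)⟩
  obtain ⟨q, hq⟩ := hyj
  have hN : IsNoetherianRing A := isNoetherianRing_chart A j
  have hAreg : IsRegularRing A := isRegularRing_chart A j hXreg
  obtain ⟨J, h₀, he, hh, hJ⟩ := exists_ideal i A j
  have hQ : IsRegularRing (A ⧸ J) := by
    apply isRegularRing_of_stalk
    intro p
    exact (Groth.Agent.Etbase.EtaleStalk.isRegularLocalRing_stalk_iff h₀ p).2 (hYreg _)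
  have hdim : ∀ (p : Ideal (A ⧸ J)) [hp : p.IsPrime],
      ringKrullDim (Localization.AtPrime (p.comap (Ideal.Quotient.mk J))) =
      ringKrullDim (Localization.AtPrime p) + c := by
    intro p hp
    let p' : Spec (CommRingCat.of (A ⧸ J)) := ⟨p, hp⟩
    let q' : Spec (CommRingCat.of A) := Spec.map (CommRingCat.ofHom (Ideal.Quotient.mk J)) p'
    have e1 := ringKrullDim_stalk (A ⧸ J) p'
    have e2 := ringKrullDim_stalk A q'
    have e3 := Groth.Agent.Etbase.EtaleStalk.ringKrullDim_stalk h₀ p'
    have e4 := Groth.Agent.Etbase.EtaleStalk.ringKrullDim_stalk j q'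
    have e5 : j q' = i (h₀ p') :=
      congrArg (fun k : Spec (CommRingCat.of (A ⧸ J)) ⟶ X => k p') hh.symm
    rw [e5, hcodim, ← e3, e1] at e4
    exact e2.symm.trans e4
  have hJq : J ≤ q.asIdeal := (hJ q).1 ⟨y, hq.symm⟩
  let p : Ideal (A ⧸ J) := q.asIdeal.map (Ideal.Quotient.mk J)
  have hp : p.IsPrime := Ideal.map_isPrime_of_surjective Ideal.Quotient.mk_surjective (by rwa [Ideal.mk_ker])
  have hpq : p.comap (Ideal.Quotient.mk J) = q.asIdeal := by
    rw [Ideal.comap_map_of_surjective' _ Ideal.Quotient.mk_surjective, Ideal.mk_ker, sup_eq_left.2 hJq]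
  obtain ⟨e⟩ := nonempty_quotient_equiv A J p
  have hreg := IsRegularLocalRing.of_ringEquiv e
  have hdim' : ringKrullDim (Localization.AtPrime (p.comap (Ideal.Quotient.mk J))) =
      ringKrullDim (Localization.AtPrime (p.comap (Ideal.Quotient.mk J)) ⧸
      J.map (algebraMap A (Localization.AtPrime (p.comap (Ideal.Quotient.mk J))))) + c := by
    rw [← ringKrullDim_eq_of_ringEquiv e]
    exact hdim p
  obtain ⟨x, hx⟩ := exists_generators _ _ c hdim'
  obtain ⟨f, hf, s, hs, hsf⟩ := exists_spread A J (p.comap (Ideal.Quotient.mk J)) x hx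
  rw [hpq] at hs
  have hI : J.map (algebraMap A (Localization.Away s)) =
      Ideal.span (Set.range fun a => algebraMap A (Localization.Away s) (f a)) := by
    have hsu : IsUnit (algebraMap A (Localization.Away s) s) :=
      IsLocalization.map_units (Localization.Away s) (⟨s, 1, pow_one s⟩ : Submonoid.powers s)
    apply le_antisymm
    · rw [Ideal.map_le_iff_le_comap]
      intro y hy
      rw [Ideal.mem_comap]
      have h4 : algebraMap A (Localization.Away s) s * algebraMap A (Localization.Away s) y ∈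
          Ideal.span (Set.range fun a => algebraMap A (Localization.Away s) (f a)) := by
        rw [← map_mul]
        have := Ideal.mem_map_of_mem (algebraMap A (Localization.Away s)) (hsf y hy)
        rw [Ideal.map_span, ← Set.range_comp] at this
        exact this
      exact (Ideal.unit_mul_mem_iff_mem _ hsu).1 h4
    · rw [Ideal.span_le]
      rintro _ ⟨a, rfl⟩
      exact Ideal.mem_map_of_mem _ (hf a)
  let r : Spec (CommRingCat.of (Localization.Away s)) ⟶ Spec A :=
    Spec.map (CommRingCat.ofHom (algebraMap A (Localization.Away s)))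
  have hr : IsOpenImmersion r := inferInstance
  have hqr : q ∈ Set.range r := by
    have h1 := PrimeSpectrum.localization_away_comap_range (Localization.Away s) s
    have : q ∈ (PrimeSpectrum.basicOpen s : Set (PrimeSpectrum A)) := hs
    rw [← h1] at this
    exact this
  obtain ⟨qB, hqB⟩ := hqr
  have hex : ∃ (h : Spec (CommRingCat.of (Localization.Away s ⧸ J.map (algebraMap A (Localization.Away s)))) ⟶ Y)
      (_ : Etale h), h ≫ i = Spec.map (CommRingCat.ofHom (Ideal.Quotient.mk
        (J.map (algebraMap A (Localization.Away s))))) ≫ r ≫ j := by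
    let ψ : A ⧸ J →+* Localization.Away s ⧸ J.map (algebraMap A (Localization.Away s)) :=
      Ideal.quotientMap _ (algebraMap A (Localization.Away s)) Ideal.le_comap_map
    have hψ : Etale (Spec.map (CommRingCat.ofHom ψ)) := by
      have h1 := etale_quotient A (Localization.Away s) J
      rw [HasRingHomProperty.Spec_iff (P := @Etale)]
      exact RingHom.etale_algebraMap.2 h1
    refine ⟨Spec.map (CommRingCat.ofHom ψ) ≫ h₀, inferInstance, ?_⟩
    rw [Category.assoc, hh, ← Spec.map_comp_assoc, ← Spec.map_comp_assoc]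
    rfl
  rw [hI] at hex
  obtain ⟨h, hhe, hhh⟩ := hex
  have hJr : ∀ q : Spec (CommRingCat.of (Localization.Away s)), (r ≫ j) q ∈ Set.range i ↔
      ∀ a, algebraMap A (Localization.Away s) (f a) ∈ q.asIdeal := by
    intro q
    have h1 : (r ≫ j) q = j (r q) := rfl
    rw [h1, hJ]
    have h2 : J ≤ (r q).asIdeal ↔ J.map (algebraMap A (Localization.Away s)) ≤ q.asIdeal := by
      rw [Ideal.map_le_iff_le_comap]; rfl
    rw [h2, hI, Ideal.span_le]
    exact ⟨fun h a => h ⟨a, rfl⟩, by rintro h _ ⟨a, rfl⟩; exact h a⟩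
  refine ⟨Localization.Away s, inferInstance, inferInstance, fun a => algebraMap A _ (f a), r ≫ j,
    inferInstance, h, hhe, hhh, ?_, hJr, regAt_of_chart i hXreg hYreg c hcodim _ (r ≫ j) h hhh⟩
  have h1 : ∀ a, algebraMap A (Localization.Away s) (f a) ∈ qB.asIdeal := by
    rw [← hJr]
    have : (r ≫ j) qB = j (r qB) := rfl
    rw [this, hqB]
    exact ⟨y, hq.symm⟩
  have hle : Ideal.span (Set.range fun a => algebraMap A (Localization.Away s) (f a)) ≤ qB.asIdeal := by
    rw [Ideal.span_le]; rintro _ ⟨a, rfl⟩; exact h1 a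
  let w : Spec (CommRingCat.of (Localization.Away s ⧸
      Ideal.span (Set.range fun a => algebraMap A (Localization.Away s) (f a)))) :=
    ⟨qB.asIdeal.map (Ideal.Quotient.mk _), Ideal.map_isPrime_of_surjective Ideal.Quotient.mk_surjective
      (by rwa [Ideal.mk_ker])⟩
  have hw : Spec.map (CommRingCat.ofHom (Ideal.Quotient.mk _)) w = qB := by
    apply PrimeSpectrum.ext
    change (qB.asIdeal.map (Ideal.Quotient.mk _)).comap (Ideal.Quotient.mk _) = _
    rw [Ideal.comap_map_of_surjective' _ Ideal.Quotient.mk_surjective, Ideal.mk_ker, sup_eq_left.2 hle]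
  refine ⟨w, i.isClosedEmbedding.injective ?_⟩
  have h2 : i (h w) = (r ≫ j) (Spec.map (CommRingCat.ofHom (Ideal.Quotient.mk _)) w) :=
    congrArg (fun k : _ ⟶ X => k w) hhh
  rw [h2, hw]
  have : (r ≫ j) qB = j (r qB) := rfl
  rw [this, hqB]
  exact hq

end Scheme

end K556.ChartC
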