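import Groth.Agent.EtDl.K556.ToPush
import Groth.Agent.Etrest.ShriekBC7

/-!
# Compatibility of the base change isomorphism of `f_!` with the inclusions `f_! ⟶ f_*`
-/

set_option autoImplicit false
universe u
open CategoryTheory CategoryTheory.Limits AlgebraicGeometry Opposite

namespace K556.BCCompat

open Groth.Agent.Etrest.ShriekComp Groth.Agent.Etrest.ShriekBC K556.ToPush
open Groth.Agent.EtpbcA.ConsVan Groth.Agent.EtpbcA.ConsPull

variable {X Y X' Y' : Scheme.{u}} {f : X ⟶ Y} {g : Y' ⟶ Y} {f' : X' ⟶ Y'} {g' : X' ⟶ X}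
  (sq : IsPullback g' f' f g) [IsSeparated f] [LocallyOfFiniteType f] [LocallyOfFiniteType f']

theorem bcMap_incl (F : EtCoh.Ab X) :
    bcMap sq F ≫ (incl f').app ((EtCoh.pull g').obj F) =
      (EtCoh.pull g).map ((incl f).app F) ≫ EtCoh.baseChange0 f g f' g' sq.w F := by
  apply hom_ext_eta
  intro V s
  have h1 := bcMap_eta sq F s
  have h2 := eta_map g ((incl f).app F) s
  have h3 := baseChange0_eta sq F (((incl f).app F).hom.app (op V) s)
  refine Eq.trans (congrArg (((incl f').app ((EtCoh.pull g').obj F)).hom.app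
    (op ((EtCoh.bc g).obj V))) h1) ?_
  refine Eq.trans ?_ (congrArg ((EtCoh.baseChange0 f g f' g' sq.w F).hom.app
    (op ((EtCoh.bc g).obj V))) h2).symm
  refine Eq.trans ?_ h3.symm
  exact val_gamFun sq F s

/-- The base change isomorphism for `f_!`. -/
noncomputable def bcIso (F : EtCoh.Ab X) :
    (EtCoh.pull g).obj ((EtShriek.lowerShriek f).obj F) ≅
      (EtShriek.lowerShriek f').obj ((EtCoh.pull g').obj F) :=
  have := BC.of_lft f _ _ _ sq F
  (EtCoh.pull g).mapIso ((lowerShriekIso f).app F) ≪≫ asIso (bcMap sq F) ≪≫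
    ((lowerShriekIso f').app _).symm

theorem bcIso_hom_comp (F : EtCoh.Ab X) :
    (bcIso sq F).hom ≫ EtShriek.lowerShriekToPush f' ((EtCoh.pull g').obj F) =
      (EtCoh.pull g).map (EtShriek.lowerShriekToPush f F) ≫ EtCoh.baseChange0 f g f' g' sq.w F := by
  have h2 : (lowerShriekIso f').inv.app ((EtCoh.pull g').obj F) ≫
      EtShriek.lowerShriekToPush f' ((EtCoh.pull g').obj F) = (incl f').app ((EtCoh.pull g').obj F) := by
    rw [← lowerShriekIso_hom_comp, ← Category.assoc, Iso.inv_hom_id_app]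
    exact Category.id_comp _
  have h1 : (bcIso sq F).hom = (EtCoh.pull g).map ((lowerShriekIso f).hom.app F) ≫ bcMap sq F ≫
      (lowerShriekIso f').inv.app ((EtCoh.pull g').obj F) := rfl
  rw [h1, Category.assoc, Category.assoc, h2, bcMap_incl, ← Category.assoc, ← Functor.map_comp,
    lowerShriekIso_hom_comp]

end K556.BCCompat
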