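import Groth.Agent.EtDl.K556.SncPoly
import Groth.Agent.EtDl.K852.PMod
import Mathlib.AlgebraicGeometry.Morphisms.Etale
import Mathlib.AlgebraicGeometry.Morphisms.Smooth
import Mathlib.AlgebraicGeometry.Noetherian
import Mathlib.AlgebraicGeometry.Morphisms.UniversallyOpen
import Mathlib.AlgebraicGeometry.Morphisms.FlatDescent

/-!
# Certificates: formal properties
-/

set_option autoImplicit false
universe u

open CategoryTheory CategoryTheory.Limits AlgebraicGeometry

namespace K556.CertBasic

open K556.CertDef K556.SncAlg K556.SncPoly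

theorem Cert.of_iso {X Y : Scheme.{u}} (f : Y ⟶ X) [IsIso f] (V : X.Opens) (h : Cert Y (f ⁻¹ᵁ V)) : Cert X V :=
  Cert.etale (k := 1) V (fun _ => Y) (fun _ => f) (fun _ => inferInstance) (fun _ => inferInstance)
    (fun x => ⟨0, f.surjective x⟩) (fun _ => h)

theorem Cert.of_etale_pointwise {X : Scheme.{u}} [CompactSpace X] (V : X.Opens)
    (h : ∀ x : X, ∃ (Y : Scheme.{u}) (f : Y ⟶ X), Etale f ∧ QuasiCompact f ∧ x ∈ Set.range f ∧
      Cert Y (f ⁻¹ᵁ V)) : Cert X V := by
  choose Y f h1 h2 h3 h4 using h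
  have hopen : ∀ x, IsOpen (Set.range (f x)) := fun x => (f x).isOpenMap.isOpen_range
  obtain ⟨t, ht⟩ := isCompact_univ.elim_finite_subcover (fun x => Set.range (f x)) hopen
    (fun x _ => Set.mem_iUnion.2 ⟨x, h3 x⟩)
  let e := t.equivFin
  refine Cert.etale (k := t.card) V (fun a => Y (e.symm a)) (fun a => f (e.symm a)) (fun a => h1 _)
    (fun a => h2 _) (fun x => ?_) (fun a => h4 _)
  obtain ⟨y, hy, hxy⟩ := Set.mem_iUnion₂.1 (ht (Set.mem_univ x))
  refine ⟨e ⟨y, hy⟩, ?_⟩
  rw [e.symm_apply_apply]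
  exact hxy

theorem Cert.of_isEmpty {X : Scheme.{u}} [IsEmpty X] (V : X.Opens) : Cert X V :=
  Cert.etale (k := 0) V (fun a => a.elim0) (fun a => a.elim0) (fun a => a.elim0) (fun a => a.elim0)
    (fun x => isEmptyElim x) (fun a => a.elim0)

/-- A regular algebra over a leaf. -/
theorem leaf_of_regular {R : Type u} [CommRing R] {ι : Type} [Finite ι] {z : ι → R} (h : SNC R z)
    (V : (Spec (CommRingCat.of R)).Opens)
    (hV : ∀ p : Spec (CommRingCat.of R), (∀ i, z i ∉ p.asIdeal) → p ∈ V)
    (A : Type u) [CommRing A] [IsNoetherianRing A] [Algebra R A] (hA : CAlg.IsRegularHom R A) :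
    Cert (Spec (CommRingCat.of A)) (Spec.map (CommRingCat.ofHom (algebraMap R A)) ⁻¹ᵁ V) := by
  refine Cert.leaf A (fun i => algebraMap R A (z i)) (SNC.map h hA) _ fun p hp => ?_
  exact hV _ fun i hi => hp i hi

/-- A smooth algebra over a leaf. -/
theorem leaf_of_smooth {R : Type u} [CommRing R] {ι : Type} [Finite ι] {z : ι → R} (h : SNC R z)
    (V : (Spec (CommRingCat.of R)).Opens)
    (hV : ∀ p : Spec (CommRingCat.of R), (∀ i, z i ∉ p.asIdeal) → p ∈ V)
    {A : CommRingCat.{u}} (g : Spec A ⟶ Spec (CommRingCat.of R)) [Smooth g] :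
    Cert (Spec A) (g ⁻¹ᵁ V) := by
  obtain ⟨φ, rfl⟩ := Spec.map_surjective g
  have h1 : φ.hom.Smooth := HasRingHomProperty.Spec_iff.mp ‹_›
  algebraize [φ.hom]
  have := noeth h
  have h2 : IsNoetherianRing A := Algebra.FiniteType.isNoetherianRing R A
  exact leaf_of_regular h V hV A (Groth.Agent.Flat2G.SmoothRegNorm.isRegularHom_of_smooth R A)

/-- Étale base change. -/
theorem Cert.etale_pullback {X : Scheme.{u}} {V : X.Opens} (h : Cert X V) {X' : Scheme.{u}} (g : X' ⟶ X)
    [Etale g] [QuasiCompact g] : Cert X' (g ⁻¹ᵁ V) := by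
  induction h generalizing X' with
  | leaf R z h V hV =>
    have : CompactSpace X' := QuasiCompact.compactSpace_of_compactSpace g
    have := noeth h
    have : IsLocallyNoetherian X' := LocallyOfFiniteType.isLocallyNoetherian g
    refine Cert.of_etale_pointwise _ fun x => ?_
    obtain ⟨U, hU, hxU, -⟩ := exists_isAffineOpen_mem_and_subset (x := x) (U := ⊤) trivial
    refine ⟨Spec Γ(X', U), hU.fromSpec, inferInstance, inferInstance, ?_, ?_⟩
    · rw [hU.range_fromSpec]; exact hxU
    · rw [← Scheme.Hom.comp_preimage]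
      exact leaf_of_smooth h V hV (hU.fromSpec ≫ g)
  | @etale X V k Y f h1 h2 h3 h ih =>
    have h1' := h1
    have h2' := h2
    refine Cert.etale _ (fun a => pullback g (f a)) (fun a => pullback.fst g (f a)) (fun a => inferInstance)
      (fun a => inferInstance) (fun x => ?_) (fun a => ?_)
    · obtain ⟨a, y, hy⟩ := h3 (g x)
      obtain ⟨w, hw1, hw2⟩ := Scheme.Pullback.exists_preimage_pullback x y hy.symm
      exact ⟨a, w, hw1⟩
    · rw [← Scheme.Hom.comp_preimage, pullback.condition, Scheme.Hom.comp_preimage]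
      exact ih a (pullback.snd g (f a))
  | @proper X V k Y f h1 h3 h ih =>
    have h1' := h1
    refine Cert.proper _ (fun a => pullback g (f a)) (fun a => pullback.fst g (f a)) (fun a => inferInstance)
      (fun x hx => ?_) (fun a => ?_)
    · obtain ⟨a, y, hy⟩ := h3 (g x) hx
      obtain ⟨w, hw1, hw2⟩ := Scheme.Pullback.exists_preimage_pullback x y hy.symm
      exact ⟨a, w, hw1⟩
    · rw [← Scheme.Hom.comp_preimage, pullback.condition, Scheme.Hom.comp_preimage]
      exact ih a (pullback.snd g (f a))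

/-! ### Rings -/

/-- Certificates for all open subsets containing `D(f)`. -/
def Res (R : Type u) [CommRing R] (f : R) : Prop :=
  ∀ V : (Spec (CommRingCat.of R)).Opens, (∀ p : Spec (CommRingCat.of R), f ∉ p.asIdeal → p ∈ V) →
    Cert (Spec (CommRingCat.of R)) V

theorem Res.leaf {R : Type u} [CommRing R] {ι : Type} [Fintype ι] {z : ι → R} (h : SNC R z) :
    Res R (∏ i, z i) := by
  intro V hV
  refine Cert.leaf R z h V fun p hp => hV p ?_
  rw [Ideal.IsPrime.prod_mem_iff]
  rintro ⟨i, -, hi⟩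
  exact hp i hi

theorem Res.mono {R : Type u} [CommRing R] {f f' : R} (h : Res R f)
    (hf : ∀ p : PrimeSpectrum R, f' ∈ p.asIdeal → f ∈ p.asIdeal) : Res R f' :=
  fun V hV => h V fun p hp => hV p fun h' => hp (hf p h')

theorem Res.of_pull {R : Type u} [CommRing R] {f : R} {V : (Spec (CommRingCat.of R)).Opens}
    (hV : ∀ p : Spec (CommRingCat.of R), f ∉ p.asIdeal → p ∈ V) {R' : Type u} [CommRing R'] (φ : R →+* R')
    (h : Res R' (φ f)) : Cert (Spec (CommRingCat.of R')) (Spec.map (CommRingCat.ofHom φ) ⁻¹ᵁ V) :=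
  h _ fun p hp => hV _ hp

theorem Res.of_ringEquiv {R R' : Type u} [CommRing R] [CommRing R'] (e : R ≃+* R') {f : R} (h : Res R' (e f)) :
    Res R f := by
  intro V hV
  have : IsIso (Spec.map (CommRingCat.ofHom (e : R →+* R'))) := by
    have : IsIso (CommRingCat.ofHom (e : R →+* R')) := (RingEquiv.toCommRingCatIso e).isIso_hom
    infer_instance
  exact Cert.of_iso (Spec.map (CommRingCat.ofHom (e : R →+* R'))) V (Res.of_pull hV (e : R →+* R') h)

theorem Res.of_etale_pointwise {R : Type u} [CommRing R] {f : R}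
    (h : ∀ p : PrimeSpectrum R, ∃ (R' : Type u) (_ : CommRing R') (_ : Algebra R R'), Algebra.Etale R R' ∧
      (∃ q : PrimeSpectrum R', q.comap (algebraMap R R') = p) ∧ Res R' (algebraMap R R' f)) : Res R f := by
  intro V hV
  refine Cert.of_etale_pointwise V fun p => ?_
  obtain ⟨R', _, _, h1, ⟨q, hq⟩, h2⟩ := h p
  refine ⟨Spec (CommRingCat.of R'), Spec.map (CommRingCat.ofHom (algebraMap R R')), ?_, inferInstance, ⟨q, hq⟩,
    Res.of_pull hV _ h2⟩
  rw [HasRingHomProperty.Spec_iff (P := @Etale)]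
  exact RingHom.etale_algebraMap.2 h1

/-- Zariski covers. -/
theorem Res.of_away_pointwise {R : Type u} [CommRing R] {f : R}
    (h : ∀ p : PrimeSpectrum R, ∃ s : R, s ∉ p.asIdeal ∧ ∃ (R' : Type u) (_ : CommRing R') (_ : Algebra R R'),
      IsLocalization.Away s R' ∧ Res R' (algebraMap R R' f)) : Res R f := by
  refine Res.of_etale_pointwise fun p => ?_
  obtain ⟨s, hs, R', _, _, h1, h2⟩ := h p
  refine ⟨R', _, _, Algebra.Etale.of_isLocalizationAway s, ?_, h2⟩
  have h3 := PrimeSpectrum.localization_away_comap_range R' s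
  have h4 : p ∈ Set.range (PrimeSpectrum.comap (algebraMap R R')) := by
    rw [h3]; exact hs
  exact h4

/-- Open restriction. -/
theorem Res.localizationAway {R : Type u} [CommRing R] {f : R} (h : Res R f) (s : R) (R' : Type u) [CommRing R']
    [Algebra R R'] [IsLocalization.Away s R'] : Res R' (algebraMap R R' f) := by
  intro V hV
  let g := Spec.map (CommRingCat.ofHom (algebraMap R R'))
  have hg : IsOpenImmersion g := IsOpenImmersion.of_isLocalization s
  let D : (Spec (CommRingCat.of R)).Opens := PrimeSpectrum.basicOpen f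
  let W : (Spec (CommRingCat.of R)).Opens := g ''ᵁ V ⊔ D
  have h1 : Cert (Spec (CommRingCat.of R)) W := h W fun p hp => Or.inr hp
  have h2 : g ⁻¹ᵁ W = V := by
    ext p
    constructor
    · rintro (⟨q, hq, hqp⟩ | hp)
      · have : q = p := g.isOpenEmbedding.injective hqp
        exact this ▸ hq
      · exact hV p hp
    · intro hp
      exact Or.inl ⟨p, hp, rfl⟩
  rw [← h2]
  exact Cert.etale_pullback h1 g

/-- Finite surjective covers. -/
theorem Res.of_finite {R : Type u} [CommRing R] {f : R} {R' : Type u} [CommRing R'] [Algebra R R']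
    [Module.Finite R R'] (hs : ∀ p : PrimeSpectrum R, ∃ q : PrimeSpectrum R', q.comap (algebraMap R R') = p)
    (h : Res R' (algebraMap R R' f)) : Res R f := by
  intro V hV
  let g := Spec.map (CommRingCat.ofHom (algebraMap R R'))
  have hfin : IsFinite g := by
    rw [IsFinite.SpecMap_iff]
    exact RingHom.finite_algebraMap.2 inferInstance
  exact Cert.proper (k := 1) V (fun _ => _) (fun _ => g) (fun _ => inferInstance) (fun x _ => ⟨0, hs x⟩)
    (fun _ => Res.of_pull hV _ h)

/-- The `P^1`-modification. -/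
theorem Res.pmod {R : Type u} [CommRing R] {f : R} (a b c d : R) (habcd : a * d = b * c)
    (h0 : Res (K852.PMod.T0 a b c d) (algebraMap R _ f)) (h1 : Res (K852.PMod.T1 a b c d) (algebraMap R _ f)) :
    Res R f :=
  fun V hV => K852.PMod.cert a b c d habcd V (Res.of_pull hV _ h0) (Res.of_pull hV _ h1)

end K556.CertBasic
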