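import Mathlib.RingTheory.Ideal.KrullsHeightTheorem
import Mathlib.RingTheory.QuasiFinite.Basic
import Mathlib.RingTheory.ZariskisMainTheorem
import Mathlib.Algebra.MvPolynomial.CommRing
import Mathlib.RingTheory.Nullstellensatz

/-!
# Exchanging one element in a system of parameters
-/

set_option autoImplicit false
universe u

namespace K556.Exchange

variable {A : Type u} [CommRing A]

/-- The exchange lemma. -/
theorem mem_minimalPrimes_of_exchange [IsNoetherianRing A] (m : Ideal A) [hm : m.IsPrime]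
    (I : Ideal A) (x w : A) (hx : m ∈ (I ⊔ Ideal.span {x}).minimalPrimes)
    (hI : m ∉ I.minimalPrimes) (hw : w ∈ m) (hwP : ∀ P ∈ I.minimalPrimes, P ≠ m → w ∉ P) :
    m ∈ (I ⊔ Ideal.span {w}).minimalPrimes := by
  have hIm : I ≤ m := le_sup_left.trans hx.1.2
  refine ⟨⟨hm, sup_le hIm (by simpa [Ideal.span_le] using hw)⟩, ?_⟩
  rintro Q ⟨hQ, hQle⟩ hQm
  obtain ⟨P, hP, hPQ⟩ := Ideal.exists_minimalPrimes_le (le_sup_left.trans hQle)
  have hPm : P ≠ m := fun h => hI (h ▸ hP)
  have hwP' := hwP P hP hPm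
  have hPp : P.IsPrime := hP.1.1
  have hwQ : w ∈ Q := hQle (Ideal.mem_sup_right (Ideal.mem_span_singleton_self w))
  have hPQ' : P < Q := lt_of_le_of_ne hPQ (fun h => hwP' (h ▸ hwQ))
  have hPle : P ≤ m := hPQ.trans hQm
  have h1 : m ∈ (P ⊔ Ideal.span {x}).minimalPrimes := by
    refine ⟨⟨hm, sup_le hPle (le_sup_right.trans hx.1.2)⟩, ?_⟩
    rintro Q' ⟨hQ', hQ'le⟩ hQ'm
    exact hx.2 ⟨hQ', sup_le (hP.1.2.trans (le_sup_left.trans hQ'le)) (le_sup_right.trans hQ'le)⟩ hQ'm
  have h2 := Ideal.map_height_le_one_of_mem_minimalPrimes h1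
  by_contra hcon
  have hQlt : Q < m := lt_of_le_of_ne hQm (fun h => hcon h.ge)
  have hsurj : Function.Surjective (Ideal.Quotient.mk P) := Ideal.Quotient.mk_surjective
  have p1 : (Q.map (Ideal.Quotient.mk P)).IsPrime :=
    Ideal.map_isPrime_of_surjective hsurj (by simpa using hPQ)
  have p2 : (m.map (Ideal.Quotient.mk P)).IsPrime :=
    Ideal.map_isPrime_of_surjective hsurj (by simpa using hPle)
  have c1 : (Q.map (Ideal.Quotient.mk P)).comap (Ideal.Quotient.mk P) = Q := by
    rw [Ideal.comap_map_of_surjective _ hsurj, ← RingHom.ker_eq_comap_bot, Ideal.mk_ker,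
      sup_eq_left.mpr hPQ]
  have c2 : (m.map (Ideal.Quotient.mk P)).comap (Ideal.Quotient.mk P) = m := by
    rw [Ideal.comap_map_of_surjective _ hsurj, ← RingHom.ker_eq_comap_bot, Ideal.mk_ker,
      sup_eq_left.mpr hPle]
  have l1 : (⊥ : Ideal (A ⧸ P)) < Q.map (Ideal.Quotient.mk P) := by
    refine bot_lt_iff_ne_bot.mpr fun h => hPQ'.ne ?_
    rw [← c1, h, ← RingHom.ker_eq_comap_bot, Ideal.mk_ker]
  have l2 : Q.map (Ideal.Quotient.mk P) < m.map (Ideal.Quotient.mk P) := by
    refine lt_of_le_of_ne (Ideal.map_mono hQm) fun h => hQlt.ne ?_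
    rw [← c1, h, c2]
  have hb : (⊥ : Ideal (A ⧸ P)).IsPrime := Ideal.isPrime_bot
  have e1 := Ideal.height_add_one_le_of_lt_of_isPrime l1
  have e2 := Ideal.height_add_one_le_of_lt_of_isPrime l2
  have e3 : (2 : ℕ∞) ≤ (m.map (Ideal.Quotient.mk P)).height := by
    refine le_trans ?_ e2
    calc (2 : ℕ∞) = 0 + 1 + 1 := by norm_num
      _ ≤ _ := by gcongr; exact (le_trans (by gcongr; exact zero_le) e1)
  exact absurd (e3.trans h2) (by norm_num)

section Good

variable (k : Type u) [Field k] [Algebra k A] {ι : Type u}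

/-- `c` is a system of parameters at `m`, up to constants. -/
def Good (m : Ideal A) (c : ι → A) : Prop :=
  ∃ a : ι → k, m ∈ (Ideal.span (Set.range fun i => c i - algebraMap k A (a i))).minimalPrimes

open Classical in
theorem exchange [IsNoetherianRing A] [Finite ι] (m : Ideal A) [hm : m.IsMaximal]
    (hh : m.height = Nat.card ι) (c : ι → A) (i : ι) (hc : Good k m c) :
    ∃ S : Set (Ideal A), S.Finite ∧ (∀ P ∈ S, P.IsPrime ∧ ¬ m ≤ P) ∧
      ∀ w ∈ m, (∀ P ∈ S, w ∉ P) → Good k m (Function.update c i w) := by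
  obtain ⟨a, ha⟩ := hc
  let I : Ideal A := Ideal.span ((fun j => c j - algebraMap k A (a j)) '' {j | j ≠ i})
  have hIfin : I.minimalPrimes.Finite := I.finite_minimalPrimes_of_isNoetherianRing
  have hI : m ∉ I.minimalPrimes := by
    intro h
    have h1 := Ideal.height_le_card_of_mem_minimalPrimes_span (Set.toFinite _) h
    have h2 : (((fun j => c j - algebraMap k A (a j)) '' {j | j ≠ i}).ncard : ℕ∞) < Nat.card ι := by
      rw [Nat.cast_lt]
      refine lt_of_le_of_lt (Set.ncard_image_le (Set.toFinite _)) ?_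
      have := Set.ncard_lt_ncard (s := {j : ι | j ≠ i}) (t := Set.univ)
        (by rw [Set.ssubset_univ_iff]; exact fun h => by simpa using (h ▸ Set.mem_univ i : i ∈ {j : ι | j ≠ i}))
      rwa [Set.ncard_univ] at this
    rw [hh] at h1
    exact absurd (lt_of_le_of_lt h1 h2) (lt_irrefl _)
  have hspan : Ideal.span (Set.range fun i => c i - algebraMap k A (a i)) =
      I ⊔ Ideal.span {c i - algebraMap k A (a i)} := by
    rw [← Ideal.span_union]
    congr 1
    ext y
    constructor
    · rintro ⟨j, rfl⟩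
      by_cases hj : j = i
      · subst hj; right; rfl
      · left; exact ⟨j, hj, rfl⟩
    · rintro (⟨j, _, rfl⟩ | rfl)
      · exact ⟨j, rfl⟩
      · exact ⟨i, rfl⟩
  refine ⟨{P ∈ I.minimalPrimes | P ≠ m}, hIfin.subset (fun _ h => h.1), ?_, ?_⟩
  · rintro P ⟨hP, hPm⟩
    exact ⟨hP.1.1, fun hle => hPm (hm.eq_of_le hP.1.1.ne_top hle).symm⟩
  · intro w hw hwS
    refine ⟨Function.update a i 0, ?_⟩
    have hspan' : Ideal.span (Set.range fun j => Function.update c i w j -
        algebraMap k A (Function.update a i 0 j)) = I ⊔ Ideal.span {w} := by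
      rw [← Ideal.span_union]
      congr 1
      ext y
      constructor
      · rintro ⟨j, rfl⟩
        by_cases hj : j = i
        · subst hj; right; simp
        · left; exact ⟨j, hj, by simp [hj]⟩
      · rintro (⟨j, hj, rfl⟩ | rfl)
        · have hj' : j ≠ i := hj
          exact ⟨j, by simp [hj']⟩
        · exact ⟨i, by simp⟩
    rw [hspan']
    rw [hspan] at ha
    exact mem_minimalPrimes_of_exchange m I _ w ha hI hw (fun P hP hPm => hwS P ⟨hP, hPm⟩)

/-- One step of the chain. -/
def Step (m : Ideal A) (c d : ι → A) : Prop :=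
  Good k m c ∧ Good k m d ∧ ∃ i, ∀ i', i' ≠ i → c i' = d i'

theorem Step.symm {m : Ideal A} {c d : ι → A} (h : Step k m c d) : Step k m d c :=
  ⟨h.2.1, h.1, h.2.2.imp fun _ hi i' hi' => (hi i' hi').symm⟩

open Classical in
theorem chain_aux [IsNoetherianRing A] [Finite ι] (m : Ideal A) [hm : m.IsMaximal]
    (hh : m.height = Nat.card ι) (s : Finset ι) :
    ∀ c d : ι → A, Good k m c → Good k m d → (∀ i ∉ s, c i = d i) →
      Relation.ReflTransGen (Step k m) c d := by
  induction s using Finset.induction_on with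
  | empty =>
    intro c d _ _ h
    have : c = d := funext fun i => h i (by simp)
    subst this
    exact .refl
  | insert i s hi ih =>
    intro c d hc hd h
    obtain ⟨S, hS, hS1, hS2⟩ := exchange k m hh c i hc
    obtain ⟨T, hT, hT1, hT2⟩ := exchange k m hh d i hd
    obtain ⟨w, hw, hwn⟩ : ∃ w ∈ m, ∀ P ∈ S ∪ T, w ∉ P := by
      by_contra hcon
      push Not at hcon
      have hfin : (S ∪ T).Finite := hS.union hT
      have hle : (m : Set A) ⊆ ⋃ P ∈ (hfin.toFinset : Set (Ideal A)), (P : Set A) := by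
        intro w hw
        obtain ⟨P, hP, hwP⟩ := hcon w hw
        simp only [Set.mem_iUnion]
        exact ⟨P, by simpa using hP, hwP⟩
      have := (Ideal.subset_union_prime (s := hfin.toFinset) (f := id) ⊥ ⊥ (by
        intro P hP _ _
        rcases (by simpa using hP : P ∈ S ∨ P ∈ T) with h | h
        · exact (hS1 P h).1
        · exact (hT1 P h).1)).1 hle
      obtain ⟨P, hP, hmP⟩ := this
      rcases (by simpa using hP : P ∈ S ∨ P ∈ T) with h | h
      · exact (hS1 P h).2 hmP
      · exact (hT1 P h).2 hmP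
    have hc' := hS2 w hw (fun P hP => hwn P (Or.inl hP))
    have hd' := hT2 w hw (fun P hP => hwn P (Or.inr hP))
    have h1 : Step k m c (Function.update c i w) :=
      ⟨hc, hc', i, fun i' hi' => by simp [hi']⟩
    have h2 : Step k m (Function.update d i w) d :=
      ⟨hd', hd, i, fun i' hi' => by simp [hi']⟩
    refine Relation.ReflTransGen.head h1 (Relation.ReflTransGen.tail (ih _ _ hc' hd' ?_) h2)
    intro j hj
    by_cases hji : j = i
    · subst hji; simp
    · simp only [Function.update_of_ne hji]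
      exact h j (by simp [hji, hj])

theorem chain [IsNoetherianRing A] [Finite ι] (m : Ideal A) [hm : m.IsMaximal]
    (hh : m.height = Nat.card ι) (c d : ι → A) (hc : Good k m c) (hd : Good k m d) :
    ∃ (n : ℕ) (w : Fin (n + 1) → (ι → A)), w 0 = c ∧ w (Fin.last n) = d ∧
      (∀ j, Good k m (w j)) ∧
      ∀ j : Fin n, ∃ i, ∀ i', i' ≠ i → w j.castSucc i' = w j.succ i' := by
  have := Fintype.ofFinite ι
  have h := chain_aux k m hh Finset.univ c d hc hd (by simp)
  clear hd
  induction h with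
  | refl => exact ⟨0, fun _ => c, rfl, rfl, fun _ => hc, fun j => j.elim0⟩
  | @tail d e _ hde ih =>
    obtain ⟨n, w, h0, hl, hg, hs⟩ := ih
    refine ⟨n + 1, Fin.snoc w e, ?_, by simp, ?_, ?_⟩
    · rw [← Fin.castSucc_zero, Fin.snoc_castSucc, h0]
    · intro j
      refine Fin.lastCases ?_ (fun j => ?_) j
      · rw [Fin.snoc_last]; exact hde.2.1
      · rw [Fin.snoc_castSucc]; exact hg j
    · intro j
      refine Fin.lastCases ?_ (fun j => ?_) j
      · obtain ⟨i, hi⟩ := hde.2.2
        refine ⟨i, fun i' hi' => ?_⟩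
        rw [Fin.snoc_castSucc, Fin.succ_last, Fin.snoc_last, hl]
        exact hi i' hi'
      · obtain ⟨i, hi⟩ := hs j
        refine ⟨i, fun i' hi' => ?_⟩
        rw [Fin.snoc_castSucc, ← Fin.castSucc_succ, Fin.snoc_castSucc]
        exact hi i' hi'

end Good

end K556.Exchange
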