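import Groth.Agent.CalgB.CohenPres
import Groth.Agent.CalgB.GRing2
import Groth.Agent.CalgA.CharZeroFS
import Groth.Agent.Etdl.H434.FTAll
import Groth.Agent.Etdl.H434.Dev
import Groth.Agent.Etdl.H434.FinH
import Groth.Agent.Etdl.H428.RegBC
import Groth.Agent.EtpbcB.GeomPointIndep
import Groth.Agent.EtpbcA.Germ
import Mathlib.RingTheory.AdicCompletion.LocalRing

/-!
# Finiteness over complete and henselian local rings of residue characteristic zero
-/

set_option autoImplicit false
universe u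
open CategoryTheory CategoryTheory.Limits AlgebraicGeometry Opposite IsLocalRing

namespace K556.FinCpl

open Groth.Agent Groth.Agent.Sga4h Groth.Agent.Sga4h.ConsWO Groth.Agent.Sga4h.FinD

theorem isTorsionInvertibleOn_of_killedBy {S T : Scheme.{u}} {F : EtCoh.Ab T} {n : ℕ}
    (hn : IsUnit (n : Γ(S, ⊤))) (hF : EtCoh.KilledBy n F) : EtPBC.IsTorsionInvertibleOn S F :=
  fun U _ x => ⟨U, 𝟙 U, n, ⟨x, rfl⟩, hn, hF U _⟩

theorem exists_surjective (k₀ : Type*) (B : Type u) [CommRing k₀] [CommRing B] [IsLocalRing B] [Algebra k₀ B]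
    [IsNoetherianRing B] [IsAdicComplete (maximalIdeal B) B] [Algebra.FormallySmooth k₀ (ResidueField B)] :
    ∃ (d : ℕ) (Φ : MvPowerSeries (Fin d) (ResidueField B) →+* B), Function.Surjective Φ := by
  obtain ⟨Φ, hΦ, -⟩ := CalgB.CohenPres.exists_presentation (k₀ := k₀) (B := B)
  exact ⟨_, Φ.toRingHom, hΦ⟩

/-- Finiteness of direct images over complete local rings containing `ℚ`. -/
theorem fin_of_complete (B : Type u) [CommRing B] [IsLocalRing B] [IsNoetherianRing B]
    [IsAdicComplete (maximalIdeal B) B] [Algebra ℚ B] (n : ℕ) (hn : 0 < n) :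
    FinDVR.Fin n (Spec (CommRingCat.of B)) := by
  have hc : CharZero (ResidueField B) := algebraRat.charZero _
  have hfs : @Algebra.FormallySmooth ℚ (ResidueField B) _ _ (ResidueField.algebra B) :=
    @CalgA.CharZeroFS.formallySmooth_of_charZero ℚ (ResidueField B) _ _ (ResidueField.algebra B) _
  obtain ⟨d, Φ, hΦ⟩ := @exists_surjective ℚ B _ _ _ _ _ _ hfs
  let t : Spec (CommRingCat.of B) ⟶ Etdl.H434.Defs.SP d (ResidueField B) :=
    Spec.map (CommRingCat.ofHom Φ)
  have ht : IsClosedImmersion t := IsClosedImmersion.spec_of_surjective _ hΦ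
  exact Etdl.H434.Dev.fin_of_finiteType (Etdl.H434.FTAll.ft _ (ResidueField B) n hn) t

/-- Finiteness of cohomology over strictly henselian local rings with regular completion map. -/
theorem finite_H_of_completion (A : Type u) [CommRing A] [IsLocalRing A] [IsNoetherianRing A] [Algebra ℚ A]
    [HenselianLocalRing A] [IsSepClosed (ResidueField A)]
    (hreg : CAlg.IsRegularHom A (AdicCompletion (maximalIdeal A) A))
    {X : Scheme.{u}} (f : X ⟶ Spec (CommRingCat.of A)) [LocallyOfFiniteType f] [QuasiCompact f]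
    (F : EtCoh.Ab X) (hF : EtPBC.IsConstructible F) (n : ℕ) (hn : 0 < n) (hFn : EtCoh.KilledBy n F) (q : ℕ) :
    Finite (EtCoh.H X F q) := by
  have hXN : IsLocallyNoetherian X := LocallyOfFiniteType.isLocallyNoetherian f
  have hqs : QuasiSeparated f := inferInstance
  have hBN : IsNoetherianRing (AdicCompletion (maximalIdeal A) A) := S0543.result A (maximalIdeal A)
  let g : Spec (CommRingCat.of (AdicCompletion (maximalIdeal A) A)) ⟶ Spec (CommRingCat.of A) :=
    Spec.map (CommRingCat.ofHom (algebraMap A (AdicCompletion (maximalIdeal A) A)))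
  have sq : IsPullback (pullback.fst f g) (pullback.snd f g) f g := IsPullback.of_hasPullback f g
  have hu : IsUnit (n : Γ(Spec (CommRingCat.of A), ⊤)) := by
    have h0 : IsUnit (n : ℚ) := isUnit_iff_ne_zero.mpr (Nat.cast_ne_zero.mpr hn.ne')
    have h1 := h0.map (algebraMap ℚ A)
    rw [map_natCast] at h1
    have h2 := h1.map (Scheme.ΓSpecIso (CommRingCat.of A)).inv.hom
    rwa [map_natCast] at h2
  obtain ⟨⟨e⟩, -⟩ := Etdl.H428.RegBC.baseChange_of_isRegularHom hreg f (pullback.snd f g) (pullback.fst f g) sq F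
    (isTorsionInvertibleOn_of_killedBy hu hFn) q
  have hCn : Cn n X F := ⟨hF, 1, by rwa [pow_one]⟩
  have h1 : Cn n _ ((EtCoh.Rpush (pullback.snd f g) q).obj ((EtCoh.pull (pullback.fst f g)).obj F)) :=
    fin_of_complete (AdicCompletion (maximalIdeal A) A) n hn (pullback.snd f g) (𝟙 _) (pullback.snd f g)
      (Category.comp_id _) _ (cn_pull _ hCn) q
  have h2 : EtPBC.IsConstructible ((EtCoh.pull g).obj ((EtCoh.Rpush f q).obj F)) := (Cn.iso e.symm h1).1
  -- stalks
  obtain ⟨Ω, _, _, l, hl⟩ := EtpbcA.Germ.exists_geomPt_aux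
    (Spec (CommRingCat.of (AdicCompletion (maximalIdeal A) A))) (closedPoint _)
  have h3 : Finite ((EtCoh.pull g ⋙ EtCoh.stalk l).obj ((EtCoh.Rpush f q).obj F)) :=
    EtpbcB.GeomPointIndep.finite_stalk_of_constructible l _ h2
  have h4 : Finite ((EtCoh.stalk (l ≫ g)).obj ((EtCoh.Rpush f q).obj F)) :=
    Finite.of_equiv _ ((Etbase.StalkPull.stalkPullIso g l).app _).addCommGroupIsoToAddEquiv.symm.toEquiv
  have h5 : (l ≫ g) default = (Etrest.StrictLoc.resPt A ≫ 𝟙 (Spec (CommRingCat.of A))) default := by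
    have e1 : (l ≫ g) default = g (l default) := rfl
    have e2 : (Etrest.StrictLoc.resPt A ≫ 𝟙 (Spec (CommRingCat.of A))) default = closedPoint A := by
      rw [Category.comp_id]
      exact Etrest.StrictLoc.resPt_closedPoint A _
    rw [e1, e2, hl]
    have hloc : IsLocalHom (algebraMap A (AdicCompletion (maximalIdeal A) A)) := inferInstance
    exact IsLocalRing.comap_closedPoint (algebraMap A (AdicCompletion (maximalIdeal A) A))
  obtain ⟨e'⟩ := EtpbcB.GeomPointIndep.nonempty_stalkIso _ _ h5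
  have h6 : Finite ((EtCoh.stalk (Etrest.StrictLoc.resPt A ≫ 𝟙 (Spec (CommRingCat.of A)))).obj
      ((EtCoh.Rpush f q).obj F)) :=
    Finite.of_equiv _ (e'.app _).addCommGroupIsoToAddEquiv.toEquiv
  obtain ⟨e3⟩ := StalkAcyc.nonempty_stalk_iso f F (SLoc.isStrictLoc_id A) q
  have h7 : Finite (EtCoh.H (pullback f (𝟙 (Spec (CommRingCat.of A))))
      ((EtCoh.pull (pullback.fst f (𝟙 (Spec (CommRingCat.of A))))).obj F) q) :=
    Finite.of_equiv _ e3.addCommGroupIsoToAddEquiv.toEquiv
  obtain ⟨e4⟩ := Etdl.H434.FinH.nonempty_H_iso (pullback.fst f (𝟙 (Spec (CommRingCat.of A)))) F q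
  exact Finite.of_equiv _ e4.symm.toEquiv

end K556.FinCpl
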