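import Groth.Agent.EtDl.K556.Game2

/-!
# Certificates for the complement of sections of the affine line with monomial differences
-/

set_option autoImplicit false
universe u

open Polynomial

namespace K556.Game1

open K556.CertDef K556.SncAlg K556.SncPoly K556.CertBasic K556.Tor K556.Univ K556.Game2

/-! ### The measure -/

section measure

variable {ι : Type} [Fintype ι] [DecidableEq ι]

/-- The measure: value and multiplicity of the maximum. -/
def mu (f : ι → ℕ) : ℕ :=
  Finset.univ.sup f * (Fintype.card ι + 1) + (Finset.univ.filter fun k => f k = Finset.univ.sup f).card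

theorem mu_lt (f : ι → ℕ) (i : ι) (hi : ∀ k, f k ≤ f i) (v : ℕ) (hv : v < f i) :
    mu (Function.update f i v) < mu f := by
  have hsup : Finset.univ.sup f = f i :=
    le_antisymm (Finset.sup_le fun k _ => hi k) (Finset.le_sup (f := f) (Finset.mem_univ i))
  have hsup' : Finset.univ.sup (Function.update f i v) ≤ f i := by
    refine Finset.sup_le fun k _ => ?_
    by_cases hk : k = i
    · subst hk; rw [Function.update_self]; exact hv.le
    · rw [Function.update_of_ne hk]; exact hi k
  have hc : (Finset.univ.filter fun k => Function.update f i v k =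
      Finset.univ.sup (Function.update f i v)).card ≤ Fintype.card ι := Finset.card_le_univ _
  unfold mu
  rcases hsup'.lt_or_eq with h | h
  · rw [hsup]
    have h1 : Finset.univ.sup (Function.update f i v) + 1 ≤ f i := h
    nlinarith [Nat.mul_le_mul_right (Fintype.card ι + 1) h1]
  · rw [h, hsup]
    apply Nat.add_lt_add_left
    apply Finset.card_lt_card
    rw [Finset.ssubset_iff_of_subset]
    · exact ⟨i, by simp, by simp [hv.ne]⟩
    · intro k hk
      simp only [Finset.mem_filter, Finset.mem_univ, true_and] at hk ⊢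
      by_cases hki : k = i
      · rw [hki]
      · rwa [Function.update_of_ne hki] at hk

theorem mu_eq (f : ι → ℕ) (i j : ι) (hij : i ≠ j) (hj : ∀ k, f k ≤ f j) (hi : f i < f j) (v : ℕ) (hv : v < f j) :
    mu (Function.update f i v) = mu f := by
  have hsup : Finset.univ.sup f = f j :=
    le_antisymm (Finset.sup_le fun k _ => hj k) (Finset.le_sup (f := f) (Finset.mem_univ j))
  have hsup' : Finset.univ.sup (Function.update f i v) = f j := by
    refine le_antisymm (Finset.sup_le fun k _ => ?_) ?_
    · by_cases hk : k = i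
      · subst hk; rw [Function.update_self]; exact hv.le
      · rw [Function.update_of_ne hk]; exact hj k
    · have := Finset.le_sup (f := Function.update f i v) (Finset.mem_univ j)
      rwa [Function.update_of_ne hij.symm] at this
  unfold mu
  rw [hsup, hsup']
  congr 2
  ext k
  simp only [Finset.mem_filter, Finset.mem_univ, true_and]
  by_cases hki : k = i
  · rw [hki, Function.update_self]
    constructor <;> intro h <;> omega
  · rw [Function.update_of_ne hki]

/-- The measure of a pair of exponents. -/
def nu (a b : ι → ℕ) : ℕ := mu (fun k => a k - b k) + mu (fun k => b k - a k)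

/-- The transformation of exponents. -/
def upd (i j : ι) (a : ι → ℕ) : ι → ℕ := Function.update a i (a i + a j)

theorem upd_mono (i j : ι) {a b : ι → ℕ} (h : a ≤ b) : upd i j a ≤ upd i j b := by
  intro k
  unfold upd
  by_cases hk : k = i
  · subst hk
    rw [Function.update_self, Function.update_self]
    exact Nat.add_le_add (h _) (h _)
  · rw [Function.update_of_ne hk, Function.update_of_ne hk]
    exact h k

theorem nu_comm (a b : ι → ℕ) : nu a b = nu b a := add_comm _ _

theorem nu_upd (a b : ι → ℕ) (i j : ι) (hij : i ≠ j) (hi : b i < a i) (hj : a j < b j)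
    (hi' : ∀ k, a k - b k ≤ a i - b i) (hj' : ∀ k, b k - a k ≤ b j - a j) :
    nu (upd i j a) (upd i j b) < nu a b := by
  have e1 : (fun k => upd i j a k - upd i j b k) =
      Function.update (fun k => a k - b k) i ((a i + a j) - (b i + b j)) := by
    funext k
    unfold upd
    by_cases hk : k = i
    · subst hk; simp
    · simp [Function.update_of_ne hk]
  have e2 : (fun k => upd i j b k - upd i j a k) =
      Function.update (fun k => b k - a k) i ((b i + b j) - (a i + a j)) := by
    funext k
    unfold upd
    by_cases hk : k = i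
    · subst hk; simp
    · simp [Function.update_of_ne hk]
  unfold nu
  rw [e1, e2]
  have h1 := mu_lt (fun k => a k - b k) i hi' ((a i + a j) - (b i + b j)) (by omega)
  have h2 := mu_eq (fun k => b k - a k) i j hij hj' (by omega) ((b i + b j) - (a i + a j))
    (by omega)
  omega

end measure

/-! ### Charts -/

section charts

variable {ι κ : Type} [Fintype ι] [Fintype κ] [DecidableEq ι] {R : Type u} [CommRing R]

theorem SNC.blowup' {z : ι → R} (h : SNC R z) (i j : ι) (hij : i ≠ j) (I : Ideal R[X])
    (hI : I = Ideal.span {C (z i) * X - C (z j)}) :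
    SNC (R[X] ⧸ I) (Function.update (fun k => Ideal.Quotient.mk I (C (z k))) j (Ideal.Quotient.mk I X)) := by
  subst hI
  exact SNC.blowup h i j hij

theorem snc_T1 {z : ι → R} (h : SNC R z) (i j : ι) (hij : i ≠ j) :
    SNC (K852.PMod.T1 (z i) (z j) (z i) (z j))
      (Function.update (fun k => algebraMap R _ (z k)) j (Ideal.Quotient.mk _ X)) :=
  SNC.blowup' h i j hij _ (by rw [Set.pair_eq_singleton])

theorem snc_T0 {z : ι → R} (h : SNC R z) (i j : ι) (hij : i ≠ j) :
    SNC (K852.PMod.T0 (z i) (z j) (z i) (z j))
      (Function.update (fun k => algebraMap R _ (z k)) i (Ideal.Quotient.mk _ X)) :=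
  SNC.blowup' h j i hij.symm _ (by rw [Set.pair_eq_singleton, ← Ideal.span_singleton_neg, neg_sub])

theorem rel_T1 (a b c d : R) : algebraMap R (K852.PMod.T1 a b c d) a * Ideal.Quotient.mk _ X =
    algebraMap R (K852.PMod.T1 a b c d) b := by
  have : (Ideal.Quotient.mk (Ideal.span {C a * X - C b, C c * X - C d})) (C a * X - C b) = 0 :=
    Ideal.Quotient.eq_zero_iff_mem.2 (Ideal.subset_span (Set.mem_insert _ _))
  rw [map_sub, map_mul, sub_eq_zero] at this
  exact this

theorem rel_T0 (a b c d : R) : algebraMap R (K852.PMod.T0 a b c d) b * Ideal.Quotient.mk _ X =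
    algebraMap R (K852.PMod.T0 a b c d) a := by
  have : (Ideal.Quotient.mk (Ideal.span {C a - C b * X, C c - C d * X})) (C a - C b * X) = 0 :=
    Ideal.Quotient.eq_zero_iff_mem.2 (Ideal.subset_span (Set.mem_insert _ _))
  rw [map_sub, map_mul, sub_eq_zero] at this
  exact this.symm

theorem prod_upd {B : Type u} [CommRing B] (y : ι → B) (i j : ι) (hij : i ≠ j) (x : B) (hx : y i * x = y j)
    (a : ι → ℕ) : ∏ k, y k ^ a k = ∏ k, Function.update y j x k ^ upd i j a k := by
  have hji : j ∈ Finset.univ.erase i := Finset.mem_erase.2 ⟨hij.symm, Finset.mem_univ j⟩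
  rw [← Finset.mul_prod_erase Finset.univ (fun k => y k ^ a k) (Finset.mem_univ i),
    ← Finset.mul_prod_erase _ (fun k => y k ^ a k) hji,
    ← Finset.mul_prod_erase Finset.univ (fun k => Function.update y j x k ^ upd i j a k) (Finset.mem_univ i),
    ← Finset.mul_prod_erase _ (fun k => Function.update y j x k ^ upd i j a k) hji]
  have e1 : Function.update y j x i = y i := Function.update_of_ne hij _ _
  have e2 : Function.update y j x j = x := Function.update_self _ _ _
  have e3 : upd i j a i = a i + a j := Function.update_self _ _ _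
  have e4 : upd i j a j = a j := Function.update_of_ne hij.symm _ _
  have e5 : ∏ k ∈ (Finset.univ.erase i).erase j, Function.update y j x k ^ upd i j a k =
      ∏ k ∈ (Finset.univ.erase i).erase j, y k ^ a k := by
    refine Finset.prod_congr rfl fun k hk => ?_
    have h1 := Finset.ne_of_mem_erase hk
    have h2 := Finset.ne_of_mem_erase (Finset.mem_of_mem_erase hk)
    rw [Function.update_of_ne h1]
    unfold upd
    rw [Function.update_of_ne h2]
  simp only [e1, e2, e3, e4, e5, ← hx]
  ring

/-- The transformed data. -/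
theorem Sec.transform {z : ι → R} {σ : κ → R} {a : κ → κ → ι → ℕ} (h : Sec R z σ a) (i j : ι) (hij : i ≠ j)
    {B : Type u} [CommRing B] [Algebra R B] (x : B) (hx : algebraMap R B (z i) * x = algebraMap R B (z j))
    (hs : SNC B (Function.update (fun k => algebraMap R B (z k)) j x)) :
    Sec B (Function.update (fun k => algebraMap R B (z k)) j x) (fun k => algebraMap R B (σ k))
      (fun k l => upd i j (a k l)) := by
  refine ⟨hs, fun k l hkl => ?_⟩
  obtain ⟨v, hv, hv'⟩ := h.diff k l hkl
  refine ⟨algebraMap R B v, hv.map _, ?_⟩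
  rw [← prod_upd (fun k => algebraMap R B (z k)) i j hij x hx, ← map_sub, hv', map_mul, map_prod]
  simp only [map_pow]

theorem res_transform {z : ι → R} {σ : κ → R} (i j : ι) (hij : i ≠ j)
    {B : Type u} [CommRing B] [Algebra R B] (x : B) (hx : algebraMap R B (z i) * x = algebraMap R B (z j))
    (h : Res B[X] (fn (Function.update (fun k => algebraMap R B (z k)) j x) (fun k => algebraMap R B (σ k)))) :
    Res B[X] ((fn z σ).map (algebraMap R B)) := by
  refine Res.mono h fun p hp => ?_
  have hp' : mapRingHom (algebraMap R B) (fn z σ) ∈ p.asIdeal := hp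
  have goal : RingHom.id _ (fn (Function.update (fun k => algebraMap R B (z k)) j x)
    (fun k => algebraMap R B (σ k))) ∈ p.asIdeal := by
    rw [fn_mem] at hp' ⊢
    rcases hp' with ⟨k, hk⟩ | ⟨k, hk⟩
    · rw [coe_mapRingHom, map_X, map_C] at hk
      exact Or.inl ⟨k, hk⟩
    · rw [coe_mapRingHom, map_C] at hk
      right
      have hik : C (algebraMap R B (z i)) ∈ p.asIdeal → ∃ k, RingHom.id _ (C (Function.update
          (fun k => algebraMap R B (z k)) j x k)) ∈ p.asIdeal := fun h => by
        refine ⟨i, ?_⟩
        rw [Function.update_of_ne hij]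
        exact h
      by_cases hkj : k = j
      · rw [hkj, ← hx, C_mul] at hk
        rcases p.2.mem_or_mem hk with hk | hk
        · exact hik hk
        · refine ⟨j, ?_⟩
          rw [Function.update_self]
          exact hk
      · refine ⟨k, ?_⟩
        rw [Function.update_of_ne hkj]
        exact hk
  exact goal

end charts

/-- One pair of exponents. -/
theorem single {ι κ : Type} [Fintype ι] [Fintype κ] (p q : κ × κ) (n : ℕ) :
    ∀ {R : Type u} [CommRing R] {z : ι → R} {σ : κ → R} {a : κ → κ → ι → ℕ} (_ : Sec R z σ a)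
    (_ : (open scoped Classical in nu (a p.1 p.2) (a q.1 q.2)) = n)
    (_ : ∀ (R' : Type u) [CommRing R'] (z' : ι → R') (σ' : κ → R') (a' : κ → κ → ι → ℕ), Sec R' z' σ' a' →
      (∀ i j k l, a i j ≤ a k l → a' i j ≤ a' k l) →
      (a' p.1 p.2 ≤ a' q.1 q.2 ∨ a' q.1 q.2 ≤ a' p.1 p.2) → Res R'[X] (fn z' σ')), Res R[X] (fn z σ) := by
  classical
  induction n using Nat.strong_induction_on with
  | _ n ih =>
    intro R _ z σ a h hn H
    by_cases hcomp : a p.1 p.2 ≤ a q.1 q.2 ∨ a q.1 q.2 ≤ a p.1 p.2
    · exact H R z σ a h (fun _ _ _ _ h => h) hcomp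
    push Not at hcomp
    obtain ⟨hc1, hc2⟩ := hcomp
    set A := a p.1 p.2 with hA
    set B := a q.1 q.2 with hB
    obtain ⟨i₀, hi₀⟩ : ∃ i, B i < A i := by
      by_contra hcon
      push Not at hcon
      exact hc1 hcon
    obtain ⟨j₀, hj₀⟩ : ∃ j, A j < B j := by
      by_contra hcon
      push Not at hcon
      exact hc2 hcon
    obtain ⟨i, -, hi⟩ := Finset.exists_max_image Finset.univ (fun k => A k - B k) ⟨i₀, Finset.mem_univ _⟩
    obtain ⟨j, -, hj⟩ := Finset.exists_max_image Finset.univ (fun k => B k - A k) ⟨j₀, Finset.mem_univ _⟩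
    have hi1 : B i < A i := by have := hi i₀ (Finset.mem_univ _); omega
    have hj1 : A j < B j := by have := hj j₀ (Finset.mem_univ _); omega
    have hij : i ≠ j := by rintro rfl; omega
    refine Res.pmod_poly (z i) (z j) (z i) (z j) (mul_comm _ _) ?_ ?_
    · refine res_transform j i hij.symm _ (rel_T0 (z i) (z j) (z i) (z j)) ?_
      refine ih _ ?_ (Sec.transform h j i hij.symm _ (rel_T0 (z i) (z j) (z i) (z j)) (snc_T0 h.snc i j hij)) rfl ?_
      · rw [← hn, nu_comm, nu_comm A B]
        exact nu_upd B A j i hij.symm hj1 hi1 (fun k => hj k (Finset.mem_univ k)) (fun k => hi k (Finset.mem_univ k))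
      · intro R' _ z' σ' a' h' hm' hc'
        exact H R' z' σ' a' h' (fun i j k l hle => hm' i j k l (upd_mono _ _ hle)) hc'
    · refine res_transform i j hij _ (rel_T1 (z i) (z j) (z i) (z j)) ?_
      refine ih _ ?_ (Sec.transform h i j hij _ (rel_T1 (z i) (z j) (z i) (z j)) (snc_T1 h.snc i j hij)) rfl ?_
      · rw [← hn]
        exact nu_upd A B i j hij hi1 hj1 (fun k => hi k (Finset.mem_univ k)) (fun k => hj k (Finset.mem_univ k))
      · intro R' _ z' σ' a' h' hm' hc'
        exact H R' z' σ' a' h' (fun i j k l hle => hm' i j k l (upd_mono _ _ hle)) hc'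

theorem game1_aux {ι κ : Type} [Fintype ι] [Fintype κ] (n : ℕ) :
    ∀ {R : Type u} [CommRing R] {z : ι → R} {σ : κ → R} {a : κ → κ → ι → ℕ} (_ : Sec R z σ a)
    (s : Finset ((κ × κ) × (κ × κ))) (_ : s.card = n)
    (_ : ∀ p q, (p, q) ∉ s → a p.1 p.2 ≤ a q.1 q.2 ∨ a q.1 q.2 ≤ a p.1 p.2), Res R[X] (fn z σ) := by
  classical
  induction n with
  | zero =>
    intro R _ z σ a h s hs hc
    rw [Finset.card_eq_zero] at hs
    subst hs
    exact game2 _ κ rfl h fun i j k l _ _ => hc (i, j) (k, l) (Finset.notMem_empty _)
  | succ n ih =>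
    intro R _ z σ a h s hs hc
    obtain ⟨⟨p, q⟩, hpq⟩ : s.Nonempty := Finset.card_pos.1 (by omega)
    refine single p q _ h rfl fun R' _ z' σ' a' h' hm' hc' => ?_
    refine ih h' (s.erase (p, q)) (by rw [Finset.card_erase_of_mem hpq]; omega) fun p' q' hpq' => ?_
    by_cases he : (p', q') = (p, q)
    · obtain ⟨rfl, rfl⟩ := Prod.mk.inj he
      exact hc'
    · have h1 : (p', q') ∉ s := fun hmem => hpq' (Finset.mem_erase.2 ⟨he, hmem⟩)
      rcases hc p' q' h1 with h2 | h2
      · exact Or.inl (hm' _ _ _ _ h2)
      · exact Or.inr (hm' _ _ _ _ h2)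

/-- **Sections of the affine line with monomial differences.** -/
theorem game1 {ι κ : Type} [Fintype ι] [Fintype κ] {R : Type u} [CommRing R] {z : ι → R} {σ : κ → R}
    {a : κ → κ → ι → ℕ} (h : Sec R z σ a) : Res R[X] (fn z σ) := by
  classical
  exact game1_aux _ h Finset.univ rfl fun p q hpq => absurd (Finset.mem_univ _) hpq

end K556.Game1
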