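import Groth.Agent.EtDl.K556.Univ

/-!
# Certificates for the complement of sections of the affine line with comparable monomial differences
-/

set_option autoImplicit false
universe u

open Polynomial

namespace K556.Game2

open K556.CertDef K556.SncAlg K556.SncPoly K556.CertBasic K556.Tor K556.Univ

/-- Sections of the affine line over a ring with strict normal crossings, with monomial differences. -/
structure Sec {ι κ : Type} [Fintype ι] (R : Type u) [CommRing R] (z : ι → R) (σ : κ → R)
    (a : κ → κ → ι → ℕ) : Prop where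
  snc : SNC R z
  diff : ∀ i j, i ≠ j → ∃ v, IsUnit v ∧ σ i - σ j = v * ∏ k, z k ^ a i j k

/-- Localized universal pairs. -/
theorem Univ2.localize {R : Type u} [CommRing R] {P P' : ∀ (B : Type u) [CommRing B] [Algebra R B], B → B → Prop}
    {Q : Type u} [CommRing Q] [Algebra R Q] {x y : Q} (h : Univ2 R P Q x y)
    (hP : ∀ (B B' : Type u) [CommRing B] [Algebra R B] [CommRing B'] [Algebra R B'] (φ : B →ₐ[R] B') (t s : B),
      P B t s → P B' (φ t) (φ s))
    (hP' : ∀ (B : Type u) [CommRing B] [Algebra R B] (t s : B), P' B t s ↔ P B t s ∧ IsUnit s)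
    (L : Type u) [CommRing L] [Algebra R L] [Algebra Q L] [IsScalarTower R Q L] [IsLocalization.Away y L] :
    Univ2 R P' L (algebraMap Q L x) (algebraMap Q L y) := by
  refine ⟨?_, ?_, ?_⟩
  · rw [hP']
    exact ⟨hP _ _ (IsScalarTower.toAlgHom R Q L) x y h.mem, IsLocalization.Away.algebraMap_isUnit y⟩
  · intro B _ _ t s hts
    rw [hP'] at hts
    obtain ⟨φ, h1, h2⟩ := h.lift B t s hts.1
    have hu : IsUnit (φ y) := by rw [h2]; exact hts.2
    refine ⟨IsLocalization.Away.liftAlgHom (S := L) y (f := φ) hu, ?_, ?_⟩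
    · simp [h1]
    · simp [h2]
  · intro B _ _ φ ψ h1 h2
    have h3 : φ.comp (IsScalarTower.toAlgHom R Q L) = ψ.comp (IsScalarTower.toAlgHom R Q L) := h.ext _ _ _ h1 h2
    have h4 : (φ : L →+* B) = ψ := IsLocalization.ringHom_ext (Submonoid.powers y) (by
      ext q
      exact DFunLike.congr_fun h3 q)
    exact AlgHom.coe_ringHom_injective h4

/-- The chart `x - σ = g w`. -/
theorem univ_line {R : Type u} [CommRing R] (σ g : R) : Univ2 R
    (fun B _ _ x w => x - algebraMap R B σ = algebraMap R B g * w) R[X] (C σ + C g * X) X := by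
  refine ⟨?_, ?_, ?_⟩
  · change C σ + C g * X - C σ = C g * X
    ring
  · intro B _ _ t s hts
    refine ⟨aeval s, ?_, aeval_X _⟩
    rw [map_add, map_mul, aeval_C, aeval_C, aeval_X, ← hts]
    ring
  · intro B _ _ φ ψ _ h2
    exact Polynomial.algHom_ext h2

/-- The overlap of the charts. -/
theorem univ_overlap {R : Type u} [CommRing R] (σ g : R) (L : Type u) [CommRing L] [Algebra R L] [Algebra R[X] L]
    [IsScalarTower R R[X] L] [IsLocalization.Away (X : R[X]) L] : Univ2 R
    (fun B _ _ x w => (x - algebraMap R B σ) * w = algebraMap R B g ∧ IsUnit w) L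
      (algebraMap R[X] L (C σ + C g * X)) (IsLocalization.Away.invSelf (X : R[X])) := by
  have hinv : algebraMap R[X] L X * IsLocalization.Away.invSelf (X : R[X]) = 1 :=
    IsLocalization.Away.mul_invSelf (X : R[X])
  have hC : ∀ r : R, algebraMap R[X] L (C r) = algebraMap R L r := fun r =>
    (IsScalarTower.algebraMap_apply R R[X] L r).symm
  refine ⟨⟨?_, ?_⟩, ?_, ?_⟩
  · rw [map_add, map_mul, hC, hC, add_sub_cancel_left, mul_assoc, hinv, mul_one]
  · exact IsUnit.of_mul_eq_one _ (by rw [mul_comm]; exact hinv)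
  · rintro B _ _ t s ⟨hts, hs⟩
    obtain ⟨s', hs'⟩ := hs
    have hu : IsUnit ((aeval ((s'⁻¹ : Bˣ) : B) : R[X] →ₐ[R] B) X) := by rw [aeval_X]; exact Units.isUnit _
    have h1 : ∀ q, IsLocalization.Away.liftAlgHom (S := L) (X : R[X]) (f := (aeval ((s'⁻¹ : Bˣ) : B))) hu
        (algebraMap R[X] L q) = aeval ((s'⁻¹ : Bˣ) : B) q := fun q => by simp
    refine ⟨IsLocalization.Away.liftAlgHom (S := L) (X : R[X]) (f := (aeval ((s'⁻¹ : Bˣ) : B))) hu, ?_, ?_⟩
    · rw [h1, map_add, map_mul, aeval_C, aeval_C, aeval_X, ← hts, ← hs', mul_assoc, Units.mul_inv, mul_one]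
      ring
    · have h2 := congrArg (IsLocalization.Away.liftAlgHom (S := L) (X : R[X]) (f := (aeval ((s'⁻¹ : Bˣ) : B))) hu) hinv
      rw [map_mul, h1, aeval_X, map_one] at h2
      rw [← hs']
      calc _ = ((s' : B) * ((s'⁻¹ : Bˣ) : B)) * (IsLocalization.Away.liftAlgHom (S := L) (X : R[X])
              (f := (aeval ((s'⁻¹ : Bˣ) : B))) hu (IsLocalization.Away.invSelf (X : R[X]))) := by
            rw [Units.mul_inv, one_mul]
        _ = _ := by rw [mul_assoc, h2, mul_one]
  · intro B _ _ φ ψ h1 h2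
    have h5 : φ (algebraMap R[X] L X) = ψ (algebraMap R[X] L X) := by
      have e1 : φ (algebraMap R[X] L X) * φ (IsLocalization.Away.invSelf (X : R[X])) = 1 := by
        rw [← map_mul, hinv, map_one]
      have e2 : ψ (algebraMap R[X] L X) * ψ (IsLocalization.Away.invSelf (X : R[X])) = 1 := by
        rw [← map_mul, hinv, map_one]
      rw [← h2] at e2
      calc φ (algebraMap R[X] L X) = φ (algebraMap R[X] L X) *
            (ψ (algebraMap R[X] L X) * φ (IsLocalization.Away.invSelf (X : R[X]))) := by rw [e2, mul_one]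
        _ = ψ (algebraMap R[X] L X) *
            (φ (algebraMap R[X] L X) * φ (IsLocalization.Away.invSelf (X : R[X]))) := by ring
        _ = _ := by rw [e1, mul_one]
    have h3 : φ.comp (IsScalarTower.toAlgHom R R[X] L) = ψ.comp (IsScalarTower.toAlgHom R R[X] L) :=
      Polynomial.algHom_ext h5
    have h4 : (φ : L →+* B) = ψ := IsLocalization.ringHom_ext (Submonoid.powers (X : R[X])) (by
      ext q
      · exact DFunLike.congr_fun h3 (C q)
      · exact DFunLike.congr_fun h3 X)
    exact AlgHom.coe_ringHom_injective h4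

/-- The function. -/
noncomputable def fn {ι κ : Type} [Fintype ι] [Fintype κ] {R : Type u} [CommRing R] (z : ι → R) (σ : κ → R) : R[X] :=
  (∏ i, (X - C (σ i))) * C (∏ k, z k)

theorem fn_mem {ι κ : Type} [Fintype ι] [Fintype κ] {R : Type u} [CommRing R] (z : ι → R) (σ : κ → R)
    {B : Type u} [CommRing B] (φ : R[X] →+* B) (p : Ideal B) [hp : p.IsPrime] :
    φ (fn z σ) ∈ p ↔ (∃ i, φ X - φ (C (σ i)) ∈ p) ∨ ∃ k, φ (C (z k)) ∈ p := by
  rw [fn, map_mul, hp.mul_mem_iff_mem_or_mem, map_prod, hp.prod_mem_iff, map_prod, map_prod, hp.prod_mem_iff]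
  simp

theorem res_of_card_zero {ι κ : Type} [Fintype ι] [Fintype κ] {R : Type u} [CommRing R] {z : ι → R} {σ : κ → R}
    (h : SNC R z) (hκ : Fintype.card κ = 0) : Res R[X] (fn z σ) := by
  have := Fintype.card_eq_zero_iff.1 hκ
  have hs : Algebra.Smooth R R[X] := ⟨inferInstance, inferInstance⟩
  refine Res.mono (Res.leaf (SNC.smooth h R[X])) fun p hp => ?_
  have hp' : RingHom.id _ (fn z σ) ∈ p.asIdeal := hp
  rw [fn_mem] at hp'
  rcases hp' with ⟨i, hi⟩ | ⟨k, hk⟩
  · exact isEmptyElim i
  · rw [Ideal.IsPrime.prod_mem_iff]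
    exact ⟨k, Finset.mem_univ _, hk⟩

theorem res_of_card_one {ι κ : Type} [Fintype ι] [Fintype κ] {R : Type u} [CommRing R] {z : ι → R} {σ : κ → R}
    (h : SNC R z) (hκ : Fintype.card κ = 1) : Res R[X] (fn z σ) := by
  obtain ⟨i₀, hi₀⟩ := Fintype.card_eq_one_iff.1 hκ
  refine Res.mono (Res.leaf (SNC.polynomial h (σ i₀))) fun p hp => ?_
  have hp' : RingHom.id _ (fn z σ) ∈ p.asIdeal := hp
  rw [fn_mem] at hp'
  rw [Ideal.IsPrime.prod_mem_iff]
  rcases hp' with ⟨i, hi⟩ | ⟨k, hk⟩
  · rw [hi₀ i] at hi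
    exact ⟨none, Finset.mem_univ _, hi⟩
  · exact ⟨some k, Finset.mem_univ _, hk⟩

/-- Monomials are nonzerodivisors. -/
theorem monomial_mul_cancel {ι : Type} [Fintype ι] {R : Type u} [CommRing R] {z : ι → R} (h : SNC R z)
    (a : ι → ℕ) {x y : R} (hxy : (∏ k, z k ^ a k) * x = (∏ k, z k ^ a k) * y) : x = y := by
  have h1 : ∏ k, z k ^ a k ∈ nonZeroDivisors R := by
    refine prod_mem fun k _ => pow_mem ?_ _
    rw [mem_nonZeroDivisors_iff_right]
    intro x hx
    have := h.inj ∅ k (Set.notMem_empty k) x (by rw [mul_comm, hx]; exact Ideal.zero_mem _)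
    simpa using this
  exact (mul_cancel_left_mem_nonZeroDivisors h1).1 hxy

/-- The second chart. -/
theorem chart {ι κ : Type} [Fintype ι] [Fintype κ] {R : Type u} [CommRing R] {z : ι → R} (hz : SNC R z)
    (m : ι → ℕ) {σ₀ : R} {σ σ' : κ → R} (hσ' : ∀ k, σ k - σ₀ = (∏ k, z k ^ m k) * σ' k) (hA : Res R[X] (fn z σ'))
    {Q : Type u} [CommRing Q] [Algebra R Q] {x w : Q}
    (hun : Univ2 R (fun B _ _ x w => (x - algebraMap R B σ₀) * w = algebraMap R B (∏ k, z k ^ m k)) Q x w)
    (φ₀ : R[X] →+* Q) (hφ₀X : φ₀ X = x) (hφ₀C : ∀ r, φ₀ (C r) = algebraMap R Q r) : Res Q (φ₀ (fn z σ)) := by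
  set g : R := ∏ k, z k ^ m k with hg
  have hgz : ∀ {B : Type u} [CommRing B] (φ : R →+* B) (p : Ideal B) [p.IsPrime] (_ : φ g ∈ p),
      ∃ k, φ (z k) ∈ p := by
    intro B _ φ p hp hgp
    rw [hg, map_prod, hp.prod_mem_iff] at hgp
    obtain ⟨k, -, hk⟩ := hgp
    rw [map_pow] at hk
    exact ⟨k, hp.mem_of_pow_mem _ hk⟩
  have htor : IsTor R Q g (x - algebraMap R Q σ₀) w := by
    refine ⟨hun.mem, fun B _ _ t s hts => ?_, fun B _ _ φ ψ h1 h2 => ?_⟩
    · obtain ⟨φ, h1, h2⟩ := hun.lift B (t + algebraMap R B σ₀) s (by rw [add_sub_cancel_right, hts])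
      exact ⟨φ, by rw [map_sub, h1, φ.commutes, add_sub_cancel_right], h2⟩
    · refine hun.ext B φ ψ ?_ h2
      rw [map_sub, map_sub, φ.commutes, ψ.commutes, sub_left_inj] at h1
      exact h1
  have hxk : ∀ k, x - algebraMap R Q (σ k) = (x - algebraMap R Q σ₀) * (1 - w * algebraMap R Q (σ' k)) := by
    intro k
    have e4 : algebraMap R Q (σ k) - algebraMap R Q σ₀ = algebraMap R Q g * algebraMap R Q (σ' k) := by
      rw [← map_sub, hσ', map_mul]
    rw [← hun.mem] at e4
    linear_combination -e4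
  refine Res.of_away_pointwise fun p => ?_
  by_cases hwp : w ∈ p.asIdeal
  · -- near `w = 0`
    refine ⟨∏ k, (1 - w * algebraMap R Q (σ' k)), fun hp => ?_, Localization.Away (∏ k, (1 - w * algebraMap R Q (σ' k))),
      _, _, inferInstance, ?_⟩
    · obtain ⟨k, -, hk⟩ := (Ideal.IsPrime.prod_mem_iff).1 hp
      apply p.2.ne_top
      rw [Ideal.eq_top_iff_one]
      have e5 : (1 : Q) = (1 - w * algebraMap R Q (σ' k)) + w * algebraMap R Q (σ' k) := by ring
      rw [e5]
      exact Ideal.add_mem _ hk (Ideal.mul_mem_right _ _ hwp)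
    · have h1 := res_monomial hz _ m rfl htor
      refine Res.mono (Res.localizationAway h1 (∏ k, (1 - w * algebraMap R Q (σ' k)))
        (Localization.Away (∏ k, (1 - w * algebraMap R Q (σ' k))))) fun q hq => ?_
      set L := Localization.Away (∏ k, (1 - w * algebraMap R Q (σ' k))) with hL
      let φ : R[X] →+* L := (algebraMap Q L).comp φ₀
      have hφ : φ (fn z σ) ∈ q.asIdeal := hq
      rw [fn_mem] at hφ
      rcases hφ with ⟨k, hk⟩ | ⟨k, hk⟩
      · rw [← map_sub] at hk
        have e6 : φ (X - C (σ k)) = algebraMap Q L (x - algebraMap R Q (σ k)) := by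
          change algebraMap Q L (φ₀ (X - C (σ k))) = _
          rw [map_sub φ₀, hφ₀X, hφ₀C]
        rw [e6, hxk, map_mul] at hk
        rcases q.2.mem_or_mem hk with hk | hk
        · rw [map_mul]
          exact Ideal.mul_mem_right _ _ hk
        · exfalso
          refine q.2.ne_top (Ideal.eq_top_of_isUnit_mem _ hk ?_)
          have h7 : IsUnit (algebraMap Q L (∏ k, (1 - w * algebraMap R Q (σ' k)))) :=
            IsLocalization.Away.algebraMap_isUnit _
          rw [map_prod] at h7
          exact isUnit_of_dvd_unit (Finset.dvd_prod_of_mem (fun k => algebraMap Q L (1 - w * algebraMap R Q (σ' k)))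
            (Finset.mem_univ k)) h7
      · rw [map_mul, map_prod, map_prod]
        refine Ideal.mul_mem_left _ _ ?_
        rw [Ideal.IsPrime.prod_mem_iff]
        refine ⟨k, Finset.mem_univ _, ?_⟩
        rw [← hφ₀C]
        exact hk
  · -- the overlap
    refine ⟨w, hwp, Localization.Away w, _, _, inferInstance, ?_⟩
    have hl := Univ2.localize (P' := fun B _ _ x w => (x - algebraMap R B σ₀) * w = algebraMap R B g ∧ IsUnit w)
      hun (fun B B' _ _ _ _ φ t s hts => by
        rw [← φ.commutes σ₀, ← φ.commutes g, ← map_sub, ← map_mul, hts]) (fun B _ _ t s => Iff.rfl)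
      (Localization.Away w)
    obtain ⟨e, he1, he2⟩ := hl.exists_equiv (univ_overlap σ₀ g (Localization.Away (X : R[X])))
      (fun B _ _ t s => Iff.rfl)
    refine Res.of_ringEquiv e.toRingEquiv ?_
    refine Res.mono (Res.localizationAway hA X (Localization.Away (X : R[X]))) fun q hq => ?_
    let L := Localization.Away (X : R[X])
    let φ : R[X] →+* L := ((e.toAlgHom.toRingHom).comp (algebraMap Q (Localization.Away w))).comp φ₀
    have hφ : φ (fn z σ) ∈ q.asIdeal := hq
    have hφX : φ X = algebraMap R[X] L (C σ₀ + C g * X) := by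
      change e (algebraMap Q (Localization.Away w) (φ₀ X)) = _
      rw [hφ₀X, he1]
    have hφC : ∀ r : R, φ (C r) = algebraMap R[X] L (C r) := fun r => by
      change e (algebraMap Q (Localization.Away w) (φ₀ (C r))) = _
      rw [hφ₀C, ← IsScalarTower.algebraMap_apply, e.commutes]
      rfl
    rw [fn_mem] at hφ ⊢
    rcases hφ with ⟨i, hi⟩ | ⟨k, hk⟩
    · have e3 : φ X - φ (C (σ i)) = algebraMap R[X] L (C g * (X - C (σ' i))) := by
        rw [hφX, hφC, ← map_sub]
        congr 1
        have e4 : C (σ i) - C σ₀ = C g * C (σ' i) := by rw [← C_sub, hσ', C_mul]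
        linear_combination -e4
      rw [e3, map_mul] at hi
      rcases q.2.mem_or_mem hi with hi | hi
      · exact Or.inr (hgz ((algebraMap R[X] L).comp C) q.asIdeal hi)
      · rw [map_sub] at hi
        exact Or.inl ⟨i, hi⟩
    · rw [hφC] at hk
      exact Or.inr ⟨k, hk⟩

/-- **Sections of the affine line with comparable monomial differences.** -/
theorem game2 {ι : Type} [Fintype ι] (n : ℕ) : ∀ (κ : Type) [Fintype κ] (_ : Fintype.card κ = n)
    {R : Type u} [CommRing R] {z : ι → R} {σ : κ → R} {a : κ → κ → ι → ℕ} (_ : Sec R z σ a)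
    (_ : ∀ i j k l, i ≠ j → k ≠ l → a i j ≤ a k l ∨ a k l ≤ a i j), Res R[X] (fn z σ) := by
  classical
  induction n with
  | zero => intro κ _ hκ R _ z σ a h _; exact res_of_card_zero h.snc hκ
  | succ n ih =>
    intro κ _ hκ R _ z σ a h hcomp
    rcases Nat.eq_zero_or_pos n with rfl | hn
    · exact res_of_card_one h.snc hκ
    -- the case where some pair of sections does not meet
    have stepA : ∀ {σ : κ → R} {a : κ → κ → ι → ℕ} (_ : Sec R z σ a)
        (_ : ∀ i j k l, i ≠ j → k ≠ l → a i j ≤ a k l ∨ a k l ≤ a i j) (i₀ j₀ : κ) (_ : i₀ ≠ j₀)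
        (_ : IsUnit (σ i₀ - σ j₀)), Res R[X] (fn z σ) := by
      intro σ a h hcomp i₀ j₀ hij hu
      have key : ∀ i, Res (Localization.Away (X - C (σ i) : R[X])) (algebraMap R[X] _ (fn z σ)) := by
        intro i
        have h1 : Res R[X] (fn z (fun k : {k : κ // k ≠ i} => σ k)) := by
          refine ih {k : κ // k ≠ i} ?_ (a := fun k l => a k l) ⟨h.snc, fun k l hkl => ?_⟩ ?_
          · rw [Fintype.card_subtype_compl, hκ, Fintype.card_subtype_eq, Nat.add_sub_cancel]
          · exact h.diff k l (fun h => hkl (Subtype.ext h))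
          · intro k l k' l' hkl hkl'
            exact hcomp k l k' l' (fun h => hkl (Subtype.ext h)) (fun h => hkl' (Subtype.ext h))
        refine Res.mono (Res.localizationAway h1 (X - C (σ i)) _) fun p hp => ?_
        rw [fn_mem] at hp ⊢
        rcases hp with ⟨j, hj⟩ | ⟨k, hk⟩
        · by_cases hji : j = i
          · exfalso
            rw [hji, ← map_sub] at hj
            exact p.2.ne_top (Ideal.eq_top_of_isUnit_mem _ hj
              (IsLocalization.Away.algebraMap_isUnit (X - C (σ i) : R[X])))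
          · exact Or.inl ⟨⟨j, hji⟩, hj⟩
        · exact Or.inr ⟨k, hk⟩
      refine Res.of_away_pointwise fun p => ?_
      by_cases hp : X - C (σ i₀) ∈ p.asIdeal
      · refine ⟨X - C (σ j₀), fun hp' => ?_, _, _, _, inferInstance, key j₀⟩
        have h1 : C (σ i₀ - σ j₀) ∈ p.asIdeal := by
          have e : C (σ i₀ - σ j₀) = (X - C (σ j₀)) - (X - C (σ i₀)) := by rw [C_sub]; ring
          rw [e]
          exact Ideal.sub_mem _ hp' hp
        exact p.2.ne_top (Ideal.eq_top_of_isUnit_mem _ h1 (hu.map C))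
      · exact ⟨X - C (σ i₀), hp, _, _, _, inferInstance, key i₀⟩
    -- the minimal exponent
    have hne : ∃ i₀ j₀ : κ, i₀ ≠ j₀ ∧ ∀ k l, k ≠ l → a i₀ j₀ ≤ a k l := by
      let S : Finset (κ × κ) := Finset.univ.filter fun p => p.1 ≠ p.2
      have hS : S.Nonempty := by
        have : Nontrivial κ := Fintype.one_lt_card_iff_nontrivial.1 (by omega)
        obtain ⟨x, y, hxy⟩ := exists_pair_ne κ
        exact ⟨(x, y), by simp [S, hxy]⟩
      obtain ⟨⟨i₀, j₀⟩, hmem, hmin⟩ := Finset.exists_min_image S (fun p : κ × κ => ∑ k, a p.1 p.2 k) hS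
      have hij : i₀ ≠ j₀ := by simpa [S] using hmem
      refine ⟨i₀, j₀, hij, fun k l hkl => ?_⟩
      rcases hcomp i₀ j₀ k l hij hkl with h1 | h1
      · exact h1
      · have h2 : ∑ x, a i₀ j₀ x ≤ ∑ x, a k l x := hmin (k, l) (by simp [S, hkl])
        have h3 : ∑ x, a k l x = ∑ x, a i₀ j₀ x := le_antisymm (Finset.sum_le_sum fun x _ => h1 x) h2
        intro x
        exact (((Finset.sum_eq_sum_iff_of_le fun x _ => h1 x).1 h3) x (Finset.mem_univ x)).ge
    obtain ⟨i₀, j₀, hij, hmin⟩ := hne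
    set g : R := ∏ k, z k ^ a i₀ j₀ k with hg
    -- the new sections
    have hdiv : ∀ k, ∃ s, σ k - σ i₀ = g * s := by
      intro k
      by_cases hk : k = i₀
      · exact ⟨0, by rw [hk, sub_self, mul_zero]⟩
      · obtain ⟨v, -, hv⟩ := h.diff k i₀ hk
        refine ⟨v * ∏ x, z x ^ (a k i₀ x - a i₀ j₀ x), ?_⟩
        rw [hv, hg, mul_left_comm, ← Finset.prod_mul_distrib]
        congr 1
        refine Finset.prod_congr rfl fun x _ => ?_
        rw [← pow_add]
        congr 1
        have h5 : a i₀ j₀ x ≤ a k i₀ x := hmin k i₀ hk x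
        omega
    choose σ' hσ' using hdiv
    let a' : κ → κ → ι → ℕ := fun k l x => a k l x - a i₀ j₀ x
    have hsec' : Sec R z σ' a' := by
      refine ⟨h.snc, fun k l hkl => ?_⟩
      obtain ⟨v, hv, hv'⟩ := h.diff k l hkl
      refine ⟨v, hv, monomial_mul_cancel h.snc (a i₀ j₀) ?_⟩
      have e1 : g * (σ' k - σ' l) = σ k - σ l := by
        rw [mul_sub, ← hσ', ← hσ']; ring
      rw [← hg, e1, hv', hg, mul_left_comm, ← Finset.prod_mul_distrib]
      congr 1
      refine Finset.prod_congr rfl fun x _ => ?_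
      rw [← pow_add]
      congr 1
      have h5 : a i₀ j₀ x ≤ a k l x := hmin k l hkl x
      simp only [a']
      omega
    have hcomp' : ∀ i j k l, i ≠ j → k ≠ l → a' i j ≤ a' k l ∨ a' k l ≤ a' i j := by
      intro i j k l hij hkl
      rcases hcomp i j k l hij hkl with h1 | h1
      · exact Or.inl fun x => Nat.sub_le_sub_right (h1 x) _
      · exact Or.inr fun x => Nat.sub_le_sub_right (h1 x) _
    have hu' : IsUnit (σ' i₀ - σ' j₀) := by
      obtain ⟨v, hv, hv'⟩ := hsec'.diff i₀ j₀ hij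
      rw [hv']
      have : ∏ k, z k ^ a' i₀ j₀ k = 1 := Finset.prod_eq_one fun k _ => by simp [a']
      rw [this, mul_one]
      exact hv
    have hA : Res R[X] (fn z σ') := stepA hsec' hcomp' i₀ j₀ hij hu'
    -- the elements `g` and `z`
    have hgz : ∀ {B : Type u} [CommRing B] (φ : R →+* B) (p : Ideal B) [p.IsPrime] (_ : φ g ∈ p),
        ∃ k, φ (z k) ∈ p := by
      intro B _ φ p hp hgp
      rw [hg, map_prod, hp.prod_mem_iff] at hgp
      obtain ⟨k, -, hk⟩ := hgp
      rw [map_pow] at hk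
      exact ⟨k, hp.mem_of_pow_mem _ hk⟩
    -- the modification
    refine Res.pmod (X - C (σ i₀)) (C g) (X - C (σ i₀)) (C g) (mul_comm _ _) ?_ ?_
    · -- the first chart is the affine line
      obtain ⟨e, he1, he2⟩ := (univ_T0 (X - C (σ i₀)) (C g) (X - C (σ i₀)) (C g)).exists_equiv
        (univ_line (σ i₀) g) (fun B _ _ t s => by simp)
      refine Res.of_ringEquiv e.toRingEquiv ?_
      refine Res.mono hA fun p hp => ?_
      let φ : R[X] →+* R[X] := (e.toAlgHom.toRingHom).comp (algebraMap R[X] _)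
      have hφX : φ X = C (σ i₀) + C g * X := he1
      have hφC : ∀ r : R, φ (C r) = C r := fun r => e.commutes r
      have hp1 : φ (fn z σ) ∈ p.asIdeal := hp
      have hp2 : RingHom.id _ (fn z σ') ∈ p.asIdeal := by
        rw [fn_mem] at hp1 ⊢
        rcases hp1 with ⟨i, hi⟩ | ⟨k, hk⟩
        · have e3 : φ X - φ (C (σ i)) = C g * (X - C (σ' i)) := by
            rw [hφX, hφC]
            have e4 : C (σ i) - C (σ i₀) = C g * C (σ' i) := by rw [← C_sub, hσ', C_mul]
            linear_combination -e4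
          rw [e3] at hi
          rcases p.2.mem_or_mem hi with hi | hi
          · exact Or.inr (hgz C p.asIdeal hi)
          · exact Or.inl ⟨i, hi⟩
        · rw [hφC] at hk
          exact Or.inr ⟨k, hk⟩
      exact hp2
    · -- the second chart
      have h1 := univ_T1 (X - C (σ i₀)) (C g) (X - C (σ i₀)) (C g)
      have hun : Univ2 R (fun B _ _ x w => (x - algebraMap R B (σ i₀)) * w = algebraMap R B g)
          (K852.PMod.T1 (X - C (σ i₀)) (C g) (X - C (σ i₀)) (C g)) (algebraMap R[X] _ X)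
          (Ideal.Quotient.mk _ X) :=
        ⟨by simpa using h1.mem, fun B _ _ t s hts => h1.lift B t s (by simpa using hts), h1.ext⟩
      exact chart h.snc (a i₀ j₀) hσ' hA hun (algebraMap R[X] _) rfl fun r => rfl

end K556.Game2
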