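import Groth.Agent.EtDl.K337.Leaf0
import Groth.Agent.EtDl.K555.FinAsm
import Groth.Agent.Etdl.H428.RegBC
import Groth.Agent.Sga4h.FinMain2

/-!
# The leaves: complements of strict normal crossings divisors
-/

set_option autoImplicit false
universe u

open CategoryTheory CategoryTheory.Limits AlgebraicGeometry Opposite

namespace K556.LeafFin

open K556.CertDef K556.GoodDef K555.FinAsm K337.Leaf Groth.Agent Groth.Agent.Sga4h.ConsWO

theorem regBC : RegBC.{u} := by
  intro R L _ _ _ _ φ h X X' f _ _ f' g' sq F hF q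
  let _ := φ.toAlgebra
  exact (Groth.Agent.Etdl.H428.RegBC.baseChange_of_isRegularHom h f f' g' sq F hF q).1

theorem leafHyp (q : ℕ) : LeafHyp.{u} q := by
  intro R _ ι _ z hz hR V hV
  obtain ⟨t⟩ := hR.rat
  obtain ⟨φ, -⟩ := Spec.map_surjective t
  have h0 : CharZero (ULift.{u} ℚ) := charZero_of_injective_ringHom
    (f := (ULift.ringEquiv (R := ℚ)).symm.toRingHom) (ULift.ringEquiv (R := ℚ)).symm.injective
  refine good_of_snc (ULift.{u} ℚ) φ.hom regBC ?_ hz V hV q
  intro c q n hn M _ _ hM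
  have hu : IsUnit (n : Γ(Spec (CommRingCat.of (ULift.{u} ℚ)), ⊤)) :=
    isUnit_natCast_Γ (ULift.{u} ℚ) (ULift.{u} ℚ) (RingHom.id _) n hn
  have hft : LocallyOfFiniteType (Spec.map (CommRingCat.ofHom (algebraMap (ULift.{u} ℚ)
      (MvPolynomial (Fin c) (ULift.{u} ℚ))))) := by
    rw [HasRingHomProperty.Spec_iff (P := @LocallyOfFiniteType), CommRingCat.hom_ofHom]
    exact RingHom.finiteType_algebraMap.2 inferInstance
  have h := Sga4h.FinMain2.fin_field (n := n) (ULift.{u} ℚ) hu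
    ((coord (ULift.{u} ℚ) c).ι ≫ Spec.map (CommRingCat.ofHom (algebraMap (ULift.{u} ℚ)
      (MvPolynomial (Fin c) (ULift.{u} ℚ)))))
    (Spec.map (CommRingCat.ofHom (algebraMap (ULift.{u} ℚ) (MvPolynomial (Fin c) (ULift.{u} ℚ)))))
    (coord (ULift.{u} ℚ) c).ι rfl (EtCoh.const _ M)
    ⟨Etrest.ConstBasic.isConstructible_const _ M, 1, by
      rw [pow_one]; exact killedBy_const _ M n hM⟩ q
  exact h.1

end K556.LeafFin
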