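import Groth.Agent.EtDl.K556.ChartC
import Groth.Agent.Etdl.H437.Origin
import Groth.Agent.Etdl.H437.PureBC
import Groth.Agent.Etcore.OpenClosed

/-!
# Local constancy of the top local cohomology sheaf
-/

set_option autoImplicit false
universe u

open CategoryTheory CategoryTheory.Limits AlgebraicGeometry Opposite IsLocalRing

namespace K556.PurityLC

open Groth.Agent Groth.Agent.Sga4B.LocCohLocal Groth.Agent.Sga4B.Pure Groth.Agent.Sga4B.PureTower

/-- The formation of the local cohomology sheaves of `Z/n` in degrees `≥ 2` commutes with inverse images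
along `p`. -/
def LocBC (n : ℕ) {V' V : Scheme.{u}} (p : V' ⟶ V) : Prop :=
  ∀ ⦃U₀ U' : Scheme.{u}⦄ (j₀ : U₀ ⟶ V) [IsOpenImmersion j₀] (j : U' ⟶ V') [IsOpenImmersion j],
    Set.range j = p ⁻¹' Set.range j₀ → ∀ m : ℕ,
      Nonempty ((EtDual.locCoh j (m + 2)).obj (EtCoh.const V' (ZMod n)) ≅
        (EtCoh.pull p).obj ((EtDual.locCoh j₀ (m + 2)).obj (EtCoh.const V (ZMod n))))

/-- `LocBC` from base change for the higher direct images of open immersions. -/
theorem locBC_of_bc (n : ℕ) {V' V : Scheme.{u}} (p : V' ⟶ V)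
    (H : ∀ ⦃U₀ U' : Scheme.{u}⦄ (j₀ : U₀ ⟶ V) [IsOpenImmersion j₀] (j : U' ⟶ V') [IsOpenImmersion j]
      (g' : U' ⟶ U₀) (sq : IsPullback g' j j₀ p),
      Etdl.H437.PureBC.BC p j₀ j g' sq.w (EtCoh.const V (ZMod n))) : LocBC n p := by
  intro U₀ U' j₀ _ j _ hr m
  obtain ⟨g', sq⟩ := isPullback_of_range j₀ p j hr
  obtain ⟨e⟩ := (H j₀ j g' sq).locCohIso m
  exact ⟨(EtDual.locCoh j (m + 2)).mapIso (pullConst p (ZMod n)).symm ≪≫ e⟩

section

variable {X Y U : Scheme.{u}} (i : Y ⟶ X) [IsClosedImmersion i] (j : U ⟶ X) [IsOpenImmersion j]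
  (hij : Set.range j = (Set.range i)ᶜ) (k : Type u) [Field k] {c : ℕ}
  {B : Type u} [CommRing B] (φ : MvPolynomial (Fin c) k →+* B)
  (g : Spec (CommRingCat.of B) ⟶ X) [IsOpenImmersion g]
  (h : Spec (CommRingCat.of (B ⧸ Ideal.span (Set.range fun a => φ (MvPolynomial.X a)))) ⟶ Y)
  (hh : h ≫ i = Spec.map (CommRingCat.ofHom (Ideal.Quotient.mk
    (Ideal.span (Set.range fun a => φ (MvPolynomial.X a))))) ≫ g)
  (hr : ∀ q : Spec (CommRingCat.of B), g q ∈ Set.range i ↔ ∀ a, φ (MvPolynomial.X a) ∈ q.asIdeal)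

/-- The ideal of the chart. -/
abbrev Ic : Ideal B := Ideal.span (Set.range fun a => φ (MvPolynomial.X a))

/-- The localization at `1 + I`. -/
abbrev Bl : Type u := Localization (K556.RegMap.onePlus (Ic k φ))

/-- The localization morphism. -/
noncomputable abbrev pl : Spec (CommRingCat.of (Bl k φ)) ⟶ Spec (CommRingCat.of B) :=
  Spec.map (CommRingCat.ofHom (algebraMap B (Bl k φ)))

/-- The morphism to affine space. -/
noncomputable abbrev rl : Spec (CommRingCat.of (Bl k φ)) ⟶ Spec (CommRingCat.of (MvPolynomial (Fin c) k)) :=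
  Spec.map (CommRingCat.ofHom ((algebraMap B (Bl k φ)).comp φ))

/-- The lift of the closed subscheme to the localization. -/
noncomputable abbrev tl : Spec (CommRingCat.of (B ⧸ Ic k φ)) ⟶ Spec (CommRingCat.of (Bl k φ)) :=
  Spec.map (CommRingCat.ofHom (K556.RegMap.toQuot (Ic k φ)))

theorem tl_pl : tl k φ ≫ pl k φ = Spec.map (CommRingCat.ofHom (Ideal.Quotient.mk (Ic k φ))) := by
  rw [← Spec.map_comp, ← CommRingCat.ofHom_comp]
  congr 2
  ext b
  exact K556.RegMap.toQuot_algebraMap (Ic k φ) b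

/-- The structure morphism. -/
noncomputable abbrev sl : Spec (CommRingCat.of (B ⧸ Ic k φ)) ⟶ Spec (CommRingCat.of k) :=
  Spec.map (CommRingCat.ofHom (((Ideal.Quotient.mk (Ic k φ)).comp φ).comp MvPolynomial.C))

theorem tl_rl : tl k φ ≫ rl k φ = sl k φ ≫ zeroSec c k := by
  unfold zeroSec
  rw [← Spec.map_comp, ← Spec.map_comp, ← CommRingCat.ofHom_comp, ← CommRingCat.ofHom_comp]
  congr 2
  apply MvPolynomial.ringHom_ext
  · intro a
    change K556.RegMap.toQuot (Ic k φ) (algebraMap B _ (φ (MvPolynomial.C a))) =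
      Ideal.Quotient.mk (Ic k φ) (φ (MvPolynomial.C (MvPolynomial.constantCoeff (MvPolynomial.C a))))
    rw [K556.RegMap.toQuot_algebraMap, MvPolynomial.constantCoeff_C]
  · intro a
    change K556.RegMap.toQuot (Ic k φ) (algebraMap B _ (φ (MvPolynomial.X a))) =
      Ideal.Quotient.mk (Ic k φ) (φ (MvPolynomial.C (MvPolynomial.constantCoeff (MvPolynomial.X a))))
    rw [K556.RegMap.toQuot_algebraMap, MvPolynomial.constantCoeff_X, map_zero, map_zero, map_zero,
      Ideal.Quotient.eq_zero_iff_mem]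
    exact Ideal.subset_span ⟨a, rfl⟩

include hh hij hr in
theorem locIso_chart (n : ℕ) [NeZero n] (hc : 0 < c) (hP : PureR n c (zeroSec c k))
    (h1 : LocBC n (pl k φ)) (h2 : LocBC n (rl k φ)) :
    LocIso ((EtCoh.pull h).obj ((EtCoh.pull i).obj ((EtDual.locCoh j (2 * c)).obj
      (EtCoh.const X (ZMod n))))) (EtCoh.const _ (ZMod n)) := by
  obtain ⟨m, hm⟩ : ∃ m, 2 * c = m + 2 := ⟨2 * c - 2, by omega⟩
  have hP0 := (Etdl.H437.Origin.pureAt c k n hP).2
  rw [hm] at hP0 ⊢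
  -- the chart
  let jB : pullback j g ⟶ Spec (CommRingCat.of B) := pullback.snd j g
  have hrB : Set.range jB = g ⁻¹' Set.range j := IsOpenImmersion.range_pullbackSnd j g
  let j' : pullback jB (pl k φ) ⟶ Spec (CommRingCat.of (Bl k φ)) := pullback.snd jB (pl k φ)
  have hr' : Set.range j' = (pl k φ) ⁻¹' Set.range jB := IsOpenImmersion.range_pullbackSnd jB (pl k φ)
  have hr0 : Set.range j' = (rl k φ) ⁻¹' Set.range (Etdl.H437.Origin.compl c k).ι := by
    rw [hr', hrB, Etdl.H437.Origin.range_compl, hij]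
    ext q
    simp only [Set.mem_preimage, Set.mem_compl_iff]
    rw [hr, Etdl.H437.Origin.range_zeroSec]
    exact Iff.rfl
  let e1 : (EtCoh.pull g).obj ((EtDual.locCoh j (m + 2)).obj (EtCoh.const X (ZMod n))) ≅
      (EtDual.locCoh jB (m + 2)).obj (EtCoh.const _ (ZMod n)) :=
    (locCohPullIsoOfRange j g jB hrB (m + 2)).app _ ≪≫
      (EtDual.locCoh jB (m + 2)).mapIso (pullConst g (ZMod n))
  obtain ⟨e2⟩ := h1 jB j' hr' m
  obtain ⟨e3⟩ := h2 (Etdl.H437.Origin.compl c k).ι j' hr0 m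
  let e4 : (EtCoh.pull h).obj ((EtCoh.pull i).obj ((EtDual.locCoh j (m + 2)).obj
      (EtCoh.const X (ZMod n)))) ≅ (EtCoh.pull (tl k φ)).obj ((EtDual.locCoh j' (m + 2)).obj
        (EtCoh.const _ (ZMod n))) :=
    (EtpbcA.PullFLC.pullComp h i).app _ ≪≫ (EtpbcA.PullFLC.pullCongr
      (hh.trans (congrArg (· ≫ g) (tl_pl k φ).symm))).app _ ≪≫
      ((EtpbcA.PullFLC.pullComp (tl k φ ≫ pl k φ) g).app _).symm ≪≫
      ((EtpbcA.PullFLC.pullComp (tl k φ) (pl k φ)).app _).symm ≪≫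
      (EtCoh.pull (tl k φ)).mapIso ((EtCoh.pull (pl k φ)).mapIso e1 ≪≫ e2.symm)
  let e5 : (EtCoh.pull (tl k φ)).obj ((EtDual.locCoh j' (m + 2)).obj (EtCoh.const _ (ZMod n))) ≅
      (EtCoh.pull (sl k φ)).obj ((EtCoh.pull (zeroSec c k)).obj
        ((EtDual.locCoh (Etdl.H437.Origin.compl c k).ι (m + 2)).obj (EtCoh.const _ (ZMod n)))) :=
    (EtCoh.pull (tl k φ)).mapIso e3 ≪≫ (EtpbcA.PullFLC.pullComp (tl k φ) (rl k φ)).app _ ≪≫
      (EtpbcA.PullFLC.pullCongr (tl_rl k φ)).app _ ≪≫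
      ((EtpbcA.PullFLC.pullComp (sl k φ) (zeroSec c k)).app _).symm
  have hz : IsIso (EtCoh.pullPushAdj (zeroSec c k)).counit := inferInstance
  let e6 : (EtCoh.pull (zeroSec c k)).obj ((EtCoh.pull (zeroSec c k) ⋙ EtCoh.push (zeroSec c k)).obj
      (EtCoh.const _ (ZMod n))) ≅ EtCoh.const _ (ZMod n) :=
    (asIso (EtCoh.pullPushAdj (zeroSec c k)).counit).app _ ≪≫ pullConst (zeroSec c k) (ZMod n)
  exact LocIso.of_iso_left (e4 ≪≫ e5) (LocIso.of_iso_right (LocIso.pull (LocIso.pull hP0 (zeroSec c k)) (sl k φ))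
    ((EtCoh.pull (sl k φ)).mapIso e6 ≪≫ pullConst (sl k φ) (ZMod n)))

end

/-- The conversion to the form with constant sheaves on the over-sites. -/
theorem exists_cover {Y : Scheme.{u}} {F : EtCoh.Ab Y} {M : Type} [AddCommGroup M]
    (H : LocIso F (EtCoh.const Y M)) :
    ∃ (ι : Type u) (V : ι → Y.Etale), EtCoh.Covers V ∧ ∀ a : ι,
      Nonempty (EtCoh.restr F (V a) ≅
        (constantSheaf (Y.smallEtaleTopology.over (V a)) AddCommGrpCat.{u + 1}).obj
          (AddCommGrpCat.of (ULift.{u + 1} M))) := by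
  obtain ⟨ι, V, hV, H⟩ := H
  refine ⟨ι, V, hV, fun a => ?_⟩
  rw [EtpbcA.OverSite2.restr_iso_const_iff]
  obtain ⟨e⟩ := (nonempty_restr_iso_iff_pull _ _ (V a)).1 (H a)
  exact ⟨e ≪≫ pullConst _ M⟩

end K556.PurityLC
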