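import Groth.Agent.EtDl.K556.QFFlat
import Mathlib.AlgebraicGeometry.AffineSpace
import Mathlib.AlgebraicGeometry.Morphisms.QuasiFinite
import Mathlib.AlgebraicGeometry.Morphisms.Flat

/-!
# The affine case of the chain of quasi-finite flat maps
-/

set_option autoImplicit false
universe u

open CategoryTheory CategoryTheory.Limits AlgebraicGeometry MvPolynomial

namespace K556.QFAffine

open K556.Exchange K556.QFFlat

section

variable (k : Type u) [Field k] (ι : Type u) (A : CommRingCat.{u}) (ψ : CommRingCat.of k ⟶ A)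

/-- the ring map attached to a vector -/
noncomputable def ringMap (c : ι → A) : CommRingCat.of (MvPolynomial ι k) ⟶ A :=
  letI := ψ.hom.toAlgebra
  CommRingCat.ofHom (aeval c : MvPolynomial ι k →ₐ[k] A).toRingHom

/-- the map to affine space attached to a vector -/
noncomputable def toAff (c : ι → A) : Spec A ⟶ 𝔸(ι; Spec (CommRingCat.of k)) :=
  AffineSpace.homOfVector (Spec.map ψ) (fun i => (Scheme.ΓSpecIso A).inv (c i))

theorem toAff_eq (c : ι → A) : toAff k ι A ψ c =
    Spec.map (ringMap k ι A ψ c) ≫ (AffineSpace.SpecIso ι (CommRingCat.of k)).inv := by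
  apply AffineSpace.hom_ext
  · rw [toAff, AffineSpace.homOfVector_over, Category.assoc, AffineSpace.SpecIso_inv_over,
      ← Spec.map_comp]
    congr 1
    ext x
    change _ = (letI := ψ.hom.toAlgebra; (aeval c : MvPolynomial ι k →ₐ[k] A) (C x))
    let _ := ψ.hom.toAlgebra
    simp only [algHom_C]
    rfl
  · intro i
    rw [toAff, AffineSpace.homOfVector_appTop_coord, Scheme.Hom.comp_appTop, CommRingCat.comp_apply,
      AffineSpace.SpecIso_inv_appTop_coord, ← CommRingCat.comp_apply, ← Scheme.ΓSpecIso_inv_naturality,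
      CommRingCat.comp_apply]
    congr 1
    change c i = (letI := ψ.hom.toAlgebra; (aeval c : MvPolynomial ι k →ₐ[k] A) (X i))
    let _ := ψ.hom.toAlgebra
    simp

theorem exists_eq_toAff (w : Spec A ⟶ 𝔸(ι; Spec (CommRingCat.of k)))
    (hw : w ≫ (𝔸(ι; Spec (CommRingCat.of k)) ↘ Spec (CommRingCat.of k)) = Spec.map ψ) :
    ∃ c, w = toAff k ι A ψ c := by
  refine ⟨fun i => (Scheme.ΓSpecIso A).hom (w.appTop (AffineSpace.coord _ i)), ?_⟩
  apply AffineSpace.hom_ext
  · rw [toAff, AffineSpace.homOfVector_over, hw]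
  · intro i
    rw [toAff, AffineSpace.homOfVector_appTop_coord]
    simp

theorem quasiFiniteAt_iff (c : ι → A) (m : Spec A) :
    (toAff k ι A ψ c).QuasiFiniteAt m ↔
      (Localization.localRingHom (m.asIdeal.comap (ringMap k ι A ψ c).hom) m.asIdeal
        (ringMap k ι A ψ c).hom rfl).QuasiFinite := by
  rw [toAff_eq, Scheme.Hom.quasiFiniteAt_comp_iff]
  exact RingHom.QuasiFinite.respectsIso.arrow_mk_iso_iff (Scheme.arrowStalkMapSpecIso _ m)

set_option backward.isDefEq.respectTransparency false in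
theorem flat_comp_iso_iff {X Y Z : Scheme.{u}} (f : X ⟶ Y) (g : Y ⟶ Z) [IsIso g] (x : X) :
    ((f ≫ g).stalkMap x).hom.Flat ↔ (f.stalkMap x).hom.Flat := by
  rw [Scheme.Hom.stalkMap_comp, CommRingCat.hom_comp,
    RingHom.Flat.respectsIso.cancel_left_isIso]

theorem flat_iff' (c : ι → A) (m : Spec A) :
    ((toAff k ι A ψ c).stalkMap m).hom.Flat ↔
      (Localization.localRingHom (m.asIdeal.comap (ringMap k ι A ψ c).hom) m.asIdeal
        (ringMap k ι A ψ c).hom rfl).Flat := by
  rw [toAff_eq, flat_comp_iso_iff]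
  exact RingHom.Flat.respectsIso.arrow_mk_iso_iff (Scheme.arrowStalkMapSpecIso _ m)

theorem quasiFiniteAt_iff' (c : ι → A) (m : Spec A) :
    (toAff k ι A ψ c).QuasiFiniteAt m ↔
    (letI := ψ.hom.toAlgebra
     letI := (aeval c : MvPolynomial ι k →ₐ[k] A).toRingHom.toAlgebra
     Algebra.QuasiFiniteAt (MvPolynomial ι k) m.asIdeal) := by
  rw [quasiFiniteAt_iff]
  let _ := ψ.hom.toAlgebra
  let _ := (aeval c : MvPolynomial ι k →ₐ[k] A).toRingHom.toAlgebra
  let := Localization.AtPrime.algebraOfLiesOver (m.asIdeal.under (MvPolynomial ι k)) m.asIdeal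
  trans Algebra.QuasiFinite (Localization.AtPrime (m.asIdeal.under (MvPolynomial ι k)))
    (Localization.AtPrime m.asIdeal)
  · rw [← RingHom.quasiFinite_algebraMap]
    rfl
  exact ⟨fun _ ↦ .trans _ (Localization.AtPrime (m.asIdeal.under (MvPolynomial ι k))) _,
    fun _ ↦ .of_restrictScalars (MvPolynomial ι k) _ _⟩

end

theorem exists_const (k : Type u) [Field k] [IsAlgClosed k] {A : Type u} [CommRing A] [Algebra k A]
    [Algebra.FiniteType k A] (m : Ideal A) [hm : m.IsMaximal] (c : A) :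
    ∃ a : k, c - algebraMap k A a ∈ m := by
  let _ : Field (A ⧸ m) := Ideal.Quotient.field m
  have : Module.Finite k (A ⧸ m) := finite_of_finite_type_of_isJacobsonRing k (A ⧸ m)
  have hb : Function.Bijective (algebraMap k (A ⧸ m)) :=
    IsAlgClosed.algebraMap_bijective_of_isIntegral
  obtain ⟨a, ha⟩ := hb.2 (Ideal.Quotient.mk m c)
  refine ⟨a, Ideal.Quotient.eq.mp ?_⟩
  rw [← ha]
  rfl

variable (k : Type u) [Field k] [IsAlgClosed k] (ι : Type u) [Finite ι] (A : CommRingCat.{u})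
  (ψ : CommRingCat.of k ⟶ A)

theorem affine (hft : ψ.hom.FiniteType) (m : Spec A) (hm : IsClosed {m})
    (hCM : LocCoh.IsCohenMacaulayLocalRing (Localization.AtPrime m.asIdeal))
    (u v : Spec A ⟶ 𝔸(ι; Spec (CommRingCat.of k)))
    (hu : u ≫ (𝔸(ι; Spec (CommRingCat.of k)) ↘ Spec (CommRingCat.of k)) = Spec.map ψ)
    (hv : v ≫ (𝔸(ι; Spec (CommRingCat.of k)) ↘ Spec (CommRingCat.of k)) = Spec.map ψ)
    [LocallyQuasiFinite u] [Flat u] [LocallyQuasiFinite v] [Flat v] :
    ∃ (n : ℕ) (w : Fin (n + 1) → (Spec A ⟶ 𝔸(ι; Spec (CommRingCat.of k)))),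
      w 0 = u ∧ w (Fin.last n) = v ∧
      (∀ j, (w j).QuasiFiniteAt m ∧ ((w j).stalkMap m).hom.Flat ∧
        w j ≫ (𝔸(ι; Spec (CommRingCat.of k)) ↘ Spec (CommRingCat.of k)) = Spec.map ψ) ∧
      (∀ j : Fin n, ∃ i, ∀ i', i' ≠ i →
        (w j.castSucc).appTop (AffineSpace.coord _ i') = (w j.succ).appTop (AffineSpace.coord _ i')) := by
  obtain ⟨c, rfl⟩ := exists_eq_toAff k ι A ψ u hu
  obtain ⟨d, rfl⟩ := exists_eq_toAff k ι A ψ v hv
  let _ := ψ.hom.toAlgebra
  have hfta : Algebra.FiniteType k A := hft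
  have : IsNoetherianRing A := Algebra.FiniteType.isNoetherianRing k A
  have hmax : m.asIdeal.IsMaximal := (PrimeSpectrum.isClosed_singleton_iff_isMaximal _).mp hm
  have key : ∀ c : ι → A, Good k m.asIdeal c → (toAff k ι A ψ c).QuasiFiniteAt m := fun c hc =>
    (quasiFiniteAt_iff' k ι A ψ c m).mpr (quasiFiniteAt_of_good k m.asIdeal c hc)
  have key2 : ∀ c : ι → A, (toAff k ι A ψ c).QuasiFiniteAt m → Good k m.asIdeal c := by
    intro c hc
    choose a ha using fun i => exists_const k m.asIdeal (c i)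
    exact good_of_quasiFiniteAt k m.asIdeal c a ha ((quasiFiniteAt_iff' k ι A ψ c m).mp hc)
  have hcm : ∀ c : ι → A, (m.asIdeal.comap (ringMap k ι A ψ c).hom).IsMaximal := by
    intro c
    have hsurj : Function.Surjective ((Ideal.Quotient.mk m.asIdeal).comp (ringMap k ι A ψ c).hom) := by
      intro y
      obtain ⟨x, rfl⟩ := Ideal.Quotient.mk_surjective y
      obtain ⟨a, ha⟩ := exists_const k m.asIdeal x
      refine ⟨C a, ?_⟩
      rw [RingHom.comp_apply]
      refine (Ideal.Quotient.eq.mpr ?_).symm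
      have : (ringMap k ι A ψ c).hom (C a) = algebraMap k A a := by
        change (aeval c : MvPolynomial ι k →ₐ[k] A) (C a) = _
        simp
      rw [this]
      exact ha
    let _ : Field (A ⧸ m.asIdeal) := Ideal.Quotient.field m.asIdeal
    have h := RingHom.ker_isMaximal_of_surjective _ hsurj
    have he : RingHom.ker ((Ideal.Quotient.mk m.asIdeal).comp (ringMap k ι A ψ c).hom) =
        m.asIdeal.comap (ringMap k ι A ψ c).hom := by
      ext x
      rw [RingHom.mem_ker, RingHom.comp_apply, Ideal.Quotient.eq_zero_iff_mem, Ideal.mem_comap]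
    rwa [he] at h
  have key3 : ∀ c : ι → A, (toAff k ι A ψ c).QuasiFiniteAt m →
      (((toAff k ι A ψ c).stalkMap m).hom.Flat ↔ m.asIdeal.height = Nat.card ι) := fun c hc =>
    (flat_iff' k ι A ψ c m).trans (flat_iff k _ m.asIdeal (hcm c) ((quasiFiniteAt_iff k ι A ψ c m).mp hc) hCM)
  have hq1 : (toAff k ι A ψ c).QuasiFiniteAt m := Scheme.Hom.quasiFiniteAt _ m
  have hq2 : (toAff k ι A ψ d).QuasiFiniteAt m := Scheme.Hom.quasiFiniteAt _ m
  have hh : m.asIdeal.height = Nat.card ι := (key3 c hq1).mp (Flat.stalkMap _ m)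
  obtain ⟨n, w, h0, hl, hg, hs⟩ := chain k m.asIdeal hh c d (key2 c hq1) (key2 d hq2)
  refine ⟨n, fun j => toAff k ι A ψ (w j), congrArg (toAff k ι A ψ) h0, congrArg (toAff k ι A ψ) hl, fun j => ⟨key _ (hg j), ?_, ?_⟩, ?_⟩
  · exact (key3 _ (key _ (hg j))).mpr hh
  · exact AffineSpace.homOfVector_over _ _
  · intro j
    obtain ⟨i, hi⟩ := hs j
    refine ⟨i, fun i' hi' => ?_⟩
    change (AffineSpace.homOfVector (Spec.map ψ) (fun i => (Scheme.ΓSpecIso A).inv (w j.castSucc i))).appTop _ =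
      (AffineSpace.homOfVector (Spec.map ψ) (fun i => (Scheme.ΓSpecIso A).inv (w j.succ i))).appTop _
    rw [AffineSpace.homOfVector_appTop_coord, AffineSpace.homOfVector_appTop_coord, hi i' hi']

end K556.QFAffine
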