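import Groth.Agent.EtDl.K556.Exchange
import Groth.Agent.S2082
import Groth.Agent.Flat2D.DimFlat
import Mathlib.RingTheory.RegularLocalRing.Polynomial

/-!
# Quasi-finiteness and flatness of a map given by a system of parameters
-/

set_option autoImplicit false
universe u

open IsLocalRing MvPolynomial

namespace K556.QFFlat

open K556.Exchange

variable (k : Type u) [Field k] {A : Type u} [CommRing A] [Algebra k A] {ι : Type u}

/-- the ideal of a rational point of affine space -/
theorem le_of_X_sub_C_mem {a : ι → k} (P Q : Ideal (MvPolynomial ι k)) (hQ : Q ≠ ⊤)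
    (hP : ∀ i, X i - C (a i) ∈ P) (hQ' : ∀ i, X i - C (a i) ∈ Q) : Q ≤ P := by
  intro p hp
  have h1 : ∀ (J : Ideal (MvPolynomial ι k)), (∀ i, X i - C (a i) ∈ J) → p - C (eval a p) ∈ J := by
    intro J hJ
    rw [← Ideal.Quotient.eq]
    have : (Ideal.Quotient.mkₐ k J : MvPolynomial ι k →ₐ[k] _) =
        (Algebra.ofId k _).comp (MvPolynomial.aeval a) := by
      ext i
      simp only [Ideal.Quotient.mkₐ_eq_mk, AlgHom.comp_apply, aeval_X]
      exact Ideal.Quotient.eq.mpr (hJ i)
    have h2 := DFunLike.congr_fun this p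
    have h3 : Ideal.Quotient.mk J p = algebraMap k (MvPolynomial ι k ⧸ J) (eval a p) := by
      simpa [Algebra.ofId_apply, MvPolynomial.aeval_def, MvPolynomial.eval₂_eq_eval_map] using h2
    exact h3
  have h2 := h1 Q hQ'
  have h3 : C (eval a p) ∈ Q := by
    have := Q.sub_mem hp h2
    simpa using this
  have h4 : eval a p = 0 := by
    by_contra h
    exact hQ (Ideal.eq_top_of_isUnit_mem _ h3 ((isUnit_iff_ne_zero.mpr h).map C))
  have := h1 P hP
  simpa [h4] using this

theorem good_of_quasiFiniteAt (m : Ideal A) [m.IsPrime] (c : ι → A) (a : ι → k)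
    (ha : ∀ i, c i - algebraMap k A (a i) ∈ m)
    (h : letI := (aeval c : MvPolynomial ι k →ₐ[k] A).toRingHom.toAlgebra
      Algebra.QuasiFiniteAt (MvPolynomial ι k) m) : Good k m c := by
  algebraize [(aeval c : MvPolynomial ι k →ₐ[k] A).toRingHom]
  have hX : ∀ i, algebraMap (MvPolynomial ι k) A (X i - C (a i)) = c i - algebraMap k A (a i) := by
    intro i
    change (aeval c : MvPolynomial ι k →ₐ[k] A) (X i - C (a i)) = _
    simp
  refine ⟨a, ⟨inferInstance, Ideal.span_le.mpr (by rintro _ ⟨i, rfl⟩; exact ha i)⟩, ?_⟩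
  rintro Q ⟨hQ, hQle⟩ hQm
  have : Algebra.QuasiFiniteAt (MvPolynomial ι k) m := h
  have hQmem : ∀ i, X i - C (a i) ∈ Q.under (MvPolynomial ι k) := by
    intro i
    rw [Ideal.under_def, Ideal.mem_comap, hX]
    exact hQle (Ideal.subset_span ⟨i, rfl⟩)
  have hmmem : ∀ i, X i - C (a i) ∈ m.under (MvPolynomial ι k) := by
    intro i
    rw [Ideal.under_def, Ideal.mem_comap, hX]
    exact ha i
  refine (Algebra.QuasiFiniteAt.eq_of_le_of_under_eq (R := MvPolynomial ι k) hQm
    (le_antisymm (Ideal.comap_mono hQm) ?_)).ge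
  exact le_of_X_sub_C_mem k _ _ (Ideal.IsPrime.ne_top inferInstance) hQmem hmmem

theorem quasiFiniteAt_of_good [IsNoetherianRing A] [Algebra.FiniteType k A] (m : Ideal A) [hm : m.IsMaximal]
    (c : ι → A) (hc : Good k m c) :
    letI := (aeval c : MvPolynomial ι k →ₐ[k] A).toRingHom.toAlgebra
    Algebra.QuasiFiniteAt (MvPolynomial ι k) m := by
  algebraize [(aeval c : MvPolynomial ι k →ₐ[k] A).toRingHom]
  obtain ⟨a, ha⟩ := hc
  set I := Ideal.span (Set.range fun i => c i - algebraMap k A (a i)) with hI
  have hX : ∀ i, algebraMap (MvPolynomial ι k) A (X i - C (a i)) = c i - algebraMap k A (a i) := by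
    intro i
    change (aeval c : MvPolynomial ι k →ₐ[k] A) (X i - C (a i)) = _
    simp
  have : IsScalarTower k (MvPolynomial ι k) A := IsScalarTower.of_algebraMap_eq (fun x => by
    change _ = (aeval c : MvPolynomial ι k →ₐ[k] A) (C x)
    simp)
  have : Algebra.FiniteType (MvPolynomial ι k) A := .of_restrictScalars_finiteType k _ _
  have hfin : I.minimalPrimes.Finite := I.finite_minimalPrimes_of_isNoetherianRing
  have hfin' : {P ∈ I.minimalPrimes | P ≠ m}.Finite := hfin.subset (fun _ h => h.1)
  obtain ⟨f, hf, hfm⟩ : ∃ f, (∀ P ∈ I.minimalPrimes, P ≠ m → f ∈ P) ∧ f ∉ m := by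
    have : ¬ (hfin'.toFinset.inf id ≤ m) := by
      rw [Ideal.IsPrime.inf_le' inferInstance]
      rintro ⟨P, hP, hle⟩
      have hP' : P ∈ I.minimalPrimes ∧ P ≠ m := by simpa using hP
      exact hP'.2 (le_antisymm hle (ha.2 hP'.1.1 hle))
    obtain ⟨f, hf, hfm⟩ := SetLike.not_le_iff_exists.mp this
    refine ⟨f, fun P hP hPm => ?_, hfm⟩
    have : hfin'.toFinset.inf id ≤ P := Finset.inf_le (f := id) (by simpa using ⟨hP, hPm⟩)
    exact this hf
  refine Algebra.QuasiFiniteAt.of_isOpen_singleton_fiber (R := MvPolynomial ι k) (⟨m, inferInstance⟩ : PrimeSpectrum A) ?_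
  have hopen : IsOpen ((Subtype.val : (PrimeSpectrum.comap (algebraMap (MvPolynomial ι k) A) ⁻¹'
    {(⟨m, inferInstance⟩ : PrimeSpectrum A).comap (algebraMap (MvPolynomial ι k) A)}) → _) ⁻¹'
      (PrimeSpectrum.basicOpen f : Set (PrimeSpectrum A))) :=
    (PrimeSpectrum.basicOpen f).isOpen.preimage continuous_subtype_val
  convert hopen using 1
  ext ⟨q, hq⟩
  simp only [Set.mem_singleton_iff, Set.mem_preimage, SetLike.mem_coe, PrimeSpectrum.mem_basicOpen,
    Subtype.mk.injEq]
  constructor
  · rintro rfl; exact hfm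
  · intro hfq
    have hq' : q.asIdeal.comap (algebraMap (MvPolynomial ι k) A) = m.comap (algebraMap (MvPolynomial ι k) A) :=
      congrArg PrimeSpectrum.asIdeal hq
    have hIq : I ≤ q.asIdeal := by
      rw [hI, Ideal.span_le]
      rintro _ ⟨i, rfl⟩
      change c i - algebraMap k A (a i) ∈ q.asIdeal
      rw [← hX, ← Ideal.mem_comap, hq', Ideal.mem_comap, hX]
      exact ha.1.2 (Ideal.subset_span ⟨i, rfl⟩)
    obtain ⟨P, hP, hPq⟩ := Ideal.exists_minimalPrimes_le hIq
    have hPm : P = m := by
      by_contra h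
      exact hfq (hPq (hf P hP h))
    subst hPm
    ext1
    exact (hm.eq_of_le q.2.ne_top hPq).symm

theorem isArtinianRing_quot_of_quasiFinite (R S : Type u) [CommRing R] [CommRing S] [Algebra R S] [IsLocalRing R]
    [Algebra.QuasiFinite R S] : IsArtinianRing (S ⧸ (maximalIdeal R).map (algebraMap R S)) := by
  let k := R ⧸ maximalIdeal R
  let _ : Field k := Ideal.Quotient.field (maximalIdeal R)
  have h1 : Algebra.QuasiFinite k (S ⧸ (maximalIdeal R).map (algebraMap R S)) :=
    Algebra.QuasiFinite.of_restrictScalars R k _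
  have h2 : Module.Finite k (S ⧸ (maximalIdeal R).map (algebraMap R S)) := Module.Finite.of_quasiFinite
  exact IsArtinianRing.of_finite k _

theorem dim_fibre_zero (R S : Type u) [CommRing R] [CommRing S] [Algebra R S] [IsLocalRing R] [IsLocalRing S]
    [IsLocalHom (algebraMap R S)]
    [Algebra.QuasiFinite R S] : ringKrullDim (S ⧸ (maximalIdeal R).map (algebraMap R S)) = 0 := by
  have := isArtinianRing_quot_of_quasiFinite R S
  have hnt : Nontrivial (S ⧸ (maximalIdeal R).map (algebraMap R S)) :=
    Ideal.Quotient.nontrivial_iff.2 (fun h =>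
      (maximalIdeal.isMaximal S).ne_top (top_le_iff.1 (h ▸ IsLocalRing.map_maximalIdeal_le (algebraMap R S))))
  have h := (isArtinianRing_iff_isNoetherianRing_krullDimLE_zero.mp this).2
  exact le_antisymm (Ring.krullDimLE_iff.mp h) ringKrullDim_nonneg_of_nontrivial

section loc

variable [Finite ι] (φ : MvPolynomial ι k →+* A) (m : Ideal A) [hm : m.IsMaximal]

omit [Algebra k A] in
/-- `localRingHom` of a polynomial ring at a closed point is flat iff heights agree -/
theorem flat_iff [IsNoetherianRing A] (hmax : (m.comap φ).IsMaximal)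
    (hq : (Localization.localRingHom (m.comap φ) m φ rfl).QuasiFinite)
    (hCM : LocCoh.IsCohenMacaulayLocalRing (Localization.AtPrime m)) :
    (Localization.localRingHom (m.comap φ) m φ rfl).Flat ↔ m.height = Nat.card ι := by
  algebraize [Localization.localRingHom (m.comap φ) m φ rfl]
  have hreg : IsRegularLocalRing (Localization.AtPrime (m.comap φ)) := inferInstance
  have hloc : IsLocalHom (algebraMap (Localization.AtPrime (m.comap φ)) (Localization.AtPrime m)) :=
    inferInstanceAs (IsLocalHom (Localization.localRingHom (m.comap φ) m φ rfl))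
  have h0 := dim_fibre_zero (Localization.AtPrime (m.comap φ)) (Localization.AtPrime m)
  have h1 : ringKrullDim (Localization.AtPrime (m.comap φ)) = (Nat.card ι : ℕ∞) := by
    rw [IsLocalization.AtPrime.ringKrullDim_eq_height (m.comap φ),
      Groth.Agent.Flat2D.DimFlat.height_eq_card_of_isMaximal]
  have h2 : ringKrullDim (Localization.AtPrime m) = m.height :=
    IsLocalization.AtPrime.ringKrullDim_eq_height m _
  constructor
  · intro h
    have hfl : Module.Flat (Localization.AtPrime (m.comap φ)) (Localization.AtPrime m) := h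
    have h3 := Groth.Agent.Flat2D.DimFlat.ringKrullDim_eq_add_of_flat (Localization.AtPrime (m.comap φ))
      (Localization.AtPrime m)
    rw [h0, h1, h2, add_zero] at h3
    exact_mod_cast h3
  · intro h
    have h3 := Groth.Agent.S2082.result (R := Localization.AtPrime (m.comap φ))
      (S := Localization.AtPrime m) (by rw [h0, h1, h2, add_zero, h])
    exact h3

end loc

end K556.QFFlat
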