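import Groth.Agent.Etrest.ShriekBC7
import Groth.Agent.Etrest.LqfExact
import Groth.Agent.EtpbcA.SectColim
import Groth.Agent.EtpbcA.FiltColimCrit

/-!
# Sections with proper support commute with filtered colimits over a locally noetherian base
-/

set_option autoImplicit false
universe u w₁ w₂
open CategoryTheory CategoryTheory.Limits AlgebraicGeometry Opposite

namespace K556.ShriekFilt

open Groth.Agent.Etrest.ShriekComp Groth.Agent.Etrest.ShriekBC Groth.Agent.Etrest
open Groth.Agent.EtpbcA.ConsVan Groth.Agent.EtpbcA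

/-- Extension by zero of a section with support closed in the big scheme. -/
theorem exists_extend {X : Scheme.{u}} (F : EtCoh.Ab X) (P : X.Etale) (W : P.left.Opens)
    (t : EtCoh.sect F (Supp.mkOver P W.ι)) (Z : Set P.left) (hZ : IsClosed Z) (hZW : Z ⊆ W)
    (ht : ∀ x : W.toScheme, W.ι x ∉ Z → Van F t x) :
    ∃ t' : EtCoh.sect F P, res F (Supp.mkHom P W.ι) t' = t ∧ ∀ x : P.left, x ∉ Z → Van F t' x := by
  let O : P.left.Opens := ⟨Zᶜ, hZ.isOpen_compl⟩
  let V : Bool → X.Etale := fun b => match b with
    | true => Supp.mkOver P W.ι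
    | false => Supp.mkOver P O.ι
  let g : ∀ b, V b ⟶ P := fun b => match b with
    | true => Supp.mkHom P W.ι
    | false => Supp.mkHom P O.ι
  let s : ∀ b, EtCoh.sect F (V b) := fun b => match b with
    | true => t
    | false => 0
  have hV : ∀ (b : Bool) (Q : X.Etale) (a : Q ⟶ V true) (c : Q ⟶ V false),
      a ≫ g true = c ≫ g false → res F a (s true) = 0 := by
    intro b Q a c hac
    apply eq_zero_of_van
    intro q
    rw [van_res_iff]
    apply ht
    intro hq
    have h1 : W.ι (a.left q) = O.ι (c.left q) :=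
      congrArg (fun (k : Q ⟶ P) => k.left q) hac
    rw [h1] at hq
    exact (c.left q).2 hq
  obtain ⟨t', ht'⟩ := SectColim.glue F P V g (by
    intro x
    by_cases hx : x ∈ Z
    · exact ⟨true, (⟨x, hZW hx⟩ : W), rfl⟩
    · exact ⟨false, (⟨x, hx⟩ : O), rfl⟩) s (by
    intro i j
    match i, j with
    | true, true =>
      have hm : Mono (Supp.mkHom P W.ι) := by
        constructor
        intro Q a b hab
        apply MorphismProperty.Over.Hom.ext
        have h1 : a.left ≫ W.ι = b.left ≫ W.ι := congrArg (fun (k : Q ⟶ P) => k.left) hab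
        exact (cancel_mono W.ι).1 h1
      have h2 : pullback.fst (g true) (g true) = pullback.snd (g true) (g true) :=
        (cancel_mono (Supp.mkHom P W.ι)).1 pullback.condition
      exact congrArg (fun k => F.obj.map k.op (s true)) h2
    | true, false =>
      refine (hV true _ (pullback.fst (g true) (g false)) (pullback.snd (g true) (g false))
        pullback.condition).trans ?_
      exact (map_zero (F.obj.map (pullback.snd (g true) (g false)).op).hom).symm
    | false, true =>
      refine Eq.trans (map_zero (F.obj.map (pullback.fst (g false) (g true)).op).hom) ?_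
      exact (hV true _ (pullback.snd (g false) (g true)) (pullback.fst (g false) (g true))
        pullback.condition.symm).symm
    | false, false =>
      exact (map_zero (F.obj.map (pullback.fst (g false) (g false)).op).hom).trans
        (map_zero (F.obj.map (pullback.snd (g false) (g false)).op).hom).symm)
  refine ⟨t', ht' true, fun x hx => ?_⟩
  exact ⟨Supp.mkOver P O.ι, Supp.mkHom P O.ι, (⟨x, hx⟩ : O), rfl, ht' false⟩

section Main

variable {X S : Scheme.{u}} (f : X ⟶ S) [IsSeparated f] [LocallyOfFiniteType f]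

variable {J : Type w₁} [Category.{w₂} J] [IsFiltered J]
  [PreservesColimitsOfShape J (forget AddCommGrpCat.{u + 1})]
  {K : J ⥤ EtCoh.Ab X} {c : Cocone K} (hc : IsColimit c)

include hc in
theorem locZero (k : J) (U : S.Etale) (t : EtCoh.sect ((shriekSheaf f).obj (K.obj k)) U)
    (ht : ((shriekSheaf f).map (c.ι.app k)).hom.app (op U) t = 0) (x : U.left) :
    ∃ (V : S.Etale) (g : V ⟶ U) (v : V.left), g.left v = x ∧ ∃ (k' : J) (q : k ⟶ k'),
      ((shriekSheaf f).map (K.map q)).hom.app (op V)
        (((shriekSheaf f).obj (K.obj k)).obj.map g.op t) = 0 := by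
  obtain ⟨V0, hV0, hxV0, -⟩ := exists_isAffineOpen_mem_and_subset (X := U.left) (x := x)
    (U := ⊤) trivial
  let V : S.Etale := Supp.mkOver U V0.ι
  let φ : V ⟶ U := Supp.mkHom U V0.ι
  have hVaff : IsAffine V.left := hV0
  let t' : EtCoh.sect ((shriekSheaf f).obj (K.obj k)) V := res _ φ t
  have ht' : ((shriekSheaf f).map (c.ι.app k)).hom.app (op V) t' = 0 := by
    change ((shriekSheaf f).map (c.ι.app k)).hom.app (op V) (res _ φ t) = 0
    rw [← res_naturality, ht, map_zero]
  let P := (EtCoh.bc f).obj V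
  let τ : EtCoh.sect (K.obj k) P := val f _ V t'
  have hτ : (c.ι.app k).hom.app (op P) τ = 0 := by
    have := congrArg (val f c.pt V) ht'
    rw [val_map, map_zero] at this
    exact this
  have ip : IsSeparated (EtShriek.prV f V) := MorphismProperty.pullback_fst _ _ ‹_›
  have ip' : LocallyOfFiniteType (EtShriek.prV f V) := MorphismProperty.pullback_fst _ _ ‹_›
  have hcpt : IsCompact (EtShriek.sectSupp (K.obj k) P τ) :=
    isCompact_of_isProperOver (EtShriek.prV f V) (isProperOver_supp t')
  obtain ⟨W, hWc, hKW, -⟩ := exists_isCompact_isOpen_between hcpt ⊤ (Set.subset_univ _)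
  have hWcs : CompactSpace (Supp.mkOver P W.ι).left := isCompact_iff_compactSpace.1 hWc
  let τW : EtCoh.sect (K.obj k) (Supp.mkOver P W.ι) := res _ (Supp.mkHom P W.ι) τ
  obtain ⟨k', q, hq⟩ := SectColim.exists_map_eq_zero hc (Supp.mkOver P W.ι) k τW (by
    change (c.ι.app k).hom.app (op _) (res _ (Supp.mkHom P W.ι) τ) = 0
    rw [← res_naturality, hτ, map_zero])
  refine ⟨V, φ, ⟨x, hxV0⟩, rfl, k', q, ?_⟩
  apply val_injective
  rw [map_zero]
  refine Eq.trans (val_map (K.map q) t') ?_
  apply eq_zero_of_van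
  intro p
  by_cases hp : p ∈ W
  · refine ⟨Supp.mkOver P W.ι, Supp.mkHom P W.ι, (⟨p, hp⟩ : W), rfl, ?_⟩
    change res _ (Supp.mkHom P W.ι) ((K.map q).hom.app (op P) τ) = 0
    rw [res_naturality]
    exact hq
  · have h1 : Van (K.obj k) τ p := by
      rw [van_iff]
      exact fun h => hp (hKW h)
    exact h1.map _

include hc in
theorem locRep [IsLocallyNoetherian S] (U : S.Etale) (s : EtCoh.sect ((shriekSheaf f).obj c.pt) U)
    (x : U.left) : ∃ k, StalkTools.LocIm ((shriekSheaf f).map (c.ι.app k)) s x := by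
  obtain ⟨V0, hV0, hxV0, -⟩ := exists_isAffineOpen_mem_and_subset (X := U.left) (x := x)
    (U := ⊤) trivial
  let V : S.Etale := Supp.mkOver U V0.ι
  let φ : V ⟶ U := Supp.mkHom U V0.ι
  have hVaff : IsAffine V.left := hV0
  let s' : EtCoh.sect ((shriekSheaf f).obj c.pt) V := res _ φ s
  let P := (EtCoh.bc f).obj V
  let σ : EtCoh.sect c.pt P := val f _ V s'
  have ip : IsSeparated (EtShriek.prV f V) := MorphismProperty.pullback_fst _ _ ‹_›
  have ip' : LocallyOfFiniteType (EtShriek.prV f V) := MorphismProperty.pullback_fst _ _ ‹_›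
  have hprop := isProperOver_supp s'
  have hcpt : IsCompact (EtShriek.sectSupp c.pt P σ) :=
    isCompact_of_isProperOver (EtShriek.prV f V) hprop
  have hclosed : IsClosed (EtShriek.sectSupp c.pt P σ) := Supp.isClosed_sectSupp _ _ _
  obtain ⟨W, hWc, hKW, -⟩ := exists_isCompact_isOpen_between hcpt ⊤ (Set.subset_univ _)
  -- noetherian
  have hVet : Etale V.hom := V.prop
  have hPet : Etale P.hom := P.prop
  have hX : IsLocallyNoetherian X := LocallyOfFiniteType.isLocallyNoetherian f
  have hP : IsLocallyNoetherian P.left := by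
    let h : P.left ⟶ X := P.hom
    have hh : Etale h := P.prop
    exact LocallyOfFiniteType.isLocallyNoetherian h
  have hWcs : CompactSpace W.toScheme := isCompact_iff_compactSpace.1 hWc
  have hWln : IsLocallyNoetherian W.toScheme := LocallyOfFiniteType.isLocallyNoetherian W.ι
  have hWn : IsNoetherian W.toScheme := {}
  have hWns : TopologicalSpace.NoetherianSpace W.toScheme := inferInstance
  have i1 : CompactSpace (Supp.mkOver P W.ι).left := hWcs
  have i2 : QuasiSeparatedSpace (Supp.mkOver P W.ι).left :=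
    (inferInstance : QuasiSeparatedSpace W.toScheme)
  obtain ⟨j, t, ht⟩ := SectColim.exists_rep hc (Supp.mkOver P W.ι) (res _ (Supp.mkHom P W.ι) σ)
  let O : P.left.Opens := ⟨W ∩ (EtShriek.sectSupp c.pt P σ)ᶜ, W.2.inter hclosed.isOpen_compl⟩
  have hOW : O ≤ W := fun z hz => hz.1
  have hOc : IsCompact (O : Set P.left) := by
    have h1 : IsCompact (W.ι ⁻¹' (O : Set P.left)) :=
      TopologicalSpace.NoetherianSpace.isCompact _
    have h2 := h1.image W.ι.continuous
    rwa [Set.image_preimage_eq_inter_range, Scheme.Opens.range_ι,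
      Set.inter_eq_self_of_subset_left hOW] at h2
  have i3 : CompactSpace (Supp.mkOver P O.ι).left := isCompact_iff_compactSpace.1 hOc
  let l : Supp.mkOver P O.ι ⟶ Supp.mkOver P W.ι :=
    MorphismProperty.Over.homMk (P.left.homOfLE hOW) (by
      change P.left.homOfLE hOW ≫ W.ι ≫ P.hom = O.ι ≫ P.hom
      rw [← Category.assoc, Scheme.homOfLE_ι])
  have hl : l ≫ Supp.mkHom P W.ι = Supp.mkHom P O.ι := by
    apply MorphismProperty.Over.Hom.ext
    exact Scheme.homOfLE_ι P.left hOW
  have hσO : res _ (Supp.mkHom P O.ι) σ = 0 := by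
    apply eq_zero_of_van
    intro z
    rw [van_res_iff, van_iff]
    exact z.2.2
  obtain ⟨k, q, hq⟩ := SectColim.exists_map_eq_zero hc (Supp.mkOver P O.ι) j (res _ l t) (by
    change (c.ι.app j).hom.app (op _) (res _ l t) = 0
    rw [← res_naturality, ht]
    have h5 : res c.pt l (res c.pt (Supp.mkHom P W.ι) σ) = 0 := by
      rw [← res_comp, hl, hσO]
    exact h5)
  let tk : EtCoh.sect (K.obj k) (Supp.mkOver P W.ι) := (K.map q).hom.app (op _) t
  have htk : (c.ι.app k).hom.app (op _) tk = res _ (Supp.mkHom P W.ι) σ := by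
    rw [← ht, ← c.w q]
    rfl
  have hvan : ∀ z : W.toScheme, W.ι z ∉ EtShriek.sectSupp c.pt P σ → Van (K.obj k) tk z := by
    intro z hz
    refine ⟨Supp.mkOver P O.ι, l, (⟨W.ι z, z.2, hz⟩ : O), ?_, ?_⟩
    · apply (W.ι.isOpenEmbedding).injective
      change (P.left.homOfLE hOW ≫ W.ι) _ = _
      rw [Scheme.homOfLE_ι]
      rfl
    · change res _ l tk = 0
      change res _ l ((K.map q).hom.app (op _) t) = 0
      rw [res_naturality]
      exact hq
  obtain ⟨t', ht', hvan'⟩ := exists_extend (K.obj k) P W tk _ hclosed hKW hvan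
  have hsub : EtShriek.sectSupp (K.obj k) P t' ⊆ EtShriek.sectSupp c.pt P σ := by
    intro z hz
    by_contra h
    exact (van_iff t' z).1 (hvan' z h) hz
  have hmem : t' ∈ EtShriek.shriekSubgroup f (K.obj k) V := by
    rw [Supp.mem_shriekSubgroup_iff]
    exact PO.isProperOver_mono hprop (Supp.isClosed_sectSupp _ _ _) hsub
  refine ⟨k, V, φ, ⟨x, hxV0⟩, rfl, mkSect f (K.obj k) V t' hmem, ?_⟩
  apply val_injective
  refine Eq.trans (val_map (c.ι.app k) (mkSect f (K.obj k) V t' hmem)) ?_
  change (c.ι.app k).hom.app (op P) t' = σ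
  rw [← sub_eq_zero]
  apply eq_zero_of_van
  intro p
  by_cases hp : p ∈ W
  · refine ⟨Supp.mkOver P W.ι, Supp.mkHom P W.ι, (⟨p, hp⟩ : W), rfl, ?_⟩
    change res _ (Supp.mkHom P W.ι) _ = 0
    rw [map_sub, res_naturality, ht', htk]
    exact sub_self _
  · have h1 : Van (K.obj k) t' p := hvan' p fun h => hp (hKW h)
    have h2 : Van c.pt σ p := by
      rw [van_iff]
      exact fun h => hp (hKW h)
    exact (h1.map _).sub h2

/-- Sections with proper support commute with filtered colimits over a locally noetherian base. -/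
theorem preservesColimitsOfShape_shriekSheaf [IsLocallyNoetherian S]
    [HasColimitsOfShape J (EtCoh.Ab S)] : PreservesColimitsOfShape J (shriekSheaf f) where
  preservesColimit {K} := ⟨fun {c} hc =>
    FiltColimCrit.isColimit_of_local (K ⋙ shriekSheaf f) ((shriekSheaf f).mapCocone c)
      (fun U s x => locRep f hc U s x)
      (fun k U t ht x => locZero f hc k U t ht x)⟩

end Main

section General

variable {X S : Scheme.{u}} (f : X ⟶ S) [IsSeparated f] [LocallyOfFiniteType f]

/-- The base change isomorphism as an isomorphism of functors. -/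
noncomputable def bcNatIso {X' S' : Scheme.{u}} {f' : X' ⟶ S'} {g : S' ⟶ S} {g' : X' ⟶ X}
    (sq : IsPullback g' f' f g) [LocallyOfFiniteType f'] :
    shriekSheaf f ⋙ EtCoh.pull g ≅ EtCoh.pull g' ⋙ shriekSheaf f' :=
  NatIso.ofComponents (fun F =>
    have := BC.of_lft f _ _ _ sq F
    asIso (bcMap sq F)) (fun α => bcMap_naturality sq α)

/-- `f_!` commutes with filtered colimits. -/
theorem preservesColimitsOfShape_lowerShriek (J : Type w₁) [Category.{w₂} J] [IsFiltered J]
    [PreservesColimitsOfShape J (forget AddCommGrpCat.{u + 1})]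
    (hJ : ∀ Y : Scheme.{u}, HasColimitsOfShape J (EtCoh.Ab Y)) :
    PreservesColimitsOfShape J (EtShriek.lowerShriek f) := by
  have := hJ S
  refine LqfExact.preservesColimitsOfShape _ fun p => ?_
  have sq := IsPullback.of_hasPullback f p.pt
  have h1 : IsSeparated (pullback.snd f p.pt) := MorphismProperty.pullback_snd _ _ ‹_›
  have h2 : LocallyOfFiniteType (pullback.snd f p.pt) := MorphismProperty.pullback_snd _ _ ‹_›
  have h3 := hJ (Spec (CommRingCat.of p.Ω))
  have h4 : PreservesColimitsOfShape J (shriekSheaf (pullback.snd f p.pt)) :=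
    preservesColimitsOfShape_shriekSheaf _
  have h5 : PreservesColimitsOfShape J (EtCoh.pull (pullback.fst f p.pt)) :=
    (EtCoh.pullPushAdj _).leftAdjoint_preservesColimits.preservesColimitsOfShape
  let e : EtShriek.lowerShriek f ⋙ EtCoh.stalk p.pt ≅
      (EtCoh.pull (pullback.fst f p.pt) ⋙ shriekSheaf (pullback.snd f p.pt)) ⋙
        EtCoh.stalk (𝟙 (Spec (CommRingCat.of p.Ω))) :=
    Functor.isoWhiskerRight (lowerShriekIso f) _ ≪≫
      Functor.isoWhiskerLeft (shriekSheaf f) (eqToIso (by rw [Category.id_comp]) ≪≫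
        Groth.Agent.Etbase.StalkPull.stalkPullIso p.pt (𝟙 (Spec (CommRingCat.of p.Ω)))) ≪≫
      (Functor.associator _ _ _).symm ≪≫ Functor.isoWhiskerRight (bcNatIso f sq) _
  exact preservesColimitsOfShape_of_natIso e.symm

end General

end K556.ShriekFilt
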