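import Groth.Agent.EtDl.K556.ToPush
import Groth.Agent.CurvesA.ArtinSchreier
import Groth.Agent.Etrest.Supp
import Mathlib.Algebra.Homology.ShortComplex.ExactFunctor

/-!
# `f_!` is left exact
-/

set_option autoImplicit false
universe u
open CategoryTheory CategoryTheory.Limits AlgebraicGeometry Opposite

namespace K556.ShriekLex

open Groth.Agent.Etrest.ShriekComp Groth.Agent.Etrest EtShriek K556.ToPush

variable {X Y : Scheme.{u}} (f : X ⟶ Y) [LocallyOfFiniteType f]

instance additive_shriekSheaf : (shriekSheaf f).Additive where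
  map_add {F G α β} := by
    apply Sheaf.hom_ext
    ext V s
    exact Subtype.ext rfl

/-- Left exactness of sections. -/
theorem sections_exact {X : Scheme.{u}} (S : ShortComplex (EtCoh.Ab X)) (hS : S.Exact) [Mono S.f]
    (U : X.Etale) (t : EtCoh.sect S.X₂ U) (ht : S.g.hom.app (op U) t = 0) :
    ∃ r : EtCoh.sect S.X₁ U, S.f.hom.app (op U) r = t := by
  let T : ShortComplex AddCommGrpCat.{u + 1} :=
    S.map (sheafToPresheaf X.smallEtaleTopology AddCommGrpCat.{u + 1} ⋙
      (evaluation _ _).obj (op U))
  have h1 : T.Exact := hS.map_of_mono_of_preservesKernel _ inferInstance inferInstance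
  exact (ShortComplex.ab_exact_iff T).1 h1 t ht

theorem injective_of_mono {X : Scheme.{u}} {F G : EtCoh.Ab X} (φ : F ⟶ G) [Mono φ] (W : X.Etale) :
    Function.Injective (φ.hom.app (op W)) := by
  have h1 : Mono ((sheafToPresheaf X.smallEtaleTopology AddCommGrpCat.{u + 1}).map φ) :=
    inferInstance
  have h2 : Mono (((sheafToPresheaf X.smallEtaleTopology AddCommGrpCat.{u + 1}).map φ).app (op W)) :=
    inferInstance
  exact (AddCommGrpCat.mono_iff_injective _).1 h2

theorem sectSupp_of_mono {X : Scheme.{u}} {F G : EtCoh.Ab X} (φ : F ⟶ G) [Mono φ] (W : X.Etale)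
    (r : EtCoh.sect F W) : sectSupp F W r = sectSupp G W (φ.hom.app (op W) r) := by
  refine Set.Subset.antisymm ?_ (sectSupp_map_subset φ W r)
  intro x hx V g hg h0
  refine hx V g hg (injective_of_mono φ V ?_)
  rw [map_zero]
  refine Eq.trans ?_ h0
  exact congrArg (fun ψ => ψ r) (congrArg AddCommGrpCat.Hom.hom (φ.hom.naturality g.op))

/-- The functor of sections with proper support is left exact. -/
instance preservesFiniteLimits_shriekSheaf : PreservesFiniteLimits (shriekSheaf f) := by
  rw [Functor.preservesFiniteLimits_iff_forall_exact_map_and_mono]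
  intro S hS
  have := hS.mono_f
  constructor
  · apply Groth.Agent.CurvesA.ArtinSchreier.exact_of_local
    intro U s hs x
    have hs' : S.g.hom.app (op ((EtCoh.bc f).obj U)) (s : shriekSubgroup f S.X₂ U).1 = 0 :=
      congrArg Subtype.val hs
    obtain ⟨r, hr⟩ := sections_exact S hS.exact ((EtCoh.bc f).obj U) _ hs'
    have hmem : r ∈ shriekSubgroup f S.X₁ U := by
      rw [Supp.mem_shriekSubgroup_iff, sectSupp_of_mono S.f, hr]
      exact (Supp.mem_shriekSubgroup_iff S.X₂ f U _).1 (s : shriekSubgroup f S.X₂ U).2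
    refine ⟨U, 𝟙 U, ⟨x, rfl⟩, (⟨r, hmem⟩ : shriekSubgroup f S.X₁ U), ?_⟩
    have h1 : ((S.map (shriekSheaf f)).X₂.obj.map (𝟙 U : U ⟶ U).op) s = s := by
      rw [op_id, CategoryTheory.Functor.map_id]
      rfl
    refine Eq.trans ?_ h1.symm
    exact Subtype.ext hr
  · apply Groth.Agent.CurvesA.ArtinSchreier.mono_of_injective
    intro U s hs
    apply Subtype.ext
    apply injective_of_mono S.f ((EtCoh.bc f).obj U)
    exact (congrArg Subtype.val hs).trans (map_zero _).symm

/-- `f_!` is left exact. -/
theorem preservesFiniteLimits_lowerShriek : PreservesFiniteLimits (lowerShriek f) :=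
  preservesFiniteLimits_of_natIso (lowerShriekIso f).symm

end K556.ShriekLex
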