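import Groth.Agent.EtDl.K556.CertDef
import Groth.Agent.CalgA.RegBasic
import Groth.Agent.Ega4A.RegCrit
import Groth.Agent.CalgB.RegHom8

/-!
# Strict normal crossings families: formal properties
-/

set_option autoImplicit false
universe u

open IsLocalRing TensorProduct

namespace K556.SncAlg

open K556.CertDef

/-- `R` is regular if `R / t` and `R[1/t]` are and `t` is a nonzerodivisor. -/
theorem regLift {R : Type u} [CommRing R] [IsNoetherianRing R] (t : R) (ht : ∀ a, t * a = 0 → a = 0)
    [h1 : IsRegularRing (R ⧸ Ideal.span {t})] (R' : Type u) [CommRing R'] [Algebra R R']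
    [IsLocalization.Away t R'] [h2 : IsRegularRing R'] : IsRegularRing R := by
  have ht' : t ∈ nonZeroDivisors R := mem_nonZeroDivisors_iff_right.2 fun a ha => ht a (by rwa [mul_comm])
  rw [isRegularRing_iff]
  intro q hq
  by_cases htq : t ∈ q
  · have hle : Ideal.span {t} ≤ q := by rwa [Ideal.span_singleton_le_iff_mem]
    let q' : Ideal (R ⧸ Ideal.span {t}) := q.map (Ideal.Quotient.mk _)
    have hq' : q'.comap (Ideal.Quotient.mk _) = q := by
      rw [Ideal.comap_map_of_surjective _ Ideal.Quotient.mk_surjective, ← RingHom.ker_eq_comap_bot,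
        Ideal.mk_ker, sup_eq_left]
      exact hle
    have hprime : q'.IsPrime := Ideal.map_isPrime_of_surjective Ideal.Quotient.mk_surjective
      (by rw [Ideal.mk_ker]; exact hle)
    have h1 := Groth.Agent.Ega4A.RegCrit.isRegularLocalRing_quotient_map (Ideal.span {t}) q hle q' hq'
    have h2 : (Ideal.span {t}).map (algebraMap R (Localization.AtPrime q)) =
        Ideal.span {algebraMap R (Localization.AtPrime q) t} := by
      rw [Ideal.map_span, Set.image_singleton]
    rw [h2] at h1
    refine Groth.Agent.CalgA.RegBasic.of_quotient (algebraMap R (Localization.AtPrime q) t) ?_ ?_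
    · rw [← IsLocalization.AtPrime.to_map_mem_maximal_iff (Localization.AtPrime q) q] at htq
      exact htq
    · exact IsLocalization.map_nonZeroDivisors_le q.primeCompl (Localization.AtPrime q) ⟨t, ht', rfl⟩
  · -- `R_q` is a localization of `R'`
    have hdisj : Disjoint (Submonoid.powers t : Set R) q := by
      rw [Set.disjoint_left]
      rintro _ ⟨n, rfl⟩ hx
      exact htq (hq.mem_of_pow_mem n hx)
    let Q : Ideal R' := q.map (algebraMap R R')
    have hQ : Q.IsPrime := IsLocalization.isPrime_of_isPrime_disjoint (Submonoid.powers t) R' q hq hdisj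
    have hQc : Q.comap (algebraMap R R') = q :=
      IsLocalization.under_map_of_isPrime_disjoint (Submonoid.powers t) R' hq hdisj
    have := h2.isRegularLocalRing_localization Q
    have h3 : IsLocalization.AtPrime (Localization.AtPrime Q) (Q.comap (algebraMap R R')) :=
      IsLocalization.isLocalization_isLocalization_atPrime_isLocalization (Submonoid.powers t) _ Q
    have key : ∀ (p : Ideal R) (_ : p.IsPrime), p = q → IsLocalization.AtPrime (Localization.AtPrime Q) p →
        IsLocalization.AtPrime (Localization.AtPrime Q) q := by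
      rintro p hp rfl h; exact h
    have h4 := key _ inferInstance hQc h3
    exact IsRegularLocalRing.of_ringEquiv
      (IsLocalization.algEquiv q.primeCompl (Localization.AtPrime Q) (Localization.AtPrime q)).toRingEquiv

theorem isRegularRing_of_subsingleton (R : Type u) [CommRing R] [Subsingleton R] : IsRegularRing R := by
  rw [isRegularRing_iff]
  intro p hp
  exact absurd (Subsingleton.elim p ⊤) hp.ne_top

variable {ι κ : Type} {R : Type u} [CommRing R]

theorem SNC.isRegularRing {z : ι → R} (h : SNC R z) : IsRegularRing R := by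
  have h1 := h.reg ∅
  rw [Set.image_empty, Ideal.span_empty] at h1
  exact IsRegularRing.of_ringEquiv (RingEquiv.quotientBot R)

theorem SNC.of_ringEquiv {z : ι → R} (h : SNC R z) {R' : Type u} [CommRing R'] (e : R ≃+* R') :
    SNC R' (fun i => e (z i)) := by
  have key : ∀ J : Set ι, (Ideal.span (z '' J)).map (e : R →+* R') = Ideal.span ((fun i => e (z i)) '' J) := by
    intro J
    rw [Ideal.map_span, ← Set.image_comp]
    rfl
  refine ⟨fun J => ?_, fun J i hi a ha => ?_⟩
  · have := h.reg J
    exact IsRegularRing.of_ringEquiv (Ideal.quotientEquiv _ _ e (key J).symm)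
  · rw [← key, Ideal.map_comap_of_equiv, Ideal.mem_comap] at ha ⊢
    have h1 : e.symm (e (z i) * a) = z i * e.symm a := by rw [map_mul, e.symm_apply_apply]
    change e.symm (e (z i) * a) ∈ _ at ha
    rw [h1] at ha
    exact h.inj J i hi _ ha

theorem SNC.congr {z z' : ι → R} (h : SNC R z) (hz : ∀ i, z i = z' i) : SNC R z' := by
  obtain rfl : z = z' := funext hz
  exact h

/-- Multiplication by units. -/
theorem SNC.units {z z' : ι → R} (h : SNC R z) (hz : ∀ i, Associated (z i) (z' i)) : SNC R z' := by
  have key : ∀ J : Set ι, Ideal.span (z '' J) = Ideal.span (z' '' J) := by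
    intro J
    apply le_antisymm
    · rw [Ideal.span_le]
      rintro _ ⟨i, hi, rfl⟩
      obtain ⟨u, hu⟩ := (hz i).symm
      rw [← hu]
      exact Ideal.mul_mem_right _ _ (Ideal.subset_span ⟨i, hi, rfl⟩)
    · rw [Ideal.span_le]
      rintro _ ⟨i, hi, rfl⟩
      obtain ⟨u, hu⟩ := hz i
      rw [← hu]
      exact Ideal.mul_mem_right _ _ (Ideal.subset_span ⟨i, hi, rfl⟩)
  refine ⟨fun J => ?_, fun J i hi a ha => ?_⟩
  · rw [← key]; exact h.reg J
  · rw [← key] at ha ⊢
    obtain ⟨u, hu⟩ := (hz i).symm
    refine h.inj J i hi a ?_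
    rw [← hu, mul_right_comm]
    exact Ideal.mul_mem_right _ _ ha

/-- Subfamilies. -/
theorem SNC.comp {z : ι → R} (h : SNC R z) (f : κ → ι) (hf : Function.Injective f) : SNC R (z ∘ f) := by
  refine ⟨fun J => ?_, fun J i hi a ha => ?_⟩
  · rw [Set.image_comp]; exact h.reg _
  · rw [Set.image_comp] at ha ⊢
    refine h.inj (f '' J) (f i) ?_ a ha
    rintro ⟨j, hj, hji⟩
    exact hi (hf hji ▸ hj)

/-- The quotient by the coordinate `none`. -/
theorem SNC.quotient {z : Option ι → R} (h : SNC R z) {R' : Type u} [CommRing R'] (φ : R →+* R')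
    (hφ : Function.Surjective φ) (hker : RingHom.ker φ = Ideal.span {z none}) :
    SNC R' (fun i : ι => φ (z (some i))) := by
  have key : ∀ J : Set ι, (Ideal.span ((fun i : ι => φ (z (some i))) '' J)).comap φ =
      Ideal.span (z '' (insert none (some '' J))) := by
    intro J
    have h1 : Ideal.span ((fun i : ι => φ (z (some i))) '' J) = (Ideal.span (z '' (some '' J))).map φ := by
      rw [Ideal.map_span, ← Set.image_comp, ← Set.image_comp]; rfl
    rw [h1, Ideal.comap_map_of_surjective _ hφ, ← RingHom.ker_eq_comap_bot, hker, Set.image_insert_eq,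
      Set.insert_eq, Ideal.span_union, sup_comm]
  refine ⟨fun J => ?_, fun J i hi a ha => ?_⟩
  · have h1 := h.reg (insert none (some '' J))
    rw [← key] at h1
    have h2 : RingHom.ker ((Ideal.Quotient.mk (Ideal.span ((fun i : ι => φ (z (some i))) '' J))).comp φ) =
        (Ideal.span ((fun i : ι => φ (z (some i))) '' J)).comap φ := by
      rw [← RingHom.comap_ker, Ideal.mk_ker]
    exact IsRegularRing.of_ringEquiv ((Ideal.quotEquivOfEq h2.symm).trans
      (RingHom.quotientKerEquivOfSurjective (Ideal.Quotient.mk_surjective.comp hφ)))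
  · obtain ⟨b, rfl⟩ := hφ a
    rw [← map_mul, ← Ideal.mem_comap, key] at ha
    rw [← Ideal.mem_comap, key]
    refine h.inj _ (some i) ?_ b ha
    rintro (h1 | ⟨j, hj, hji⟩)
    · exact Option.some_ne_none i h1
    · exact hi (Option.some_injective _ hji ▸ hj)

/-- A regular homomorphism from a regular ring has regular target. -/
theorem isRegularRing_of_isRegularHom {A B : Type u} [CommRing A] [CommRing B] [Algebra A B] [IsRegularRing A]
    [IsNoetherianRing B] (h : CAlg.IsRegularHom A B) : IsRegularRing B := by
  have : Module.Flat A B := h.1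
  refine Groth.Agent.CalgB.RegHom1.isRegularRing_of_flat_of_fiber (A := A) fun p hp => ?_
  exact Groth.Agent.CalgB.RegHom6.FieldFib.of_isRegularHom h p.ResidueField inferInstance

/-- Regular homomorphisms. -/
theorem SNC.map {z : ι → R} (h : SNC R z) {R' : Type u} [CommRing R'] [IsNoetherianRing R'] [Algebra R R']
    (hreg : CAlg.IsRegularHom R R') : SNC R' (fun i => algebraMap R R' (z i)) := by
  have hflat : Module.Flat R R' := hreg.1
  have key : ∀ J : Set ι, Ideal.span ((fun i => algebraMap R R' (z i)) '' J) =
      (Ideal.span (z '' J)).map (algebraMap R R') := by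
    intro J
    rw [Ideal.map_span, ← Set.image_comp]
    rfl
  refine ⟨fun J => ?_, fun J i hi a ha => ?_⟩
  · rw [key]
    have h1 := h.reg J
    have h2 : CAlg.IsRegularHom (R ⧸ Ideal.span (z '' J)) ((R ⧸ Ideal.span (z '' J)) ⊗[R] R') :=
      Groth.Agent.CalgB.RegHom6.isRegularHom_baseChange _ hreg
    let e := (Algebra.TensorProduct.quotIdealMapEquivQuotTensor R' (Ideal.span (z '' J))).toRingEquiv
    have h3 : IsNoetherianRing ((R ⧸ Ideal.span (z '' J)) ⊗[R] R') := isNoetherianRing_of_ringEquiv _ e
    have h4 := isRegularRing_of_isRegularHom h2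
    exact IsRegularRing.of_ringEquiv e.symm
  · rw [key] at ha ⊢
    let I := Ideal.span (z '' J)
    let m : (R ⧸ I) →ₗ[R] (R ⧸ I) := LinearMap.lsmul R (R ⧸ I) (z i)
    have hm : Function.Injective m := by
      rw [injective_iff_map_eq_zero]
      intro b hb
      obtain ⟨c, rfl⟩ := Ideal.Quotient.mk_surjective b
      have hb' : Ideal.Quotient.mk I (z i * c) = 0 := hb
      rw [Ideal.Quotient.eq_zero_iff_mem] at hb' ⊢
      exact h.inj J i hi c hb'
    have h1 := Module.Flat.rTensor_preserves_injective_linearMap (M := R') m hm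
    let e := Algebra.TensorProduct.quotIdealMapEquivQuotTensor R' I
    have h2 : e (Ideal.Quotient.mk _ (algebraMap R R' (z i) * a)) = 0 := by
      rw [Ideal.Quotient.eq_zero_iff_mem.2 ha, map_zero]
    have h3 : LinearMap.rTensor R' m (e (Ideal.Quotient.mk _ a)) =
        e (Ideal.Quotient.mk _ (algebraMap R R' (z i) * a)) := by
      have h4 : ∀ b : R', e (Ideal.Quotient.mk _ b) = (1 : R ⧸ I) ⊗ₜ[R] b := fun b => rfl
      rw [h4, h4, LinearMap.rTensor_tmul, ← Algebra.smul_def, ← TensorProduct.smul_tmul]
      rfl
    rw [h2] at h3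
    have h5 : e (Ideal.Quotient.mk _ a) = 0 := h1 (by rw [h3, map_zero])
    rw [← Ideal.Quotient.eq_zero_iff_mem]
    exact e.injective (by rw [h5, map_zero])

/-- Transport of regularity between quotients with the same kernel. -/
theorem isRegularRing_of_ker_eq {A : Type*} {B C : Type u} [CommRing A] [CommRing B] [CommRing C] (f : A →+* B)
    (g : A →+* C) (hf : Function.Surjective f) (hg : Function.Surjective g) (h : RingHom.ker f = RingHom.ker g)
    [IsRegularRing B] : IsRegularRing C :=
  IsRegularRing.of_ringEquiv (((RingHom.quotientKerEquivOfSurjective hf).symm.trans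
    (Ideal.quotEquivOfEq h)).trans (RingHom.quotientKerEquivOfSurjective hg))

/-- The inductive construction of strict normal crossings families. -/
theorem SNC.step [IsNoetherianRing R] (t : R) (z : ι → R)
    {R₀ : Type u} [CommRing R₀] (φ : R →+* R₀) (hφ : Function.Surjective φ) (hker : RingHom.ker φ = Ideal.span {t})
    (h0 : SNC R₀ (fun i => φ (z i)))
    {R₁ : Type u} [CommRing R₁] [Algebra R R₁] [IsLocalization.Away t R₁]
    (h1 : SNC R₁ (fun i => algebraMap R R₁ (z i)))
    (ht : ∀ (J : Set ι) (a : R), t * a ∈ Ideal.span (z '' J) → a ∈ Ideal.span (z '' J)) :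
    SNC R (fun o : Option ι => o.elim t z) := by
  have im : ∀ J : Set (Option ι), none ∉ J → (fun o : Option ι => o.elim t z) '' J = z '' (some ⁻¹' J) := by
    intro J hJ
    ext x
    constructor
    · rintro ⟨o, ho, rfl⟩
      match o, ho with
      | none, ho => exact absurd ho hJ
      | some i, ho => exact ⟨i, ho, rfl⟩
    · rintro ⟨i, hi, rfl⟩
      exact ⟨some i, hi, rfl⟩
  have im' : ∀ J : Set (Option ι), none ∈ J → Ideal.span ((fun o : Option ι => o.elim t z) '' J) =
      (Ideal.span ((fun i => φ (z i)) '' (some ⁻¹' J))).comap φ := by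
    intro J hJ
    have e1 : Ideal.span ((fun i => φ (z i)) '' (some ⁻¹' J)) = (Ideal.span (z '' (some ⁻¹' J))).map φ := by
      rw [Ideal.map_span, ← Set.image_comp]; rfl
    rw [e1, Ideal.comap_map_of_surjective _ hφ, ← RingHom.ker_eq_comap_bot, hker]
    apply le_antisymm
    · rw [Ideal.span_le]
      rintro _ ⟨o, ho, rfl⟩
      match o, ho with
      | none, ho => exact Ideal.mem_sup_right (Ideal.subset_span rfl)
      | some i, ho => exact Ideal.mem_sup_left (Ideal.subset_span ⟨i, ho, rfl⟩)
    · rw [sup_le_iff, Ideal.span_le, Ideal.span_le]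
      constructor
      · rintro _ ⟨i, hi, rfl⟩
        exact Ideal.subset_span ⟨some i, hi, rfl⟩
      · rintro _ rfl
        exact Ideal.subset_span ⟨none, hJ, rfl⟩
  -- the powers of `t`
  have htn : ∀ (J : Set ι) (n : ℕ) (a : R), t ^ n * a ∈ Ideal.span (z '' J) → a ∈ Ideal.span (z '' J) := by
    intro J n
    induction n with
    | zero => intro a ha; rwa [pow_zero, one_mul] at ha
    | succ n ih =>
      intro a ha
      rw [pow_succ, mul_assoc] at ha
      exact ht J a (ih _ ha)
  have hloc : ∀ (J : Set ι) (a : R), algebraMap R R₁ a ∈ Ideal.span ((fun i => algebraMap R R₁ (z i)) '' J) →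
      a ∈ Ideal.span (z '' J) := by
    intro J a ha
    have e1 : Ideal.span ((fun i => algebraMap R R₁ (z i)) '' J) = (Ideal.span (z '' J)).map (algebraMap R R₁) := by
      rw [Ideal.map_span, ← Set.image_comp]; rfl
    rw [e1, IsLocalization.algebraMap_mem_map_algebraMap_iff (Submonoid.powers t)] at ha
    obtain ⟨_, ⟨n, rfl⟩, hn⟩ := ha
    exact htn J n a hn
  refine ⟨fun J => ?_, fun J o ho a ha => ?_⟩
  · by_cases hJ : none ∈ J
    · rw [im' J hJ]
      have := h0.reg (some ⁻¹' J)
      have h2 : RingHom.ker ((Ideal.Quotient.mk (Ideal.span ((fun i => φ (z i)) '' (some ⁻¹' J)))).comp φ) =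
          (Ideal.span ((fun i => φ (z i)) '' (some ⁻¹' J))).comap φ := by
        rw [← RingHom.comap_ker, Ideal.mk_ker]
      exact IsRegularRing.of_ringEquiv ((Ideal.quotEquivOfEq h2.symm).trans
        (RingHom.quotientKerEquivOfSurjective (Ideal.Quotient.mk_surjective.comp hφ))).symm
    · rw [im J hJ]
      set J' : Set ι := some ⁻¹' J
      let Q := R ⧸ Ideal.span (z '' J')
      let I₁ : Ideal R₁ := (Ideal.span (z '' J')).map (algebraMap R R₁)
      have hI₁ : I₁ = Ideal.span ((fun i => algebraMap R R₁ (z i)) '' J') := by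
        change (Ideal.span (z '' J')).map (algebraMap R R₁) = _
        rw [Ideal.map_span, ← Set.image_comp]; rfl
      -- the localization
      have hreg1 : IsRegularRing (R₁ ⧸ I₁) := by rw [hI₁]; exact h1.reg J'
      have hl : IsLocalization.Away (Ideal.Quotient.mk (Ideal.span (z '' J')) t) (R₁ ⧸ I₁) := by
        have h2 : IsLocalization (Algebra.algebraMapSubmonoid (R ⧸ Ideal.span (z '' J')) (Submonoid.powers t))
          (R₁ ⧸ I₁) := inferInstance
        rwa [Algebra.algebraMapSubmonoid_powers] at h2
      -- the quotient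
      have hreg0 : IsRegularRing (Q ⧸ Ideal.span {(Ideal.Quotient.mk (Ideal.span (z '' J')) t : Q)}) := by
        have := h0.reg J'
        refine isRegularRing_of_ker_eq ((Ideal.Quotient.mk (Ideal.span ((fun i => φ (z i)) '' J'))).comp φ)
          ((Ideal.Quotient.mk (Ideal.span {(Ideal.Quotient.mk (Ideal.span (z '' J')) t : Q)})).comp
            (Ideal.Quotient.mk (Ideal.span (z '' J')))) (Ideal.Quotient.mk_surjective.comp hφ)
          (Ideal.Quotient.mk_surjective.comp Ideal.Quotient.mk_surjective) ?_
        have e1 : Ideal.span ((fun i => φ (z i)) '' J') = (Ideal.span (z '' J')).map φ := by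
          rw [Ideal.map_span, ← Set.image_comp]; rfl
        have e2 : Ideal.span {(Ideal.Quotient.mk (Ideal.span (z '' J')) t : Q)} =
            (Ideal.span {t}).map (Ideal.Quotient.mk (Ideal.span (z '' J'))) := by
          rw [Ideal.map_span, Set.image_singleton]
        rw [← RingHom.comap_ker, ← RingHom.comap_ker, Ideal.mk_ker, Ideal.mk_ker, e1, e2,
          Ideal.comap_map_of_surjective _ hφ, Ideal.comap_map_of_surjective _ Ideal.Quotient.mk_surjective,
          ← RingHom.ker_eq_comap_bot, ← RingHom.ker_eq_comap_bot, hker, Ideal.mk_ker, sup_comm]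
      refine regLift (Ideal.Quotient.mk (Ideal.span (z '' J')) t) ?_ (R₁ ⧸ I₁)
      intro a ha
      obtain ⟨b, rfl⟩ := Ideal.Quotient.mk_surjective a
      rw [← map_mul, Ideal.Quotient.eq_zero_iff_mem] at ha
      rw [Ideal.Quotient.eq_zero_iff_mem]
      exact ht J' b ha
  · by_cases hJ : none ∈ J
    · rw [im' J hJ, Ideal.mem_comap] at ha ⊢
      match o, ho with
      | none, ho => exact absurd hJ ho
      | some i, ho =>
        rw [map_mul] at ha
        exact h0.inj _ i ho _ ha
    · rw [im J hJ] at ha ⊢
      match o, ho with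
      | none, ho => exact ht _ a ha
      | some i, ho =>
        apply hloc
        refine h1.inj _ i ho _ ?_
        have := Ideal.mem_map_of_mem (algebraMap R R₁) ha
        rw [map_mul, Ideal.map_span, ← Set.image_comp] at this
        exact this

end K556.SncAlg
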