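import Groth.Agent.EtDl.K556.Mono
import Groth.Agent.EtDl.K852.KumDef
import Mathlib.AlgebraicGeometry.PullbackCarrier
import Mathlib.RingTheory.PolynomialAlgebra

/-!
# Certificates for the complement of a divisor finite and étale over the complement of the divisor of the base
-/

set_option autoImplicit false
universe u

open Polynomial CategoryTheory CategoryTheory.Limits AlgebraicGeometry TensorProduct

namespace K556.Split

open K556.CertDef K556.SncAlg K556.SncPoly K556.CertBasic K556.Tor K556.Univ K556.Game2 K556.Game1 K556.Mono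

theorem Res.of_etale_hom {R : Type u} [CommRing R] {f : R}
    (h : ∀ p : PrimeSpectrum R, ∃ (R' : Type u) (_ : CommRing R') (ψ : R →+* R'),
      Etale (Spec.map (CommRingCat.ofHom ψ)) ∧ (∃ q : PrimeSpectrum R', q.comap ψ = p) ∧ Res R' (ψ f)) : Res R f := by
  intro V hV
  refine Cert.of_etale_pointwise V fun p => ?_
  obtain ⟨R', _, ψ, h1, ⟨q, hq⟩, h2⟩ := h p
  exact ⟨Spec (CommRingCat.of R'), Spec.map (CommRingCat.ofHom ψ), h1, inferInstance, ⟨q, hq⟩,
    Res.of_pull hV _ h2⟩

theorem Res.of_finite_hom {R : Type u} [CommRing R] {f : R} {R' : Type u} [CommRing R'] (ψ : R →+* R')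
    (hfin : IsFinite (Spec.map (CommRingCat.ofHom ψ))) (hs : ∀ p : PrimeSpectrum R, ∃ q : PrimeSpectrum R', q.comap ψ = p)
    (h : Res R' (ψ f)) : Res R f := by
  intro V hV
  exact Cert.proper (k := 1) V (fun _ => _) (fun _ => Spec.map (CommRingCat.ofHom ψ)) (fun _ => inferInstance)
    (fun x _ => ⟨0, hs x⟩) (fun _ => Res.of_pull hV _ h)

theorem isPullback_poly {R R' : Type u} [CommRing R] [CommRing R'] (φ : R →+* R') :
    IsPullback (Spec.map (CommRingCat.ofHom (mapRingHom φ))) (Spec.map (CommRingCat.ofHom (C : R' →+* R'[X])))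
      (Spec.map (CommRingCat.ofHom (C : R →+* R[X]))) (Spec.map (CommRingCat.ofHom φ)) := by
  algebraize [φ, mapRingHom φ]
  exact (isPullback_SpecMap_of_isPushout _ _ _ _
    (CommRingCat.isPushout_of_isPushout R R' R[X] R'[X])).flip

theorem exists_poly {R R' : Type u} [CommRing R] [CommRing R'] (φ : R →+* R') (P : PrimeSpectrum R[X])
    (h : ∃ q : PrimeSpectrum R', q.comap φ = P.comap C) : ∃ Q : PrimeSpectrum R'[X], Q.comap (mapRingHom φ) = P := by
  obtain ⟨q, hq⟩ := h
  obtain ⟨Q, hQ, -⟩ := Scheme.exists_preimage_of_isPullback (isPullback_poly φ) P q hq.symm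
  exact ⟨Q, hQ⟩

theorem Res.of_etale_poly {R : Type u} [CommRing R] {f : R[X]}
    (h : ∀ p : PrimeSpectrum R, ∃ (R' : Type u) (_ : CommRing R') (φ : R →+* R'),
      Etale (Spec.map (CommRingCat.ofHom φ)) ∧ (∃ q : PrimeSpectrum R', q.comap φ = p) ∧ Res R'[X] (f.map φ)) :
    Res R[X] f := by
  refine Res.of_etale_hom fun P => ?_
  obtain ⟨R', _, φ, h1, h2, h3⟩ := h (P.comap C)
  exact ⟨R'[X], _, mapRingHom φ, MorphismProperty.of_isPullback (isPullback_poly φ).flip h1, exists_poly φ P h2, h3⟩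

theorem Res.of_finite_poly {R : Type u} [CommRing R] {f : R[X]} {R' : Type u} [CommRing R'] (φ : R →+* R')
    (hfin : IsFinite (Spec.map (CommRingCat.ofHom φ))) (hs : ∀ p : PrimeSpectrum R, ∃ q : PrimeSpectrum R', q.comap φ = p)
    (h : Res R'[X] (f.map φ)) : Res R[X] f :=
  Res.of_finite_hom (mapRingHom φ) (MorphismProperty.of_isPullback (isPullback_poly φ).flip hfin)
    (fun P => exists_poly φ P (hs _)) h

theorem Res.of_away_poly {R : Type u} [CommRing R] {f : R[X]}
    (h : ∀ p : PrimeSpectrum R, ∃ s : R, s ∉ p.asIdeal ∧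
      Res (Localization.Away s)[X] (f.map (algebraMap R (Localization.Away s)))) : Res R[X] f := by
  refine Res.of_etale_poly fun p => ?_
  obtain ⟨s, hs, h1⟩ := h p
  have h0 : IsOpenImmersion (Spec.map (CommRingCat.ofHom (algebraMap R (Localization.Away s)))) :=
    IsOpenImmersion.of_isLocalization s
  refine ⟨Localization.Away s, _, algebraMap R _, inferInstance, ?_, h1⟩
  have h3 := PrimeSpectrum.localization_away_comap_range (Localization.Away s) s
  have h4 : p ∈ Set.range (PrimeSpectrum.comap (algebraMap R (Localization.Away s))) := by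
    rw [h3]; exact hs
  exact h4

/-- Completely split polynomials. -/
theorem res_split' {R : Type u} [CommRing R] {ι κ : Type} [Fintype ι] [Fintype κ] {z : ι → R} (h : SNC R z)
    (σ : κ → R) (N : ℕ) (hσ : ∀ i j, i ≠ j → σ i - σ j ∣ (∏ i, z i) ^ N) : Res R[X] (fn z σ) :=
  res_split h σ N hσ Res.of_away_poly

open K852.KumDef

/-- Abhyankar splitting (proved in `K852.AbhD`). -/
def AbhHyp : Prop := ∀ {R : Type u} [CommRing R] {ι : Type} [Fintype ι] {z : ι → R}
    (_ : ∀ n : ℕ, 0 < n → IsUnit (n : R)) (_ : SNC R z) (E : Type u) [CommRing E]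
    [Algebra R E] [Module.Finite R E] [Algebra.Etale R (Localization.Away (algebraMap R E (∏ i, z i)))]
    (p : PrimeSpectrum R),
    ∃ (R' : Type u) (_ : CommRing R') (_ : Algebra R R') (_ : Algebra.Etale R R') (p' : PrimeSpectrum R')
      (_ : PrimeSpectrum.comap (algebraMap R R') p' = p) (n : ℕ) (_ : 1 ≤ n) (d : ℕ)
      (φ : Fin d → (R' ⊗[R] E →ₐ[R'] Kum (fun i => algebraMap R R' (z i)) n)),
      ∀ P : PrimeSpectrum (R' ⊗[R] E), algebraMap R (R' ⊗[R] E) (∏ i, z i) ∉ P.asIdeal →
        ∃ (j : Fin d) (Q : PrimeSpectrum (Kum (fun i => algebraMap R R' (z i)) n)),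
          PrimeSpectrum.comap (φ j).toRingHom Q = P

/-- Kummer algebras have strict normal crossings. -/
def KumHyp : Prop := ∀ {R : Type u} [CommRing R] {ι : Type} [Fintype ι] {z : ι → R} (n : ℕ) (_ : 1 ≤ n)
    (_ : ∀ n : ℕ, 0 < n → IsUnit (n : R)) (_ : SNC R z), SNC (Kum z n) (T z n)

/-- `Spec` of a Kummer algebra is surjective. -/
theorem kum_surjective {R : Type u} [CommRing R] {ι : Type} (z : ι → R) (n : ℕ) (hn : 1 ≤ n)
    (p : PrimeSpectrum R) : ∃ q : PrimeSpectrum (Kum z n), q.comap (algebraMap R (Kum z n)) = p := by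
  let κ := p.asIdeal.ResidueField
  let Ω := AlgebraicClosure κ
  let _ : Algebra R Ω := ((algebraMap κ Ω).comp (algebraMap R κ)).toAlgebra
  have ht : ∀ i, ∃ t : Ω, t ^ n = algebraMap R Ω (z i) := fun i => IsAlgClosed.exists_pow_nat_eq _ (by omega)
  choose t ht using ht
  let f : Kum z n →ₐ[R] Ω := lift z n t ht
  refine ⟨⟨RingHom.ker f.toRingHom, RingHom.ker_isPrime _⟩, ?_⟩
  apply PrimeSpectrum.ext
  ext r
  change f (algebraMap R _ r) = 0 ↔ r ∈ p.asIdeal
  rw [f.commutes]
  change algebraMap κ Ω (algebraMap R κ r) = 0 ↔ _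
  rw [map_eq_zero, Ideal.algebraMap_residueField_eq_zero]

/-- The separability condition over the complement of the divisor. -/
def Sep {R : Type u} [CommRing R] {ι : Type} [Fintype ι] (z : ι → R) (w : R[X]) : Prop :=
  ∃ (N : ℕ) (p₁ p₂ : R[X]), derivative w * p₁ + w * p₂ = C ((∏ i, z i) ^ N)

theorem Sep.of_mul {R : Type u} [CommRing R] {ι : Type} [Fintype ι] {z : ι → R} {w v : R[X]} (h : Sep z (w * v)) :
    Sep z w := by
  obtain ⟨N, p₁, p₂, h⟩ := h
  refine ⟨N, v * p₁, derivative v * p₁ + v * p₂, ?_⟩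
  rw [← h, derivative_mul]
  ring

theorem Sep.map {R R' : Type u} [CommRing R] [CommRing R'] {ι : Type} [Fintype ι] {z : ι → R} {w : R[X]}
    (h : Sep z w) (φ : R →+* R') : Sep (fun i => φ (z i)) (w.map φ) := by
  obtain ⟨N, p₁, p₂, h⟩ := h
  refine ⟨N, p₁.map φ, p₂.map φ, ?_⟩
  rw [derivative_map, ← Polynomial.map_mul, ← Polynomial.map_mul, ← Polynomial.map_add, h, map_C, map_pow, map_prod]

/-- The standard étale pair. -/
noncomputable def sepPair {R : Type u} [CommRing R] (w : R[X]) (hw : w.Monic) (g : R)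
    (h : ∃ (N : ℕ) (p₁ p₂ : R[X]), derivative w * p₁ + w * p₂ = C (g ^ N)) : StandardEtalePair R where
  f := w
  monic_f := hw
  g := C g
  cond := by
    obtain ⟨N, p₁, p₂, h⟩ := h
    exact ⟨p₁, p₂, N, by rw [h, C_pow]⟩

theorem sep_etale {R : Type u} [CommRing R] {w : R[X]} (hw : w.Monic) {g : R}
    (h : ∃ (N : ℕ) (p₁ p₂ : R[X]), derivative w * p₁ + w * p₂ = C (g ^ N)) :
    Algebra.Etale R (Localization.Away (algebraMap R (AdjoinRoot w) g)) :=
  Algebra.Etale.of_equiv (sepPair w hw g h).equivAwayAdjoinRoot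

theorem dvd_of_sep {R : Type u} [CommRing R] {ι κ : Type} [Fintype ι] [Fintype κ] {z : ι → R} {σ : κ → R}
    (h : Sep z (∏ i, (X - C (σ i)))) : ∃ N, ∀ i j, i ≠ j → σ i - σ j ∣ (∏ i, z i) ^ N := by
  classical
  obtain ⟨N, p₁, p₂, h⟩ := h
  refine ⟨N, fun i j hij => ?_⟩
  have hj : j ∈ Finset.univ.erase i := Finset.mem_erase.2 ⟨hij.symm, Finset.mem_univ j⟩
  rw [← Finset.mul_prod_erase Finset.univ (fun i => X - C (σ i)) (Finset.mem_univ i),
    ← Finset.mul_prod_erase _ (fun i => X - C (σ i)) hj] at h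
  have h1 := congrArg (Polynomial.eval (σ i)) h
  simp only [derivative_mul, derivative_sub, derivative_X, derivative_C, eval_add, eval_mul, eval_sub, eval_X,
    eval_C, sub_self, sub_zero, zero_mul, one_mul, add_zero] at h1
  exact ⟨_, by rw [← h1, mul_assoc]⟩

theorem res_sep (hAbh : AbhHyp.{u}) (hKum : KumHyp.{u}) {ι : Type} [Fintype ι] (d : ℕ) :
    ∀ {R : Type u} [CommRing R] {z : ι → R} (_ : ∀ n : ℕ, 0 < n → IsUnit (n : R)) (_ : SNC R z)
    {κ : Type} [Fintype κ] (σ : κ → R) (w : R[X]) (_ : w.Monic) (_ : w.natDegree = d)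
    (_ : Sep z (w * ∏ i, (X - C (σ i)))), Res R[X] (w * fn z σ) := by
  induction d with
  | zero =>
    intro R _ z hQ h κ _ σ w hw hd hsep
    obtain rfl : w = 1 := eq_one_of_monic_natDegree_zero hw hd
    rw [one_mul] at hsep ⊢
    obtain ⟨N, hN⟩ := dvd_of_sep hsep
    exact res_split' h σ N hN
  | succ d ih =>
    intro R _ z hQ h κ _ σ w hw hd hsep
    refine Res.of_etale_poly fun p => ?_
    have hRnt : Nontrivial R := ⟨0, 1, fun h01 => p.2.ne_top ((Ideal.eq_top_iff_one _).2 (h01 ▸ Ideal.zero_mem _))⟩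
    let E := AdjoinRoot w
    have hfin : Module.Finite R E := hw.finite_adjoinRoot
    have het : Algebra.Etale R (Localization.Away (algebraMap R E (∏ i, z i))) := sep_etale hw hsep.of_mul
    obtain ⟨R', _, _, hR', p', hp', n, hn, m, φ, hφ⟩ := hAbh hQ h E p
    have hQ' : ∀ n : ℕ, 0 < n → IsUnit (n : R') := fun n hn => by
      have := (hQ n hn).map (algebraMap R R')
      rwa [map_natCast] at this
    set z' : ι → R' := fun i => algebraMap R R' (z i) with hz'
    have h' : SNC R' z' := SNC.smooth h R'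
    -- a root exists
    obtain ⟨j⟩ : Nonempty (Fin m) := by
      have hnz : ∏ i, z' i ∈ nonZeroDivisors R' := by
        refine prod_mem fun k _ => ?_
        rw [mem_nonZeroDivisors_iff_right]
        intro x hx
        have := h'.inj ∅ k (Set.notMem_empty k) x (by rw [mul_comm, hx]; exact Ideal.zero_mem _)
        simpa using this
      obtain ⟨𝔮, h𝔮, h𝔮p⟩ := Ideal.exists_minimalPrimes_le (bot_le : ⊥ ≤ p'.asIdeal)
      have h𝔮' : 𝔮.IsPrime := h𝔮.1.1
      have h𝔮z : ∏ i, z' i ∉ 𝔮 := fun hmem =>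
        Set.disjoint_left.1 (Ideal.disjoint_nonZeroDivisors_of_mem_minimalPrimes h𝔮) hmem hnz
      obtain ⟨Ω, _, _, g, hg⟩ : ∃ (Ω : Type u) (_ : Field Ω) (_ : IsAlgClosed Ω) (g : R' →+* Ω),
          ∀ r, g r = 0 ↔ r ∈ 𝔮 := by
        refine ⟨AlgebraicClosure 𝔮.ResidueField, inferInstance, inferInstance,
          (algebraMap 𝔮.ResidueField _).comp (algebraMap R' 𝔮.ResidueField), fun r => ?_⟩
        change algebraMap 𝔮.ResidueField _ (algebraMap R' 𝔮.ResidueField r) = 0 ↔ _
        rw [map_eq_zero, Ideal.algebraMap_residueField_eq_zero]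
      let _ : Algebra R' Ω := g.toAlgebra
      let _ : Algebra R Ω := (g.comp (algebraMap R R')).toAlgebra
      have : IsScalarTower R R' Ω := IsScalarTower.of_algebraMap_eq fun r => rfl
      obtain ⟨t, ht⟩ := IsAlgClosed.exists_root (w.map (algebraMap R Ω)) (by
        rw [hw.degree_map, degree_eq_natDegree hw.ne_zero, hd]
        exact_mod_cast Nat.succ_ne_zero d)
      let f₁ : E →ₐ[R] Ω := AdjoinRoot.liftAlgHom w (Algebra.ofId R Ω) t (by
        rw [IsRoot.def, eval_map] at ht
        exact ht)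
      let f : R' ⊗[R] E →ₐ[R'] Ω := Algebra.TensorProduct.lift (Algebra.ofId R' Ω) f₁ (fun _ _ => Commute.all _ _)
      let P : PrimeSpectrum (R' ⊗[R] E) := ⟨RingHom.ker f.toRingHom, RingHom.ker_isPrime _⟩
      obtain ⟨j, -⟩ := hφ P (fun hmem => by
        apply h𝔮z
        rw [← hg]
        have h1 : f (algebraMap R _ (∏ i, z i)) = 0 := hmem
        rw [IsScalarTower.algebraMap_apply R R' (R' ⊗[R] E), f.commutes, map_prod] at h1
        exact h1)
      exact ⟨j⟩
    let L := Kum z' n
    have hL : SNC L (T z' n) := hKum n hn hQ' h'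
    have hQL : ∀ n : ℕ, 0 < n → IsUnit (n : L) := fun n hn => by
      have := (hQ' n hn).map (algebraMap R' L)
      rwa [map_natCast] at this
    let ψ : R →+* L := (algebraMap R' L).comp (algebraMap R R')
    let σ₀ : L := φ j (1 ⊗ₜ AdjoinRoot.root w)
    have hroot : IsRoot (w.map ψ) σ₀ := by
      rw [IsRoot.def, eval_map]
      have e1 : ψ = ((φ j).toRingHom.comp (Algebra.TensorProduct.includeRight : E →ₐ[R] R' ⊗[R] E).toRingHom).comp
          (algebraMap R E) := by
        ext r
        change algebraMap R' L (algebraMap R R' r) = φ j ((1 : R') ⊗ₜ algebraMap R E r)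
        rw [← (φ j).commutes]
        congr 1
        rw [Algebra.TensorProduct.algebraMap_apply, Algebra.algebraMap_self, RingHom.id_apply,
          Algebra.algebraMap_eq_smul_one, Algebra.algebraMap_eq_smul_one, TensorProduct.smul_tmul]
      rw [e1]
      change eval₂ _ (((φ j).toRingHom.comp (Algebra.TensorProduct.includeRight : E →ₐ[R] R' ⊗[R] E).toRingHom)
        (AdjoinRoot.root w)) w = 0
      rw [← Polynomial.hom_eval₂]
      have e2 : eval₂ (algebraMap R E) (AdjoinRoot.root w) w = 0 := AdjoinRoot.eval₂_root w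
      rw [e2, map_zero]
    -- the other factor
    let w' : L[X] := (w.map ψ) /ₘ (X - C σ₀)
    have hww' : (X - C σ₀) * w' = w.map ψ := mul_divByMonic_eq_iff_isRoot.2 hroot
    have hw' : w'.Monic := (monic_X_sub_C σ₀).of_mul_monic_left (by rw [hww']; exact hw.map ψ)
    have hnt : Nontrivial L := by
      obtain ⟨q, -⟩ := kum_surjective z' n hn p'
      exact ⟨0, 1, fun h01 => q.2.ne_top ((Ideal.eq_top_iff_one _).2 (h01 ▸ Ideal.zero_mem _))⟩
    have hd' : w'.natDegree = d := by
      have e1 := congrArg natDegree hww'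
      rw [(monic_X_sub_C σ₀).natDegree_mul hw', natDegree_X_sub_C, hw.natDegree_map, hd] at e1
      omega
    let σ' : Option κ → L := fun o => o.elim σ₀ (fun i => ψ (σ i))
    have hTz : ∀ i, ψ (z i) = T z' n i ^ n := fun i => (T_pow z' n i).symm
    have hprod : ∏ o, (X - C (σ' o)) = (X - C σ₀) * ∏ i, (X - C (ψ (σ i))) := by
      rw [Fintype.prod_option]
      rfl
    have hsep' : Sep (T z' n) (w' * ∏ o, (X - C (σ' o))) := by
      obtain ⟨N, p₁, p₂, hN⟩ := hsep.map ψ
      refine ⟨n * N, p₁, p₂, ?_⟩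
      have e1 : (w * ∏ i, (X - C (σ i))).map ψ = w' * ∏ o, (X - C (σ' o)) := by
        rw [Polynomial.map_mul, Polynomial.map_prod, ← hww', hprod]
        simp only [Polynomial.map_sub, map_X, map_C]
        ring
      rw [e1] at hN
      rw [hN]
      congr 1
      simp only [hTz]
      rw [Finset.prod_pow, pow_mul]
    have key := ih hQL hL σ' w' hw' hd' hsep'
    -- descent
    refine ⟨R', _, algebraMap R R', ?_, ⟨p', hp'⟩, ?_⟩
    · rw [HasRingHomProperty.Spec_iff (P := @Etale)]
      exact RingHom.etale_algebraMap.2 hR'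
    · have hLfin : Module.Finite R' L := K852.KumDef.finite z' n hn
      refine Res.of_finite_poly (algebraMap R' L) ?_ (kum_surjective z' n hn) ?_
      · rw [IsFinite.SpecMap_iff]
        exact RingHom.finite_algebraMap.2 hLfin
      · rw [Polynomial.map_map]
        refine Res.mono key fun P hP => ?_
        have hP' : (w * fn z σ).map ψ ∈ P.asIdeal := hP
        rw [Polynomial.map_mul, ← hww'] at hP'
        rcases P.2.mem_or_mem hP' with hP' | hP'
        · rcases P.2.mem_or_mem hP' with hP' | hP'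
          · refine Ideal.mul_mem_left _ _ ?_
            have : RingHom.id _ (fn (T z' n) σ') ∈ P.asIdeal := by
              rw [fn_mem]
              exact Or.inl ⟨none, hP'⟩
            exact this
          · exact Ideal.mul_mem_right _ _ hP'
        · refine Ideal.mul_mem_left _ _ ?_
          have hP'' : mapRingHom ψ (fn z σ) ∈ P.asIdeal := hP'
          have : RingHom.id _ (fn (T z' n) σ') ∈ P.asIdeal := by
            rw [fn_mem] at hP'' ⊢
            rcases hP'' with ⟨i, hi⟩ | ⟨k, hk⟩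
            · rw [coe_mapRingHom, map_X, map_C] at hi
              exact Or.inl ⟨some i, hi⟩
            · rw [coe_mapRingHom, map_C, hTz, C_pow] at hk
              exact Or.inr ⟨k, P.2.mem_of_pow_mem _ hk⟩
          exact this

end K556.Split
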