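import Groth.Agent.EtDl.K119.Spread
import Groth.Agent.EtDl.K555.FinAsm

/-!
# Spreading out of certificates over excellent rings
-/

set_option autoImplicit false
universe u

open CategoryTheory CategoryTheory.Limits AlgebraicGeometry

namespace K556.SpreadFin

open K556.CertDef K556.GoodDef K555.FinAsm

theorem spreadCert : SpreadCert.{u} := by
  intro B _ _ _ hB O _ _ _ _ _ hreg U V0 hne hV0 hcert
  have hexc := hB.isExcellent_of_spec
  have hNr : IsNoetherianRing B := hexc.1
  obtain ⟨S1, p, t, V1, h1, h2, h3, h4, h5, h6⟩ := K119.Spread.spread hexc.2.2.2 hreg U V0 hV0 hcert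
  exact ⟨S1, p, t, V1, h1, h2, h3, h4, by rw [h5]; exact hne, h6⟩

end K556.SpreadFin
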