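import Groth.Agent.Etrest.ShriekComp

/-!
# The inclusion `f_! ⟶ f_*` through the sheaf of sections with proper support
-/

set_option autoImplicit false
universe u
open CategoryTheory CategoryTheory.Limits AlgebraicGeometry Opposite

namespace K556.ToPush

open Groth.Agent.Etrest.ShriekComp EtShriek

variable {X Y : Scheme.{u}}

/-- The inclusion of the sheaf of sections with proper support into `f_*`. -/
noncomputable def incl (f : X ⟶ Y) [LocallyOfFiniteType f] : shriekSheaf f ⟶ EtCoh.push f where
  app F := ⟨lowerShriekPreι f F⟩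
  naturality F G α := by
    apply Sheaf.hom_ext
    rfl

theorem incl_app_apply (f : X ⟶ Y) [LocallyOfFiniteType f] (F : EtCoh.Ab X) (V : Y.Etale)
    (s : shriekSubgroup f F V) : ((incl f).app F).hom.app (op V) s = s.1 := rfl

/-- Compatibility of `lowerShriekIso` with the maps to `f_*`. -/
theorem lowerShriekIso_hom_comp (f : X ⟶ Y) [LocallyOfFiniteType f] (F : EtCoh.Ab X) :
    (lowerShriekIso f).hom.app F ≫ (incl f).app F = lowerShriekToPush f F := by
  have h1 : (lowerShriekIso f).hom.app F =
      (sheafificationAdjunction Y.smallEtaleTopology AddCommGrpCat.{u + 1}).counit.app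
        ((shriekSheaf f).obj F) := by
    change (sheafificationAdjunction Y.smallEtaleTopology AddCommGrpCat.{u + 1}).counit.app
        ((shriekSheaf f).obj F) ≫ 𝟙 _ = _
    rw [Category.comp_id]
  rw [h1]
  refine Eq.symm ?_
  refine ((sheafificationAdjunction Y.smallEtaleTopology AddCommGrpCat.{u + 1}).homEquiv_counit
    (lowerShriekPre f F) ((EtCoh.push f).obj F) (lowerShriekPreι f F)).trans ?_
  exact ((sheafificationAdjunction Y.smallEtaleTopology AddCommGrpCat.{u + 1}).counit.naturality
    ((incl f).app F))

instance mono_incl (f : X ⟶ Y) [LocallyOfFiniteType f] (F : EtCoh.Ab X) : Mono ((incl f).app F) := by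
  constructor
  intro G a b h
  apply Sheaf.hom_ext
  ext V t
  have := congrArg (fun z : G ⟶ (EtCoh.push f).obj F => z.hom.app V t) h
  exact Subtype.ext this

/-- The inclusion `f_! F ⟶ f_* F` is a monomorphism. -/
instance mono_lowerShriekToPush (f : X ⟶ Y) [LocallyOfFiniteType f] (F : EtCoh.Ab X) :
    Mono (lowerShriekToPush f F) := by
  rw [← lowerShriekIso_hom_comp]
  infer_instance

/-- Naturality of `f_! F ⟶ f_* F`. -/
theorem lowerShriekToPush_naturality (f : X ⟶ Y) [LocallyOfFiniteType f] {F G : EtCoh.Ab X}
    (α : F ⟶ G) : (lowerShriek f).map α ≫ lowerShriekToPush f G =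
      lowerShriekToPush f F ≫ (EtCoh.push f).map α := by
  rw [← lowerShriekIso_hom_comp, ← lowerShriekIso_hom_comp, ← Category.assoc]
  rw [(lowerShriekIso f).hom.naturality α, Category.assoc, Category.assoc, (incl f).naturality α]

end K556.ToPush
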