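import Groth.Agent.EtDl.K556.Tor

/-!
# Universal pairs of elements and the charts of modifications of the affine line
-/

set_option autoImplicit false
universe u

open Polynomial

namespace K556.Univ

open K556.CertDef K556.SncAlg K556.SncPoly K556.CertBasic K556.Tor

/-- `(Q, x, y)` is universal among algebras with a pair of elements satisfying `P`. -/
structure Univ2 (R : Type u) [CommRing R] (P : ∀ (B : Type u) [CommRing B] [Algebra R B], B → B → Prop)
    (Q : Type u) [CommRing Q] [Algebra R Q] (x y : Q) : Prop where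
  mem : P Q x y
  lift : ∀ (B : Type u) [CommRing B] [Algebra R B] (t s : B), P B t s → ∃ φ : Q →ₐ[R] B, φ x = t ∧ φ y = s
  ext : ∀ (B : Type u) [CommRing B] [Algebra R B] (φ ψ : Q →ₐ[R] B), φ x = ψ x → φ y = ψ y → φ = ψ

variable {R : Type u} [CommRing R]

theorem Univ2.exists_equiv {P P' : ∀ (B : Type u) [CommRing B] [Algebra R B], B → B → Prop}
    {Q Q' : Type u} [CommRing Q] [CommRing Q'] [Algebra R Q] [Algebra R Q']
    {T S : Q} {T' S' : Q'} (h : Univ2 R P Q T S) (h' : Univ2 R P' Q' T' S')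
    (hP : ∀ (B : Type u) [CommRing B] [Algebra R B] (t s : B), P B t s ↔ P' B t s) :
    ∃ e : Q ≃ₐ[R] Q', e T = T' ∧ e S = S' := by
  obtain ⟨φ, h1, h2⟩ := h.lift Q' T' S' ((hP _ _ _).2 h'.mem)
  obtain ⟨ψ, h3, h4⟩ := h'.lift Q T S ((hP _ _ _).1 h.mem)
  refine ⟨AlgEquiv.ofAlgHom φ ψ (h'.ext _ _ _ ?_ ?_) (h.ext _ _ _ ?_ ?_), h1, h2⟩ <;> simp [h1, h2, h3, h4]

theorem IsTor.univ2 {Q : Type u} [CommRing Q] [Algebra R Q] {m : R} {T S : Q} (h : IsTor R Q m T S) :
    Univ2 R (fun B _ _ t s => t * s = algebraMap R B m) Q T S := ⟨h.eq, h.lift, h.ext⟩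

theorem Univ2.isTor {Q : Type u} [CommRing Q] [Algebra R Q] {m : R} {T S : Q}
    {P : ∀ (B : Type u) [CommRing B] [Algebra R B], B → B → Prop} (h : Univ2 R P Q T S)
    (hP : ∀ (B : Type u) [CommRing B] [Algebra R B] (t s : B), P B t s ↔ t * s = algebraMap R B m) :
    IsTor R Q m T S :=
  ⟨(hP _ _ _).1 h.mem, fun B _ _ t s hts => h.lift B t s ((hP _ _ _).2 hts), h.ext⟩

/-- A quotient of `A[X]`, where `A` is an algebra. -/
theorem algHom_ext_quot {A : Type u} [CommRing A] [Algebra R A] (I : Ideal A[X]) {B : Type u} [CommRing B]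
    [Algebra R B] (φ ψ : (A[X] ⧸ I) →ₐ[R] B)
    (h1 : φ.comp (IsScalarTower.toAlgHom R A (A[X] ⧸ I)) = ψ.comp (IsScalarTower.toAlgHom R A (A[X] ⧸ I)))
    (h2 : φ (Ideal.Quotient.mk I X) = ψ (Ideal.Quotient.mk I X)) : φ = ψ := by
  apply Ideal.Quotient.algHom_ext
  have h3 : (φ.comp (Ideal.Quotient.mkₐ R I)).comp Polynomial.CAlgHom =
      (ψ.comp (Ideal.Quotient.mkₐ R I)).comp Polynomial.CAlgHom := h1
  exact Polynomial.algHom_ext' h3 h2

theorem exists_algHom_quot {A : Type u} [CommRing A] [Algebra R A] (p q : A[X]) {B : Type u} [CommRing B]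
    [Algebra R B] (φ : A →ₐ[R] B) (t : B) (hp : p.eval₂ φ.toRingHom t = 0) (hq : q.eval₂ φ.toRingHom t = 0) :
    ∃ ψ : (A[X] ⧸ Ideal.span {p, q}) →ₐ[R] B, ψ.comp (IsScalarTower.toAlgHom R A (A[X] ⧸ Ideal.span {p, q})) = φ ∧
      ψ (Ideal.Quotient.mk _ X) = t := by
  let _ : Algebra A B := φ.toRingHom.toAlgebra
  have : IsScalarTower R A B := IsScalarTower.of_algebraMap_eq fun r => (φ.commutes r).symm
  let f : A[X] →ₐ[R] B := (Polynomial.aeval t : A[X] →ₐ[A] B).restrictScalars R
  refine ⟨Ideal.Quotient.liftₐ _ f ?_, ?_, aeval_X _⟩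
  · have : Ideal.span {p, q} ≤ RingHom.ker f.toRingHom := by
      rw [Ideal.span_le]
      rintro _ (rfl | rfl)
      · exact hp
      · exact hq
    exact fun a ha => this ha
  · ext a
    exact aeval_C _ _

/-- The charts of modifications of the affine line. -/
theorem univ_T0 (a b c d : R[X]) : Univ2 R
    (fun B _ _ x w => aeval x a = aeval x b * w ∧ aeval x c = aeval x d * w)
    (K852.PMod.T0 a b c d) (algebraMap R[X] _ X) (Ideal.Quotient.mk _ X) := by
  have hA : ∀ e : R[X], aeval (algebraMap R[X] (K852.PMod.T0 a b c d) X) e = algebraMap R[X] _ e := fun e => by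
    rw [aeval_algebraMap_apply, aeval_X_left_apply]
  refine ⟨?_, ?_, ?_⟩
  · rw [hA, hA, hA, hA]
    constructor
    · have : (Ideal.Quotient.mk (Ideal.span {C a - C b * X, C c - C d * X})) (C a - C b * X) = 0 :=
        Ideal.Quotient.eq_zero_iff_mem.2 (Ideal.subset_span (Set.mem_insert _ _))
      rw [map_sub, map_mul, sub_eq_zero] at this
      exact this
    · have : (Ideal.Quotient.mk (Ideal.span {C a - C b * X, C c - C d * X})) (C c - C d * X) = 0 :=
        Ideal.Quotient.eq_zero_iff_mem.2 (Ideal.subset_span (Set.mem_insert_of_mem _ rfl))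
      rw [map_sub, map_mul, sub_eq_zero] at this
      exact this
  · rintro B _ _ t s ⟨h1, h2⟩
    obtain ⟨ψ, hψ, hψX⟩ := exists_algHom_quot (C a - C b * X) (C c - C d * X) (aeval t : R[X] →ₐ[R] B) s
      (by rw [eval₂_sub, eval₂_mul, eval₂_C, eval₂_C, eval₂_X, sub_eq_zero]; exact h1)
      (by rw [eval₂_sub, eval₂_mul, eval₂_C, eval₂_C, eval₂_X, sub_eq_zero]; exact h2)
    exact ⟨ψ, by simpa using DFunLike.congr_fun hψ X, hψX⟩
  · intro B _ _ φ ψ h1 h2
    exact algHom_ext_quot _ φ ψ (Polynomial.algHom_ext h1) h2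

theorem univ_T1 (a b c d : R[X]) : Univ2 R
    (fun B _ _ x w => aeval x a * w = aeval x b ∧ aeval x c * w = aeval x d)
    (K852.PMod.T1 a b c d) (algebraMap R[X] _ X) (Ideal.Quotient.mk _ X) := by
  have hA : ∀ e : R[X], aeval (algebraMap R[X] (K852.PMod.T1 a b c d) X) e = algebraMap R[X] _ e := fun e => by
    rw [aeval_algebraMap_apply, aeval_X_left_apply]
  refine ⟨?_, ?_, ?_⟩
  · rw [hA, hA, hA, hA]
    constructor
    · have : (Ideal.Quotient.mk (Ideal.span {C a * X - C b, C c * X - C d})) (C a * X - C b) = 0 :=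
        Ideal.Quotient.eq_zero_iff_mem.2 (Ideal.subset_span (Set.mem_insert _ _))
      rw [map_sub, map_mul, sub_eq_zero] at this
      exact this
    · have : (Ideal.Quotient.mk (Ideal.span {C a * X - C b, C c * X - C d})) (C c * X - C d) = 0 :=
        Ideal.Quotient.eq_zero_iff_mem.2 (Ideal.subset_span (Set.mem_insert_of_mem _ rfl))
      rw [map_sub, map_mul, sub_eq_zero] at this
      exact this
  · rintro B _ _ t s ⟨h1, h2⟩
    obtain ⟨ψ, hψ, hψX⟩ := exists_algHom_quot (C a * X - C b) (C c * X - C d) (aeval t : R[X] →ₐ[R] B) s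
      (by rw [eval₂_sub, eval₂_mul, eval₂_C, eval₂_C, eval₂_X, sub_eq_zero]; exact h1)
      (by rw [eval₂_sub, eval₂_mul, eval₂_C, eval₂_C, eval₂_X, sub_eq_zero]; exact h2)
    exact ⟨ψ, by simpa using DFunLike.congr_fun hψ X, hψX⟩
  · intro B _ _ φ ψ h1 h2
    exact algHom_ext_quot _ φ ψ (Polynomial.algHom_ext h1) h2

/-- Polynomial rings over the charts of modifications of the base. -/
theorem univ_T0_poly (a b c d : R) : Univ2 R
    (fun B _ _ _ w => algebraMap R B a = algebraMap R B b * w ∧ algebraMap R B c = algebraMap R B d * w)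
    (K852.PMod.T0 a b c d)[X] X (C (Ideal.Quotient.mk _ X)) := by
  refine ⟨?_, ?_, ?_⟩
  · have h0 : ∀ e : R, algebraMap R (K852.PMod.T0 a b c d)[X] e = C (algebraMap R (K852.PMod.T0 a b c d) e) :=
      fun e => rfl
    rw [h0, h0, h0, h0, ← C_mul, ← C_mul]
    constructor
    · congr 1
      have : (Ideal.Quotient.mk (Ideal.span {C a - C b * X, C c - C d * X})) (C a - C b * X) = 0 :=
        Ideal.Quotient.eq_zero_iff_mem.2 (Ideal.subset_span (Set.mem_insert _ _))
      rw [map_sub, map_mul, sub_eq_zero] at this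
      exact this
    · congr 1
      have : (Ideal.Quotient.mk (Ideal.span {C a - C b * X, C c - C d * X})) (C c - C d * X) = 0 :=
        Ideal.Quotient.eq_zero_iff_mem.2 (Ideal.subset_span (Set.mem_insert_of_mem _ rfl))
      rw [map_sub, map_mul, sub_eq_zero] at this
      exact this
  · rintro B _ _ t s ⟨h1, h2⟩
    obtain ⟨ψ, hψ, hψX⟩ := exists_algHom_quot (C a - C b * X) (C c - C d * X) (Algebra.ofId R B) s
      (by rw [eval₂_sub, eval₂_mul, eval₂_C, eval₂_C, eval₂_X, sub_eq_zero]; exact h1)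
      (by rw [eval₂_sub, eval₂_mul, eval₂_C, eval₂_C, eval₂_X, sub_eq_zero]; exact h2)
    refine ⟨Polynomial.eval₂AlgHom ψ t (fun _ => Commute.all _ _), eval₂_X _ _, ?_⟩
    exact (eval₂_C _ _).trans hψX
  · intro B _ _ φ ψ h1 h2
    refine Polynomial.algHom_ext' ?_ h1
    exact algHom_ext_quot _ _ _ (Algebra.ext_id _ _ _) h2

theorem univ_T1_poly (a b c d : R) : Univ2 R
    (fun B _ _ _ w => algebraMap R B a * w = algebraMap R B b ∧ algebraMap R B c * w = algebraMap R B d)
    (K852.PMod.T1 a b c d)[X] X (C (Ideal.Quotient.mk _ X)) := by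
  refine ⟨?_, ?_, ?_⟩
  · have h0 : ∀ e : R, algebraMap R (K852.PMod.T1 a b c d)[X] e = C (algebraMap R (K852.PMod.T1 a b c d) e) :=
      fun e => rfl
    rw [h0, h0, h0, h0, ← C_mul, ← C_mul]
    constructor
    · congr 1
      have : (Ideal.Quotient.mk (Ideal.span {C a * X - C b, C c * X - C d})) (C a * X - C b) = 0 :=
        Ideal.Quotient.eq_zero_iff_mem.2 (Ideal.subset_span (Set.mem_insert _ _))
      rw [map_sub, map_mul, sub_eq_zero] at this
      exact this
    · congr 1
      have : (Ideal.Quotient.mk (Ideal.span {C a * X - C b, C c * X - C d})) (C c * X - C d) = 0 :=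
        Ideal.Quotient.eq_zero_iff_mem.2 (Ideal.subset_span (Set.mem_insert_of_mem _ rfl))
      rw [map_sub, map_mul, sub_eq_zero] at this
      exact this
  · rintro B _ _ t s ⟨h1, h2⟩
    obtain ⟨ψ, hψ, hψX⟩ := exists_algHom_quot (C a * X - C b) (C c * X - C d) (Algebra.ofId R B) s
      (by rw [eval₂_sub, eval₂_mul, eval₂_C, eval₂_C, eval₂_X, sub_eq_zero]; exact h1)
      (by rw [eval₂_sub, eval₂_mul, eval₂_C, eval₂_C, eval₂_X, sub_eq_zero]; exact h2)
    refine ⟨Polynomial.eval₂AlgHom ψ t (fun _ => Commute.all _ _), eval₂_X _ _, ?_⟩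
    exact (eval₂_C _ _).trans hψX
  · intro B _ _ φ ψ h1 h2
    refine Polynomial.algHom_ext' ?_ h1
    exact algHom_ext_quot _ _ _ (Algebra.ext_id _ _ _) h2

/-- The modification of the base, for the affine line. -/
theorem Res.pmod_poly {f : R[X]} (a b c d : R) (habcd : a * d = b * c)
    (h0 : Res (K852.PMod.T0 a b c d)[X] (f.map (algebraMap R _)))
    (h1 : Res (K852.PMod.T1 a b c d)[X] (f.map (algebraMap R _))) : Res R[X] f := by
  have key : ∀ (Q A : Type u) [CommRing Q] [CommRing A] [Algebra R Q] [Algebra R A] [Algebra R[X] Q]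
      [IsScalarTower R R[X] Q]
      (e : Q ≃ₐ[R] A[X]) (_ : e (algebraMap R[X] Q X) = X),
      e (algebraMap R[X] Q f) = f.map (algebraMap R A) := by
    intro Q A _ _ _ _ _ _ e he
    have h2 : (e.toAlgHom.comp (IsScalarTower.toAlgHom R R[X] Q)) = Polynomial.mapAlgHom (Algebra.ofId R A) := by
      apply Polynomial.algHom_ext
      simp [he]
    exact DFunLike.congr_fun h2 f
  refine Res.pmod (C a) (C b) (C c) (C d) (by rw [← C_mul, ← C_mul, habcd]) ?_ ?_
  · obtain ⟨e, he1, he2⟩ := (univ_T0 (C a) (C b) (C c) (C d)).exists_equiv (univ_T0_poly a b c d)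
      (fun B _ _ t s => by simp only [aeval_C])
    refine Res.of_ringEquiv e.toRingEquiv ?_
    have := key _ _ e he1
    change Res _ (e _)
    rw [this]
    exact h0
  · obtain ⟨e, he1, he2⟩ := (univ_T1 (C a) (C b) (C c) (C d)).exists_equiv (univ_T1_poly a b c d)
      (fun B _ _ t s => by simp only [aeval_C])
    refine Res.of_ringEquiv e.toRingEquiv ?_
    have := key _ _ e he1
    change Res _ (e _)
    rw [this]
    exact h1

end K556.Univ
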